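import Mathlib.RingTheory.KrullDimension.Polynomial
import Mathlib.RingTheory.IntegralClosure.GoingDown
import Mathlib.RingTheory.NoetherNormalization
import Mathlib.RingTheory.Jacobson.Ring
import Mathlib.RingTheory.Ideal.KrullsHeightTheorem
import Mathlib.RingTheory.Polynomial.UniqueFactorization
import Mathlib.RingTheory.Localization.AtPrime.Basic
import Groth.Agent.DimTrdeg.Basic

/-!
# Maximal ideals of affine domains have height equal to the dimension
-/

set_option autoImplicit false

namespace Groth.Agent.ComodBasic

universe u

/-- In a polynomial ring over a field every maximal ideal has height the number of variables. -/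
theorem height_eq_of_isMaximal_mvPolynomial (k : Type u) [Field k] :
    ∀ (n : ℕ) (M : Ideal (MvPolynomial (Fin n) k)), M.IsMaximal → M.height = n := by
  intro n
  induction n with
  | zero =>
    intro M hM
    have h := Ideal.height_le_ringKrullDim_of_ne_top (I := M) hM.ne_top
    rw [MvPolynomial.ringKrullDim_of_isNoetherianRing, ringKrullDim_eq_zero_of_field] at h
    simpa using h
  | succ n ih =>
    intro M hM
    let e := (MvPolynomial.finSuccEquiv k n).toRingEquiv
    let P : Ideal (Polynomial (MvPolynomial (Fin n) k)) := M.map e
    haveI : P.IsMaximal := Ideal.map_isMaximal_of_equiv e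
    let p : Ideal (MvPolynomial (Fin n) k) := P.comap (Polynomial.C)
    haveI hp : p.IsMaximal := Polynomial.isMaximal_comap_C_of_isJacobsonRing P
    haveI : P.LiesOver p := ⟨rfl⟩
    have h1 : P.height = p.height + 1 := Polynomial.height_eq_height_add_one p P
    rw [e.height_map M, ih p hp] at h1
    rw [h1]
    norm_cast

/-- A maximal ideal of an affine domain has height equal to the dimension. -/
theorem exists_height_eq_of_isMaximal (k S : Type u) [Field k] [CommRing S] [IsDomain S]
    [Algebra k S] [Algebra.FiniteType k S] :
    ∃ N : ℕ, ringKrullDim S = N ∧ ∀ M : Ideal S, M.IsMaximal → M.height = N := by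
  obtain ⟨n, g, hg, hint⟩ := exists_integral_inj_algHom_of_fg k S
  letI := g.toRingHom.toAlgebra
  haveI : Algebra.IsIntegral (MvPolynomial (Fin n) k) S := ⟨hint⟩
  haveI : FaithfulSMul (MvPolynomial (Fin n) k) S := (faithfulSMul_iff_algebraMap_injective _ _).mpr hg
  have hdim : ringKrullDim S = n := by
    rw [DimTrdeg.ringKrullDim_eq_of_isIntegral (MvPolynomial (Fin n) k) S hg,
      MvPolynomial.ringKrullDim_of_isNoetherianRing, ringKrullDim_eq_zero_of_field]
    simp
  haveI : IsNoetherianRing S := Algebra.FiniteType.isNoetherianRing k S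
  refine ⟨n, hdim, fun M hM => ?_⟩
  let m : Ideal (MvPolynomial (Fin n) k) := M.under _
  haveI : m.IsMaximal := Ideal.isMaximal_comap_of_isIntegral_of_isMaximal M
  haveI : M.LiesOver m := ⟨rfl⟩
  have h1 := Ideal.height_eq_height_add_of_liesOver_of_hasGoingDown m M
  rw [height_eq_of_isMaximal_mvPolynomial k n m inferInstance] at h1
  refine le_antisymm ?_ (h1 ▸ le_self_add)
  have h := Ideal.height_le_ringKrullDim_of_ne_top (I := M) hM.ne_top
  rw [hdim] at h
  exact_mod_cast h

end Groth.Agent.ComodBasic
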