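import Groth.Agent.ComodBasic.Basic
import Mathlib.RingTheory.SimpleModule.Isotypic
import Mathlib.RingTheory.Artinian.Module
import Mathlib.Order.Atoms
import Mathlib.RingTheory.Artinian.Ring

/-!
# Subcoalgebras, coefficient spaces and cosemisimplicity
-/

namespace Groth.Agent.ComodBasic

open TensorProduct WithConv CoalgebraStruct HopfRep

universe u v w w'

section Regular

variable {k : Type u} [Field k]
variable {C : Type v} [AddCommGroup C] [Module k C] [Coalgebra k C]
variable {V : Type w} [AddCommGroup V] [Module k V] [Comod k C V]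

omit [Coalgebra k C] in
theorem eq_of_forall_dual {x y : C} (h : ∀ ξ : C →ₗ[k] k, ξ x = ξ y) : x = y :=
  sub_eq_zero.1 ((Module.forall_dual_apply_eq_zero_iff k _).1 fun ξ => by
    rw [map_sub, h, sub_self])

theorem counit_smul_regular (φ : Cv k C) (x : C) :
    counit (R := k) (φ • x) = φ.ofConv x := by
  rw [smul_def, act_apply]
  have h' := congrArg φ.ofConv (congrArg (TensorProduct.lid k C)
    (Coalgebra.rTensor_counit_comul (R := k) x))
  simp only [TensorProduct.lid_tmul, one_smul] at h'
  rw [← h']
  change counit (slice φ.ofConv (comul x)) =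
    φ.ofConv (lslice (counit (R := k) (A := C)) (comul x))
  generalize comul (R := k) x = y
  induction y using TensorProduct.induction_on with
  | zero => simp
  | add a b ha hb => simp [ha, hb]
  | tmul a b => simp [mul_comm]

theorem ofConv_smul_regular (ψ φ : Cv k C) (x : C) :
    ψ.ofConv (φ • x) = (ψ * φ).ofConv x := by
  conv_lhs => rw [← counit_smul_regular]
  conv_rhs => rw [← counit_smul_regular]
  rw [mul_smul]

/-- The matrix coefficient map of a comodule given by a functional. -/
noncomputable def coef (ξ : V →ₗ[k] k) : V →ₗ[Cv k C] C where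
  toFun v := lslice (C := C) ξ (Comod.coact (k := k) (A := C) v)
  map_add' a b := by simp
  map_smul' φ v := by
    refine eq_of_forall_dual (k := k) fun ψ => ?_
    have key : ∀ (θ : Cv k C) (w : V),
        θ.ofConv (lslice (C := C) ξ (Comod.coact (k := k) (A := C) w)) = ξ (θ • w) := by
      intro θ w
      rw [smul_def, act_apply]
      generalize Comod.coact (k := k) (A := C) w = y
      induction y using TensorProduct.induction_on with
      | zero => simp
      | add a b ha hb => simp [ha, hb]
      | tmul a b => simp [mul_comm]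
    rw [RingHom.id_apply, ← ofConv_toConv ψ, ofConv_smul_regular, key, key, mul_smul]

theorem coef_apply (ξ : V →ₗ[k] k) (v : V) :
    (coef ξ : V →ₗ[Cv k C] C) v = lslice ξ (Comod.coact (k := k) (A := C) v) := rfl

theorem counit_coef (ξ : V →ₗ[k] k) (v : V) :
    counit (R := k) ((coef ξ : V →ₗ[Cv k C] C) v) = ξ v := by
  conv_rhs => rw [← act_counit (k := k) (C := C) v, act_apply]
  rw [coef_apply]
  generalize Comod.coact (k := k) (A := C) v = y
  induction y using TensorProduct.induction_on with
  | zero => simp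
  | add a b ha hb => simp [ha, hb]
  | tmul a b => simp [mul_comm]

theorem hom_ext_counit {f g : V →ₗ[Cv k C] C}
    (h : ∀ v, counit (R := k) (f v) = counit (R := k) (g v)) : f = g :=
  LinearMap.ext fun v => eq_of_forall_dual (k := k) fun ψ => by
    rw [← ofConv_toConv ψ]
    conv_lhs => rw [← counit_smul_regular, ← map_smul]
    conv_rhs => rw [← counit_smul_regular, ← map_smul]
    exact h _

theorem eq_coef (f : V →ₗ[Cv k C] C) :
    f = coef (counit (R := k) (A := C) ∘ₗ f.restrictScalars k) :=
  hom_ext_counit fun v => by rw [counit_coef]; rfl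

/-- Comodule maps into the regular comodule extend along injective comodule maps. -/
theorem exists_extend {W : Type w'} [AddCommGroup W] [Module k W] [Comod k C W]
    (g : W →ₗ[Cv k C] V) (hg : Function.Injective g) (f : W →ₗ[Cv k C] C) :
    ∃ h : V →ₗ[Cv k C] C, h ∘ₗ g = f := by
  obtain ⟨p, hp⟩ := (g.restrictScalars k).exists_leftInverse_of_injective
    (LinearMap.ker_eq_bot.2 hg)
  refine ⟨coef ((counit (R := k) (A := C) ∘ₗ f.restrictScalars k) ∘ₗ p), hom_ext_counit fun w => ?_⟩
  rw [LinearMap.comp_apply, counit_coef, LinearMap.comp_apply, LinearMap.comp_apply,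
    show p (g w) = w from LinearMap.congr_fun hp w]
  rfl

variable (V) in
/-- The coefficient coalgebra of a comodule, as a submodule of the regular comodule. -/
noncomputable def coeffSub : Submodule (Cv k C) C := ⨆ f : V →ₗ[Cv k C] C, LinearMap.range f

theorem le_coeffSub (f : V →ₗ[Cv k C] C) : LinearMap.range f ≤ coeffSub (k := k) (C := C) V := le_iSup _ f

theorem coact_mem_iff (D : Submodule k C) (v : V) :
    Comod.coact (k := k) (A := C) v ∈ LinearMap.range (D.subtype.lTensor V) ↔
      ∀ f : V →ₗ[Cv k C] C, f v ∈ D := by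
  rw [mem_range_lTensor_iff]
  exact ⟨fun h f => by rw [eq_coef f]; exact h _, fun h ξ => h (coef ξ)⟩

theorem isLeast_coeffSub :
    IsLeast {D' : Submodule k C |
      ∀ e : V, Comod.coact (k := k) (A := C) e ∈ LinearMap.range (LinearMap.lTensor V D'.subtype)}
      ((coeffSub (k := k) (C := C) V).restrictScalars k) := by
  refine ⟨fun e => (coact_mem_iff _ e).2 fun f => le_coeffSub f ⟨e, rfl⟩, fun D hD => ?_⟩
  rw [coeffSub, Submodule.restrictScalars_iSup]
  refine iSup_le fun f => ?_
  rintro _ ⟨e, rfl⟩
  exact (coact_mem_iff D e).1 (hD e) f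

theorem eq_coeffSub_of_isLeast {D : Submodule k C}
    (hD : IsLeast {D' : Submodule k C |
      ∀ e : V, Comod.coact (k := k) (A := C) e ∈ LinearMap.range (LinearMap.lTensor V D'.subtype)}
      D) : D = (coeffSub (k := k) (C := C) V).restrictScalars k :=
  hD.unique isLeast_coeffSub

theorem isFullyInvariant_coeffSub : (coeffSub (k := k) (C := C) V : Submodule (Cv k C) C).IsFullyInvariant := by
  intro h
  refine iSup_le fun f => ?_
  rintro _ ⟨e, rfl⟩
  exact le_coeffSub (h ∘ₗ f) ⟨e, rfl⟩

theorem exists_hom_ne_zero {v : V} (hv : v ≠ 0) : ∃ f : V →ₗ[Cv k C] C, f v ≠ 0 := by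
  obtain ⟨ξ, hξ⟩ : ∃ ξ : V →ₗ[k] k, ξ v ≠ 0 := by
    by_contra h
    push Not at h
    exact hv ((Module.forall_dual_apply_eq_zero_iff k v).1 h)
  exact ⟨coef ξ, fun h => hξ (by rw [← counit_coef (C := C) ξ v, h, map_zero])⟩

theorem finite_coeffSub [Module.Finite k V] :
    Module.Finite k ((coeffSub (k := k) (C := C) V : Submodule (Cv k C) C).restrictScalars k) := by
  let θ : V →ₗ[k] (V →ₗ[k] k) →ₗ[k] C :=
    LinearMap.mk₂ k (fun v ξ => (coef ξ : V →ₗ[Cv k C] C) v)
      (fun a b ξ => map_add _ a b) (fun r a ξ => by simp [coef_apply])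
      (fun v a b => by
        simp only [coef_apply, lslice, LinearMap.comp_apply, LinearMap.rTensor_add,
          LinearMap.add_apply, map_add])
      (fun r v a => by
        simp only [coef_apply, lslice, LinearMap.comp_apply, LinearMap.rTensor_smul,
          LinearMap.smul_apply, map_smul])
  haveI : Module.Finite k (Submodule.map₂ θ ⊤ ⊤) :=
    Module.Finite.iff_fg.2 ((Module.Finite.fg_top).map₂ θ Module.Finite.fg_top)
  refine Submodule.finiteDimensional_of_le (S₂ := Submodule.map₂ θ ⊤ ⊤) ?_
  rw [coeffSub, Submodule.restrictScalars_iSup]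
  refine iSup_le fun f => ?_
  rintro _ ⟨e, rfl⟩
  rw [eq_coef f]
  exact Submodule.apply_mem_map₂ θ (m := e) trivial trivial

/-- Subcoalgebras are the fully invariant submodules of the regular comodule. -/
theorem isSubcoalg_iff (B : Submodule k C) :
    (∀ b ∈ B, comul (R := k) b ∈ LinearMap.range (TensorProduct.map B.subtype B.subtype)) ↔
      ∃ M : Submodule (Cv k C) C, M.IsFullyInvariant ∧ M.restrictScalars k = B := by
  simp only [mem_range_map_iff]
  constructor
  · intro h
    refine ⟨toSub B ((isSubcomod_iff B).2 fun φ b hb => (h b hb).1 φ.ofConv), ?_, rfl⟩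
    intro f b hb
    change f b ∈ B
    rw [eq_coef f]
    exact (h b hb).2 _
  · rintro ⟨M, hM, rfl⟩ b hb
    exact ⟨fun φ => M.smul_mem (toConv φ) hb, fun ξ => hM (coef ξ) hb⟩

theorem isSubcoalg_restrict {M : Submodule (Cv k C) C} (hM : M.IsFullyInvariant) :
    ∀ b ∈ M.restrictScalars k, comul (R := k) b ∈
      LinearMap.range (TensorProduct.map (M.restrictScalars k).subtype
        (M.restrictScalars k).subtype) :=
  (isSubcoalg_iff _).2 ⟨M, hM, rfl⟩

theorem exists_finite_subcoalg (s : Set C) (hs : s.Finite) :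
    ∃ M : Submodule (Cv k C) C, M.IsFullyInvariant ∧ Module.Finite k (M.restrictScalars k) ∧
      s ⊆ M := by
  obtain ⟨M, hM, hsM⟩ := exists_finite_subcomod_of_finite (k := k) (C := C) (V := C) s hs
  refine ⟨⨆ h : C →ₗ[Cv k C] C, M.map h, ?_, ?_, ?_⟩
  · intro g
    refine iSup_le fun h => ?_
    rintro _ ⟨m, hm, rfl⟩
    exact Submodule.mem_iSup_of_mem (g ∘ₗ h) ⟨m, hm, rfl⟩
  · let θ : C →ₗ[k] (C →ₗ[k] k) →ₗ[k] C :=
      LinearMap.mk₂ k (fun v ξ => (coef ξ : C →ₗ[Cv k C] C) v)
        (fun a b ξ => map_add _ a b) (fun r a ξ => by simp [coef_apply])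
        (fun v a b => by
          simp only [coef_apply, lslice, LinearMap.comp_apply, LinearMap.rTensor_add,
            LinearMap.add_apply, map_add])
        (fun r v a => by
          simp only [coef_apply, lslice, LinearMap.comp_apply, LinearMap.rTensor_smul,
            LinearMap.smul_apply, map_smul])
    have hfin : ∀ m : C, ∃ N : Submodule k C, Module.Finite k N ∧ ∀ ξ, θ m ξ ∈ N := by
      intro m
      obtain ⟨N, hN, hN'⟩ := exists_finite_slice_mem
        (TensorProduct.comm k C C (comul (R := k) m))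
      refine ⟨N, hN, fun ξ => ?_⟩
      have e : θ m ξ = slice ξ (TensorProduct.comm k C C (comul (R := k) m)) := by
        change lslice ξ (comul (R := k) m) = _
        generalize comul (R := k) m = y
        induction y using TensorProduct.induction_on with
        | zero => simp
        | add a b ha hb => simp [ha, hb]
        | tmul a b => simp
      rw [e]; exact hN' ξ
    choose N hN hN' using hfin
    obtain ⟨t, ht⟩ := Module.Finite.iff_fg.1 hM
    haveI : ∀ i : {x // x ∈ t}, Module.Finite k (N i.1) := fun i => hN _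
    refine Submodule.finiteDimensional_of_le (S₂ := ⨆ i : {x // x ∈ t}, N i.1) ?_
    rw [Submodule.restrictScalars_iSup]
    refine iSup_le fun h => ?_
    rintro _ ⟨m, hm, rfl⟩
    have hm' : m ∈ Submodule.span k (↑t : Set C) := by rw [ht]; exact hm
    clear hm
    rw [eq_coef h]
    induction hm' using Submodule.span_induction with
    | mem x hx => exact Submodule.mem_iSup_of_mem ⟨x, hx⟩ (hN' x _)
    | zero => simp
    | add a b _ _ ha hb => rw [map_add]; exact add_mem ha hb
    | smul r a _ ha => rw [LinearMap.map_smul_of_tower]; exact Submodule.smul_mem _ r ha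
  · exact fun x hx => Submodule.mem_iSup_of_mem LinearMap.id ⟨x, hsM hx, rfl⟩

theorem exists_simple_le {M : Submodule (Cv k C) V} (hM : M ≠ ⊥) :
    ∃ S ≤ M, IsSimpleModule (Cv k C) S := by
  obtain ⟨x, hxM, hx⟩ := M.exists_mem_ne_zero_of_ne_bot hM
  let P := Submodule.span (Cv k C) {x}
  haveI hP : Module.Finite k (P.restrictScalars k) := finite_span_singleton (k := k) (C := C) x
  haveI : Module.Finite k P := hP
  haveI : IsArtinian (Cv k C) P := isArtinian_of_tower k inferInstance
  haveI : Nontrivial P := (Submodule.nontrivial_iff_ne_bot).2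
    (by simpa [P, Submodule.span_singleton_eq_bot] using hx)
  obtain ⟨S, hS⟩ := IsAtomic.exists_atom (Submodule (Cv k C) P)
  refine ⟨S.map P.subtype, (Submodule.map_subtype_le P S).trans
    ((Submodule.span_singleton_le_iff_mem _ _).2 hxM), ?_⟩
  haveI : IsSimpleModule (Cv k C) S := isSimpleModule_iff_isAtom.2 hS
  let e : S.map P.subtype ≃ₗ[Cv k C] S := (S.equivMapOfInjective _ P.subtype_injective).symm
  exact IsSimpleModule.congr (R := Cv k C) (M := S.map P.subtype) (N := S) e

/-- Every comodule is semisimple if the regular one is. -/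
theorem isSemisimpleModule_of_regular [IsSemisimpleModule (Cv k C) C] :
    IsSemisimpleModule (Cv k C) V := by
  have key : ∀ v : V, ∃ M : Submodule (Cv k C) V, v ∈ M ∧ IsSemisimpleModule (Cv k C) M := by
    intro v
    let M := Submodule.span (Cv k C) {v}
    haveI hM : Module.Finite k (M.restrictScalars k) := finite_span_singleton (k := k) (C := C) v
    let b := Module.finBasis k (M.restrictScalars k)
    have hext : ∀ i, ∃ ξ : V →ₗ[k] k, ξ ∘ₗ (M.restrictScalars k).subtype = b.coord i :=
      fun i => LinearMap.exists_extend _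
    choose ξ hξ using hext
    let Φ : M →ₗ[Cv k C] (Fin (Module.finrank k (M.restrictScalars k)) → C) :=
      LinearMap.pi fun i => (coef (ξ i) : V →ₗ[Cv k C] C) ∘ₗ M.subtype
    refine ⟨M, Submodule.mem_span_singleton_self v, IsSemisimpleModule.of_injective Φ ?_⟩
    refine LinearMap.ker_eq_bot.1 (LinearMap.ker_eq_bot'.2 fun m hm => ?_)
    have : ∀ i, b.coord i ⟨m.1, m.2⟩ = 0 := by
      intro i
      rw [← hξ i]
      have := congrArg (counit (R := k)) (congrFun hm i)
      simpa [Φ, counit_coef] using this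
    exact Subtype.ext (congrArg Subtype.val (b.forall_coord_eq_zero_iff.1 this))
  choose M hvM hM using key
  exact isSemisimpleModule_of_isSemisimpleModule_submodule' hM
    (top_unique fun v _ => Submodule.mem_iSup_of_mem v (hvM v))

theorem isSemisimpleModule_of_simple_fullyInvariant {ι : Type*}
    (D : ι → Submodule (Cv k C) C) (hD : ⨆ i, D i = ⊤) (hinv : ∀ i, (D i).IsFullyInvariant)
    (hne : ∀ i, D i ≠ ⊥)
    (hsimple : ∀ i, ∀ B : Submodule (Cv k C) C, B.IsFullyInvariant → B ≤ D i → B = ⊥ ∨ B = D i) :
    IsSemisimpleModule (Cv k C) C := by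
  refine isSemisimpleModule_of_isSemisimpleModule_submodule' (fun i => ?_) hD
  obtain ⟨S, hS, hSs⟩ := exists_simple_le (hne i)
  have hinvB : (⨆ h : C →ₗ[Cv k C] C, S.map h).IsFullyInvariant := by
    intro g
    refine iSup_le fun h => ?_
    rintro _ ⟨m, hm, rfl⟩
    exact Submodule.mem_iSup_of_mem (g ∘ₗ h) ⟨m, hm, rfl⟩
  have hle : (⨆ h : C →ₗ[Cv k C] C, S.map h) ≤ D i :=
    iSup_le fun h => (Submodule.map_mono hS).trans (Submodule.map_le_iff_le_comap.2 (hinv i h))
  have hSne : S ≠ ⊥ := (Submodule.nontrivial_iff_ne_bot).1 (IsSimpleModule.nontrivial (Cv k C) S)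
  have hBne : (⨆ h : C →ₗ[Cv k C] C, S.map h) ≠ ⊥ := fun h => hSne <| le_bot_iff.1 <|
    h ▸ (Submodule.map_id S).ge.trans (le_iSup (fun h : C →ₗ[Cv k C] C => S.map h) LinearMap.id)
  rw [← (hsimple i _ hinvB hle).resolve_left hBne]
  rw [← iSup_univ]
  refine isSemisimpleModule_biSup_of_isSemisimpleModule_submodule fun h _ => ?_
  haveI : IsSemisimpleModule (Cv k C) S := inferInstance
  rw [show Submodule.map h S = LinearMap.range (h ∘ₗ S.subtype) by
    rw [LinearMap.range_comp, Submodule.range_subtype]]
  exact IsSemisimpleModule.range _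

theorem eq_bot_or_eq_of_mem_isotypicComponents [IsSemisimpleModule (Cv k C) C]
    {c B : Submodule (Cv k C) C} (hc : c ∈ isotypicComponents (Cv k C) C)
    (hB : B.IsFullyInvariant) (hle : B ≤ c) : B = ⊥ ∨ B = c := by
  refine (IsSemisimpleModule.eq_bot_or_exists_simple_le B).imp_right fun ⟨S, hS, _⟩ => ?_
  refine le_antisymm hle ?_
  rw [eq_isotypicComponent_of_le hc (hS.trans hle)]
  exact (isFullyInvariant_iff_le_imp_isotypicComponent_le.1 hB) S hS

theorem exists_decomposition [IsSemisimpleModule (Cv k C) C] :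
    ∃ (ι : Type v) (D : ι → Submodule k C), iSupIndep D ∧ iSup D = ⊤ ∧ ∀ i,
      D i ≠ ⊥ ∧
      (∀ b ∈ (D i), comul (R := k) b ∈
        LinearMap.range (TensorProduct.map (D i).subtype (D i).subtype)) ∧
      ∀ B : Submodule k C, B ≤ D i →
        (∀ b ∈ B, comul (R := k) b ∈ LinearMap.range (TensorProduct.map B.subtype B.subtype)) →
          B = ⊥ ∨ B = D i := by
  let s := isotypicComponents (Cv k C) C
  refine ⟨s, fun c => c.1.restrictScalars k, fun c => ?_, ?_, fun c => ⟨?_, ?_, ?_⟩⟩
  · have h := ((sSupIndep_iff s).1 (sSupIndep_isotypicComponents (R := Cv k C) (M := C))) c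
    rw [disjoint_iff] at h ⊢
    simp only [← Submodule.restrictScalars_iSup, ← Submodule.restrictScalars_inf, h,
      Submodule.restrictScalars_bot]
  · rw [← Submodule.restrictScalars_iSup, ← sSup_eq_iSup', sSup_isotypicComponents,
      Submodule.restrictScalars_top]
  · rw [Ne, Submodule.restrictScalars_eq_bot_iff]
    exact (bot_lt_isotypicComponents c.2).ne'
  · exact isSubcoalg_restrict (.of_mem_isotypicComponents c.2)
  · intro B hB hB'
    obtain ⟨M, hM, rfl⟩ := (isSubcoalg_iff B).1 hB'
    simp only [Submodule.restrictScalars_eq_bot_iff, Submodule.restrictScalars_inj]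
    exact eq_bot_or_eq_of_mem_isotypicComponents c.2 hM ((Submodule.restrictScalars_le k).1 hB)

theorem isSemisimpleModule_of_decomposition
    (h : ∃ (ι : Type v) (D : ι → Submodule k C), iSupIndep D ∧ iSup D = ⊤ ∧ ∀ i,
      D i ≠ ⊥ ∧
      (∀ b ∈ (D i), comul (R := k) b ∈
        LinearMap.range (TensorProduct.map (D i).subtype (D i).subtype)) ∧
      ∀ B : Submodule k C, B ≤ D i →
        (∀ b ∈ B, comul (R := k) b ∈ LinearMap.range (TensorProduct.map B.subtype B.subtype)) →
          B = ⊥ ∨ B = D i) :
    IsSemisimpleModule (Cv k C) C := by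
  obtain ⟨ι, D, -, hsup, hD⟩ := h
  have h' : ∀ i, ∃ M : Submodule (Cv k C) C, M.IsFullyInvariant ∧ M.restrictScalars k = D i :=
    fun i => (isSubcoalg_iff _).1 (hD i).2.1
  choose M hM hMD using h'
  refine isSemisimpleModule_of_simple_fullyInvariant M ?_ hM (fun i => ?_) fun i B hB hle => ?_
  · rw [← Submodule.restrictScalars_eq_top_iff k, Submodule.restrictScalars_iSup, ← hsup]
    exact congrArg iSup (funext hMD)
  · rw [Ne, ← Submodule.restrictScalars_eq_bot_iff k, hMD]; exact (hD i).1
  · refine ((hD i).2.2 _ ?_ (isSubcoalg_restrict hB)).imp (fun e => ?_) fun e => ?_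
    · rw [← hMD]; exact (Submodule.restrictScalars_le k).2 hle
    · exact (Submodule.restrictScalars_eq_bot_iff k _ _).1 e
    · exact Submodule.restrictScalars_injective k _ _ (e.trans (hMD i).symm)

end Regular

end Groth.Agent.ComodBasic
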