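import Groth.Agent.ComodBasic.Basic
import Groth.Agent.ComodBasic.Coalg
import Groth.Prelude.Def_ComodSub

/-!
# Linearly reductive groups: semisimplicity of all comodules and the Reynolds operator
-/

namespace Groth.Agent.ComodBasic

open TensorProduct WithConv CoalgebraStruct HopfRep

universe u v w w'

section SemisimpleAll

variable {k : Type u} [Field k]
variable {C : Type v} [AddCommGroup C] [Module k C] [Coalgebra k C]

/-- If every finite dimensional comodule (in the universe of `C`) is semisimple, then so is every
comodule. -/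
theorem isSemisimpleModule_of_finite
    (hG : ∀ (M : Type v) [AddCommGroup M] [Module k M] [Comod k C M],
      Module.Finite k M → IsSemisimpleComod k C M)
    (V : Type w) [AddCommGroup V] [Module k V] [Comod k C V] :
    IsSemisimpleModule (Cv k C) V := by
  haveI : IsSemisimpleModule (Cv k C) C := by
    have key : ∀ v : C, IsSemisimpleModule (Cv k C) (Submodule.span (Cv k C) {v}) := by
      intro v
      letI cM : Comod k C ((Submodule.span (Cv k C) {v}).restrictScalars k) :=
        ComodSub.Comod.restr (Comod.regular k C) _ (isSubcomod_restrict _)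
      haveI : IsSemisimpleModule (Cv k C) ((Submodule.span (Cv k C) {v}).restrictScalars k) :=
        isSemisimpleComod_iff.1 (hG _ (finite_span_singleton v))
      let g : ((Submodule.span (Cv k C) {v}).restrictScalars k) →ₗ[Cv k C] C :=
        toLin ((Submodule.span (Cv k C) {v}).restrictScalars k).subtype
          (ComodSub.isComodHom_subtype (Comod.regular k C) _ (isSubcomod_restrict _))
      have hr : LinearMap.range g = Submodule.span (Cv k C) {v} := by
        ext x
        exact ⟨fun ⟨y, hy⟩ => hy ▸ y.2, fun hx => ⟨⟨x, hx⟩, rfl⟩⟩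
      rw [← hr]
      exact IsSemisimpleModule.range g
    exact isSemisimpleModule_of_isSemisimpleModule_submodule' key
      (top_unique fun v _ => Submodule.mem_iSup_of_mem v (Submodule.mem_span_singleton_self v))
  exact isSemisimpleModule_of_regular

end SemisimpleAll

section Fixed

variable {k : Type u} [Field k]
variable {A : Type v} [CommRing A] [Bialgebra k A]
variable {V : Type w} [AddCommGroup V] [Module k V] [Comod k A V]
variable {W : Type w'} [AddCommGroup W] [Module k W] [Comod k A W]

theorem mem_fixedPts_iff {v : V} :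
    v ∈ fixedPts k A V ↔ ∀ φ : Cv k A, φ • v = φ.ofConv 1 • v := by
  constructor
  · intro h φ
    rw [smul_def, act_apply, show Comod.coact (k := k) (A := A) v = v ⊗ₜ[k] (1 : A) from h,
      slice_tmul]
  · intro h
    refine eq_of_slice fun φ => ?_
    rw [slice_tmul]
    exact h (toConv φ)

variable (k A V) in
/-- The fixed vectors as a submodule over the convolution algebra. -/
noncomputable def fixedSub : Submodule (Cv k A) V :=
  { (fixedPts k A V).toAddSubmonoid with
    smul_mem' := fun φ v (hv : v ∈ fixedPts k A V) => by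
      show φ • v ∈ fixedPts k A V
      rw [mem_fixedPts_iff.1 hv φ]
      exact Submodule.smul_mem _ _ hv }

@[simp] theorem mem_fixedSub {v : V} : v ∈ fixedSub k A V ↔ v ∈ fixedPts k A V := Iff.rfl

theorem map_mem_fixedPts (f : V →ₗ[Cv k A] W) {v : V} (hv : v ∈ fixedPts k A V) :
    f v ∈ fixedPts k A W :=
  mem_fixedPts_iff.2 fun φ => by
    rw [← map_smul, mem_fixedPts_iff.1 hv φ, LinearMap.map_smul_of_tower]

/-- Two maps with fixed values out of a semisimple comodule agree if they agree on fixed vectors. -/
theorem eq_of_eq_on_fixed [IsSemisimpleModule (Cv k A) V] (f g : V →ₗ[Cv k A] W)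
    (hf : ∀ v, f v ∈ fixedPts k A W) (hg : ∀ v, g v ∈ fixedPts k A W)
    (h : ∀ v ∈ fixedPts k A V, f v = g v) : f = g := by
  obtain ⟨L, hL⟩ := exists_isCompl (LinearMap.ker (f - g))
  have hfix : ∀ l ∈ L, l ∈ LinearMap.ker (f - g) := by
    intro l hl
    have hlf : l ∈ fixedPts k A V := by
      refine mem_fixedPts_iff.2 fun φ => sub_eq_zero.1 ?_
      refine Submodule.disjoint_def.1 hL.disjoint _ ?_ (L.sub_mem (L.smul_mem φ hl) ?_)
      · rw [LinearMap.mem_ker, map_sub, map_smul, LinearMap.map_smul_of_tower,
          mem_fixedPts_iff.1 (show (f - g) l ∈ fixedPts k A W from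
            Submodule.sub_mem _ (hf l) (hg l)) φ, sub_self]
      · exact (L.restrictScalars k).smul_mem _ hl
    simp [h l hlf]
  have hL0 : L = ⊥ := (Submodule.eq_bot_iff L).2 fun l hl =>
    Submodule.disjoint_def.1 hL.disjoint _ (hfix l hl) hl
  subst hL0
  exact sub_eq_zero.1 (LinearMap.ker_eq_top.1 (eq_top_of_isCompl_bot hL))

variable (V) in
/-- A semisimple comodule has an equivariant projection onto its fixed vectors. -/
theorem exists_reynolds [IsSemisimpleModule (Cv k A) V] :
    ∃ E : V →ₗ[Cv k A] V, (∀ v, E v ∈ fixedPts k A V) ∧ ∀ v ∈ fixedPts k A V, E v = v := by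
  obtain ⟨L, hL⟩ := exists_isCompl (fixedSub k A V)
  refine ⟨(fixedSub k A V).subtype ∘ₗ (fixedSub k A V).projectionOnto L hL, fun v => ?_, fun v hv => ?_⟩
  · exact ((fixedSub k A V).projectionOnto L hL v).2
  · exact congrArg Subtype.val (Submodule.projectionOnto_apply_left hL ⟨v, hv⟩)

/-- Fixed vectors lift along surjections from semisimple comodules. -/
theorem exists_fixed_lift [IsSemisimpleModule (Cv k A) V] (f : V →ₗ[Cv k A] W)
    (hf : Function.Surjective f) {w : W} (hw : w ∈ fixedPts k A W) :
    ∃ v ∈ fixedPts k A V, f v = w := by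
  obtain ⟨E, hE, hE'⟩ := exists_reynolds (k := k) (A := A) V
  haveI : IsSemisimpleModule (Cv k A) W :=
    IsSemisimpleModule.congr (f.quotKerEquivOfSurjective hf).symm
  obtain ⟨F, hF, hF'⟩ := exists_reynolds (k := k) (A := A) W
  have h : f ∘ₗ E = F ∘ₗ f :=
    eq_of_eq_on_fixed _ _ (fun v => map_mem_fixedPts f (hE v)) (fun v => hF _) fun v hv => by
      rw [LinearMap.comp_apply, LinearMap.comp_apply, hE' v hv, hF' _ (map_mem_fixedPts f hv)]
  obtain ⟨v, rfl⟩ := hf w
  exact ⟨E v, hE v, (LinearMap.congr_fun h v).trans (hF' _ hw)⟩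

end Fixed

section CoactAlg

variable {k : Type u} [Field k]
variable {A : Type v} [CommRing A] [Bialgebra k A]
variable {R : Type w} [CommRing R] [Algebra k R] [Comod k A R]

/-- Multiplication by a fixed element commutes with a multiplicative coaction. -/
theorem isComodHom_mulRight_of_fixed
    (hmul : ∀ f g : R, Comod.coact (k := k) (A := A) (f * g) =
      Comod.coact (k := k) (A := A) f * Comod.coact (k := k) (A := A) g)
    {y : R} (hy : y ∈ fixedPts k A R) : Hoch.IsComodHom A (LinearMap.mulRight k y) := by
  refine LinearMap.ext fun x => ?_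
  rw [LinearMap.comp_apply, LinearMap.comp_apply, LinearMap.mulRight_apply, hmul,
    show Comod.coact (k := k) (A := A) y = y ⊗ₜ[k] (1 : A) from hy]
  generalize Comod.coact (k := k) (A := A) x = z
  induction z using TensorProduct.induction_on with
  | zero => simp
  | add a b ha hb => simp [add_mul, ha, hb]
  | tmul a b => simp

end CoactAlg

end Groth.Agent.ComodBasic
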