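import Groth.Agent.ComodBasic.Unipotent
import Mathlib.RingTheory.Bialgebra.TensorProduct
import Mathlib.RingTheory.Bialgebra.Hom

namespace Groth.Agent.ComodBasic

open TensorProduct WithConv CoalgebraStruct HopfRep

universe u v w

variable {k : Type u} [Field k] {A : Type v} [CommRing A] [Bialgebra k A]
  {K : Type w} [Field K] [Algebra k K]

theorem includeRight_injective' : Function.Injective fun a : A => (1 : K) ⊗ₜ[k] a :=
  Algebra.TensorProduct.includeRight_injective (algebraMap k K).injective

theorem slice_comul_one_tmul (f : K ⊗[k] A →ₗ[K] K) (a : A) (φ : A →ₗ[k] K)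
    (hφ : ∀ b, φ b = f ((1 : K) ⊗ₜ[k] b)) :
    slice f (comul (R := K) ((1 : K) ⊗ₜ[k] a)) =
      TensorProduct.lift (LinearMap.mk₂ k (fun (x y : A) => φ y • ((1 : K) ⊗ₜ[k] x))
        (fun _ _ _ => by simp [tmul_add, smul_add])
        (fun c x y => by rw [tmul_smul, smul_comm (φ y) c])
        (fun _ _ _ => by rw [map_add, add_smul])
        (fun c x y => by rw [map_smul, smul_assoc]))
        (comul (R := k) a) := by
  simp only [TensorProduct.comul_tmul, CommSemiring.comul_apply]
  generalize comul (R := k) a = z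
  induction z using TensorProduct.induction_on with
  | zero => simp
  | add x y hx hy => rw [tmul_add, map_add, map_add, map_add, hx, hy]
  | tmul x y =>
    simp [hφ]

theorem slice_comul_sub_mem {n : ℕ} {a : A} (ha : a ∈ socSeries k A A (n + 1))
    (f : K ⊗[k] A →ₗ[K] K) (M : Submodule K (K ⊗[k] A))
    (hM : ∀ x ∈ socSeries k A A n, (1 : K) ⊗ₜ[k] x ∈ M) :
    slice f (comul (R := K) ((1 : K) ⊗ₜ[k] a)) - f 1 • ((1 : K) ⊗ₜ[k] a) ∈ M := by
  let φ : A →ₗ[k] K := (f.restrictScalars k) ∘ₗ (TensorProduct.mk k K A 1)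
  rw [slice_comul_one_tmul f a φ fun _ => rfl]
  have hz := (mem_fixStep_iff_coact (socSeries k A A n) a).2 ha
  obtain ⟨z, hz⟩ := hz
  rw [show (comul (R := k) a : A ⊗[k] A) = Comod.coact (k := k) (A := A) a from rfl,
    ← sub_add_cancel (Comod.coact (k := k) (A := A) a) (a ⊗ₜ[k] (1 : A)), ← hz, map_add, lift.tmul]
  simp only [LinearMap.mk₂_apply]
  rw [show φ 1 = f 1 from congrArg f Algebra.TensorProduct.one_def.symm, add_sub_cancel_right]
  clear hz
  induction z using TensorProduct.induction_on with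
  | zero => simp
  | add x y hx hy => rw [map_add, map_add]; exact add_mem hx hy
  | tmul x y =>
    rw [LinearMap.rTensor_tmul, lift.tmul]
    exact M.smul_mem _ (hM _ x.2)

/-- unipotent groups have no characters, over any extension -/
theorem groupLike_eq_one (hU : IsUnipotent k A) {g : K ⊗[k] A} (hg : IsGroupLikeElem K g) :
    g = 1 := by
  by_contra hne
  let F : ℕ → Submodule K (K ⊗[k] A) := fun n =>
    Submodule.span K ((fun x : A => (1 : K) ⊗ₜ[k] x) '' (socSeries k A A n))
  have hstep : ∀ n, g ∈ F (n + 1) → g ∈ F n := by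
    intro n hn
    obtain ⟨f', hf'⟩ := Module.Projective.exists_dual_ne_zero K (sub_ne_zero.2 hne)
    let f := (f' (g - 1))⁻¹ • f'
    have hf : f (g - 1) = 1 := by
      simp only [f, LinearMap.smul_apply, smul_eq_mul]
      exact inv_mul_cancel₀ hf'
    have h : slice f (comul (R := K) g) - f 1 • g ∈ F n := by
      suffices hle : F (n + 1) ≤
          (F n).comap (slice f ∘ₗ comul (R := K) - f 1 • LinearMap.id) from hle hn
      refine Submodule.span_le.2 ?_
      rintro _ ⟨a, ha, rfl⟩
      exact slice_comul_sub_mem ha f (F n) fun x hx => Submodule.subset_span ⟨x, hx, rfl⟩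
    rwa [hg.comul_eq_tmul_self, slice_tmul, ← sub_smul, ← map_sub, hf, one_smul] at h
  have hmem : ∀ y : K ⊗[k] A, ∃ n, y ∈ F n := by
    intro y
    induction y using TensorProduct.induction_on with
    | zero => exact ⟨0, zero_mem _⟩
    | tmul c x =>
      obtain ⟨n, hn⟩ := exists_mem_socSeries hU x
      exact ⟨n, by
        rw [← mul_one c, ← smul_eq_mul, ← smul_tmul']
        exact Submodule.smul_mem _ c (Submodule.subset_span ⟨x, hn, rfl⟩)⟩
    | add x y hx hy =>
      obtain ⟨m, hm⟩ := hx
      obtain ⟨n, hn⟩ := hy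
      have hmono : ∀ {i j}, i ≤ j → F i ≤ F j := fun h =>
        Submodule.span_mono (Set.image_mono (socSeries_mono h))
      exact ⟨max m n, add_mem (hmono (le_max_left m n) hm) (hmono (le_max_right m n) hn)⟩
  obtain ⟨n, hn⟩ := hmem g
  have h0 : g ∈ F 0 := by
    induction n with
    | zero => exact hn
    | succ n ih => exact ih (hstep n hn)
  have h00 : F 0 ≤ ⊥ := Submodule.span_le.2 (by
    rintro _ ⟨x, hx, rfl⟩
    simp [(Submodule.mem_bot _).1 hx])
  exact hg.ne_zero ((Submodule.mem_bot K).1 (h00 h0))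

variable {B : Type v} [CommRing B] [Bialgebra k B]

theorem eq_counit_of_primitive_mod (hB : IsDiagonalizable K (K ⊗[k] B)) {y : K ⊗[k] B}
    (hy : ∀ f : K ⊗[k] B →ₗ[K] K, slice f (comul (R := K) y) - f 1 • y ∈
      Submodule.span K {(1 : K ⊗[k] B)}) :
    y = counit (R := K) y • 1 := by
  classical
  let S : Set (K ⊗[k] B) := {g | IsGroupLikeElem K g}
  let b : Module.Basis S K (K ⊗[k] B) :=
    Module.Basis.mk (linearIndepOn_isGroupLikeElem (R := K) (A := K ⊗[k] B)).linearIndependent
      (by
        rw [show Set.range (fun x : S => id (x : K ⊗[k] B)) = S from Subtype.range_coe]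
        exact top_le_iff.2 hB)
  have hb : ∀ g : S, b g = g.val := fun g => Module.Basis.mk_apply _ _ g
  let o : S := ⟨1, ⟨Bialgebra.counit_one, Bialgebra.comul_one⟩⟩
  have hc : ∀ g : S, g ≠ o → b.repr y g = 0 := by
    intro g hg
    have hb1 : b.coord g 1 = 0 := by
      have h : b.coord g (b o) = 0 := by
        rw [Module.Basis.coord_apply, b.repr_self, Finsupp.single_eq_of_ne hg]
      rwa [hb] at h
    have h := hy (b.coord g)
    rw [hb1, zero_smul, sub_zero] at h
    have hs : slice (b.coord g) (comul (R := K) y) = b.repr y g • b g := by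
      conv_lhs => rw [← b.linearCombination_repr y, Finsupp.linearCombination_apply, Finsupp.sum]
      simp only [map_sum, map_smul]
      have : ∀ i : S, comul (R := K) (b i) = b i ⊗ₜ[K] b i := fun i => by
        rw [hb]; exact i.2.comul_eq_tmul_self
      simp only [this, slice_tmul, Module.Basis.coord_apply, b.repr_self]
      rw [Finset.sum_eq_single g]
      · simp
      · intro i _ hi
        simp [Finsupp.single_eq_of_ne (Ne.symm hi)]
      · intro h; simp [Finsupp.notMem_support_iff.1 h]
    rw [hs] at h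
    obtain ⟨c, hc⟩ := Submodule.mem_span_singleton.1 h
    have h2 := congrArg (b.coord g) hc
    rw [map_smul, map_smul, hb1, smul_zero, Module.Basis.coord_apply, b.repr_self,
      Finsupp.single_eq_same, smul_eq_mul, mul_one] at h2
    exact h2.symm
  have hy1 : y = b.repr y o • (1 : K ⊗[k] B) := by
    have h1 : b.repr y = Finsupp.single o (b.repr y o) := by
      ext g
      rcases eq_or_ne g o with rfl | h
      · rw [Finsupp.single_eq_same]
      · rw [hc g h, Finsupp.single_eq_of_ne h]
    conv_lhs => rw [← b.linearCombination_repr y, h1, Finsupp.linearCombination_single, hb]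
  have h : counit (R := K) y = b.repr y o := by
    conv_lhs => rw [hy1]
    rw [map_smul, Bialgebra.counit_one, smul_eq_mul, mul_one]
  rw [h]
  exact hy1

theorem bialgHom_apply_counit_of_unipotent_source (hU : IsUnipotent k A)
    (hB : IsDiagonalizable K (K ⊗[k] B)) (φ : A →ₐc[k] B) (a : A) :
    φ a = algebraMap k B (counit (R := k) a) := by
  let Φ := Bialgebra.TensorProduct.map (BialgHom.id K K) φ
  obtain ⟨n, hn⟩ := exists_mem_socSeries hU a
  suffices h : (1 : K) ⊗ₜ[k] φ a = (1 : K) ⊗ₜ[k] algebraMap k B (counit (R := k) a) from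
    includeRight_injective' h
  induction n generalizing a with
  | zero => simp [(Submodule.mem_bot _).1 hn]
  | succ n ih =>
    have h := eq_counit_of_primitive_mod hB (y := (1 : K) ⊗ₜ[k] φ a) fun f => by
      let M : Submodule K (K ⊗[k] A) :=
        (Submodule.span K {(1 : K ⊗[k] B)}).comap (Φ : K ⊗[k] A →ₗ[K] K ⊗[k] B)
      have h1 := slice_comul_sub_mem hn (f ∘ₗ (Φ : K ⊗[k] A →ₗ[K] K ⊗[k] B)) M fun x hx => by
        show Φ ((1 : K) ⊗ₜ[k] x) ∈ Submodule.span K {(1 : K ⊗[k] B)}
        rw [Bialgebra.TensorProduct.map_tmul]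
        change (1 : K) ⊗ₜ[k] φ x ∈ Submodule.span K {(1 : K ⊗[k] B)}
        rw [ih x hx, Algebra.algebraMap_eq_smul_one, tmul_smul, ← Algebra.TensorProduct.one_def,
          ← algebraMap_smul K]
        exact Submodule.smul_mem _ _ (Submodule.mem_span_singleton_self _)
      have h2 : Φ (slice (f ∘ₗ (Φ : K ⊗[k] A →ₗ[K] K ⊗[k] B)) (comul (R := K) ((1 : K) ⊗ₜ[k] a))) =
          slice f (comul (R := K) ((1 : K) ⊗ₜ[k] φ a)) := by
        rw [← show Φ ((1 : K) ⊗ₜ[k] a) = (1 : K) ⊗ₜ[k] φ a from rfl,
          ← CoalgHomClass.map_comp_comul_apply Φ]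
        generalize comul (R := K) ((1 : K) ⊗ₜ[k] a) = z
        induction z using TensorProduct.induction_on with
        | zero => simp
        | add x y hx hy => simp only [map_add, hx, hy]
        | tmul x y => simp
      have h3 : Φ (slice (f ∘ₗ (Φ : K ⊗[k] A →ₗ[K] K ⊗[k] B)) (comul (R := K) ((1 : K) ⊗ₜ[k] a)) -
          f (Φ 1) • ((1 : K) ⊗ₜ[k] a)) ∈ Submodule.span K {(1 : K ⊗[k] B)} := h1
      rw [map_sub, map_smul, h2, map_one] at h3
      exact h3
    rw [h, TensorProduct.counit_tmul, CoalgHomClass.counit_comp_apply, Bialgebra.counit_one,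
      Algebra.algebraMap_eq_smul_one, tmul_smul, ← Algebra.TensorProduct.one_def, smul_assoc,
      one_smul]

theorem bialgHom_apply_counit_of_unipotent_target (hU : IsUnipotent k A)
    (hB : IsDiagonalizable K (K ⊗[k] B)) (ψ : B →ₐc[k] A) (b : B) :
    ψ b = algebraMap k A (counit (R := k) b) := by
  let Ψ := Bialgebra.TensorProduct.map (BialgHom.id K K) ψ
  have h : ∀ y : K ⊗[k] B, Ψ y = counit (R := K) y • 1 := by
    intro y
    have hy : y ∈ Submodule.span K {g : K ⊗[k] B | IsGroupLikeElem K g} := by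
      rw [show Submodule.span K {g : K ⊗[k] B | IsGroupLikeElem K g} = ⊤ from hB]; trivial
    induction hy using Submodule.span_induction with
    | mem g hg => rw [groupLike_eq_one hU (hg.map Ψ), hg.counit_eq_one, one_smul]
    | zero => simp
    | add x y _ _ hx hy => rw [map_add, map_add, hx, hy, add_smul]
    | smul c x _ hx => rw [map_smul, map_smul, hx, smul_eq_mul, mul_smul]
  refine includeRight_injective' (K := K) (k := k) ?_
  have h1 := h ((1 : K) ⊗ₜ[k] b)
  rw [TensorProduct.counit_tmul, Bialgebra.TensorProduct.map_tmul] at h1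
  refine h1.trans ?_
  show _ = (1 : K) ⊗ₜ[k] algebraMap k A (counit (R := k) b)
  rw [Algebra.algebraMap_eq_smul_one, tmul_smul, ← Algebra.TensorProduct.one_def,
    Bialgebra.counit_one, smul_assoc, one_smul]

end Groth.Agent.ComodBasic
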