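import Groth.Agent.ComodBasic.Coalg
import Groth.Agent.ComodBasic.Reductive
import Groth.Prelude.Def_ComodSub
import Mathlib.RingTheory.HopfAlgebra.Basic

/-!
# The socle series of a comodule and the coradical filtration
-/

namespace Groth.Agent.ComodBasic

open TensorProduct WithConv CoalgebraStruct HopfRep

universe u v w w'

variable {k : Type u} [Field k] {A : Type v} [CommRing A] [Bialgebra k A]

section Soc

variable {V : Type w} [AddCommGroup V] [Module k V] [Comod k A V]
variable {W : Type w'} [AddCommGroup W] [Module k W] [Comod k A W]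

/-- The vectors that are fixed modulo a submodule. -/
noncomputable def fixStep (F : Submodule (Cv k A) V) : Submodule (Cv k A) V where
  carrier := {v | ∀ φ : Cv k A, φ • v - φ.ofConv 1 • v ∈ F}
  add_mem' {a b} ha hb φ := by
    rw [smul_add, smul_add, add_sub_add_comm]
    exact F.add_mem (ha φ) (hb φ)
  zero_mem' φ := by simp
  smul_mem' ψ v hv φ := by
    have h1 : φ • ψ • v - φ.ofConv 1 • ψ • v =
        (φ • (ψ • v - ψ.ofConv 1 • v) - φ.ofConv 1 • (ψ • v - ψ.ofConv 1 • v)) +
          ψ.ofConv 1 • (φ • v - φ.ofConv 1 • v) := by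
      simp only [smul_sub, smul_comm φ (ψ.ofConv 1) v, smul_comm (φ.ofConv 1) (ψ.ofConv 1) v]
      abel
    rw [h1]
    exact F.add_mem (F.sub_mem (F.smul_mem φ (hv ψ)) (F.smul_of_tower_mem _ (hv ψ)))
      (F.smul_of_tower_mem _ (hv φ))

theorem mem_fixStep {F : Submodule (Cv k A) V} {v : V} :
    v ∈ fixStep F ↔ ∀ φ : Cv k A, φ • v - φ.ofConv 1 • v ∈ F := Iff.rfl

theorem le_fixStep (F : Submodule (Cv k A) V) : F ≤ fixStep F := fun _ hv φ =>
  F.sub_mem (F.smul_mem φ hv) (F.smul_of_tower_mem _ hv)

/-- Membership in `fixStep` only needs the functionals vanishing at `1`. -/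
theorem mem_fixStep_of {F : Submodule (Cv k A) V} {v : V}
    (h : ∀ φ : Cv k A, φ.ofConv 1 = 0 → φ • v ∈ F) : v ∈ fixStep F := by
  intro φ
  have h1 : (φ - φ.ofConv 1 • (1 : Cv k A)).ofConv 1 = 0 := by
    rw [ofConv_sub, ofConv_smul, LinearMap.sub_apply, LinearMap.smul_apply, convOne_eq,
      Bialgebra.counit_one, smul_eq_mul, mul_one, sub_self]
  have h2 := h _ h1
  rwa [sub_smul, smul_assoc, one_smul] at h2

theorem smul_mem_of_fixStep {F : Submodule (Cv k A) V} {v : V} (hv : v ∈ fixStep F) {φ : Cv k A}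
    (hφ : φ.ofConv 1 = 0) : φ • v ∈ F := by
  simpa [hφ] using hv φ

theorem mem_fixStep_iff_coact (F : Submodule (Cv k A) V) (v : V) :
    Comod.coact (k := k) (A := A) v - v ⊗ₜ[k] (1 : A) ∈
      LinearMap.range ((F.restrictScalars k).subtype.rTensor A) ↔ v ∈ fixStep F := by
  rw [mem_range_rTensor_iff, mem_fixStep]
  constructor
  · intro h φ
    have h1 := h φ.ofConv
    rwa [map_sub, slice_tmul] at h1
  · intro h φ
    rw [map_sub, slice_tmul]
    exact h (toConv φ)

variable (k A V) in
/-- The socle series of a comodule with respect to the trivial comodule. -/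
noncomputable def socSeries : ℕ → Submodule (Cv k A) V
  | 0 => ⊥
  | n + 1 => fixStep (socSeries n)

theorem socSeries_mono : Monotone (socSeries k A V) :=
  monotone_nat_of_le_succ fun _ => le_fixStep _

theorem map_socSeries (f : V →ₗ[Cv k A] W) :
    ∀ (n : ℕ) (v : V), v ∈ socSeries k A V n → f v ∈ socSeries k A W n
  | 0, v, hv => by
    rw [show v = 0 from (Submodule.mem_bot _).1 hv, map_zero]
    exact zero_mem _
  | n + 1, v, hv => fun φ => by
    have h := map_socSeries f n _ (hv φ)
    rwa [map_sub, map_smul, LinearMap.map_smul_of_tower] at h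

theorem mem_socSeries_one {v : V} : v ∈ socSeries k A V 1 ↔ v ∈ fixedPts k A V := by
  rw [mem_fixedPts_iff]
  show (∀ φ : Cv k A, φ • v - φ.ofConv 1 • v ∈ (⊥ : Submodule (Cv k A) V)) ↔ _
  simp only [Submodule.mem_bot, sub_eq_zero]

end Soc

section Exhaust

variable {V : Type v} [AddCommGroup V] [Module k V] [Comod k A V]

theorem lt_fixStep (hU : IsUnipotent k A) [Module.Finite k V] {F : Submodule (Cv k A) V}
    (hF : F ≠ ⊤) : F < fixStep F := by
  have hN : IsSubcomod (k := k) (A := A) (F.restrictScalars k) := isSubcomod_restrict F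
  let N : Submodule k V := F.restrictScalars k
  let : Comod k A (V ⧸ N) := ComodSub.Comod.quot (inferInstance : Comod k A V) N hN
  have hmk : ∀ (φ : Cv k A) (v : V), φ • (N.mkQ v) = N.mkQ (φ • v) := fun φ v =>
    ((isComodHom_iff N.mkQ).1 (ComodSub.isComodHom_mkQ (inferInstance : Comod k A V) N hN) φ v).symm
  have hne : Nontrivial (V ⧸ N) :=
    Submodule.Quotient.nontrivial_iff.2 fun h => hF (by
      rwa [Submodule.restrictScalars_eq_top_iff] at h)
  obtain ⟨q, hq, hq0⟩ := Submodule.exists_mem_ne_zero_of_ne_bot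
    (hU (V ⧸ N) inferInstance hne)
  obtain ⟨v, rfl⟩ := N.mkQ_surjective q
  refine lt_of_le_of_ne (le_fixStep F) fun h => hq0 ?_
  refine (Submodule.Quotient.mk_eq_zero N).2 ?_
  show v ∈ F
  rw [h]
  intro φ
  have h1 := mem_fixedPts_iff.1 hq φ
  rw [hmk, ← map_smul] at h1
  exact (Submodule.Quotient.eq N).1 h1

theorem exists_socSeries_eq_top (hU : IsUnipotent k A) [Module.Finite k V] :
    ∃ n, socSeries k A V n = ⊤ := by
  by_contra h
  simp only [not_exists] at h
  have hd : ∀ n, n ≤ Module.finrank k ((socSeries k A V n).restrictScalars k) := by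
    intro n
    induction n with
    | zero => exact Nat.zero_le _
    | succ n ih =>
      refine Nat.lt_of_le_of_lt ih (Submodule.finrank_lt_finrank_of_lt ?_)
      have h1 := lt_fixStep hU (h n)
      refine lt_of_le_of_ne (fun x hx => h1.le hx) fun e => h1.ne ?_
      exact Submodule.restrictScalars_injective k _ _ e
  have := (hd (Module.finrank k V + 1)).trans (Submodule.finrank_le _)
  omega

theorem exists_mem_socSeries (hU : IsUnipotent k A) (v : V) : ∃ n, v ∈ socSeries k A V n := by
  obtain ⟨M, hM, hv⟩ := exists_finite_subcomod_of_finite (k := k) (C := A) {v} (Set.finite_singleton v)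
  let N : Submodule k V := M.restrictScalars k
  have hN : IsSubcomod (k := k) (A := A) N := isSubcomod_restrict M
  let : Comod k A N := ComodSub.Comod.restr (inferInstance : Comod k A V) N hN
  have : Module.Finite k N := hM
  have hi := ComodSub.isComodHom_subtype (inferInstance : Comod k A V) N hN
  obtain ⟨n, hn⟩ := exists_socSeries_eq_top (V := N) hU
  exact ⟨n, map_socSeries (toLin N.subtype hi) n ⟨v, hv rfl⟩ (hn ▸ Submodule.mem_top)⟩

end Exhaust

section Regular

theorem dual_coef {V : Type w} [AddCommGroup V] [Module k V] [Comod k A V] (η : Cv k A)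
    (ξ : V →ₗ[k] k) (v : V) :
    η.ofConv ((coef ξ : V →ₗ[Cv k A] A) v) = ξ (η • v) := by
  rw [← counit_smul_regular, ← map_smul, counit_coef]

theorem socSeries_one_regular :
    (socSeries k A A 1).restrictScalars k = Submodule.span k {(1 : A)} := by
  refine le_antisymm (fun a ha => ?_) (Submodule.span_le.2 (Set.singleton_subset_iff.2 ?_))
  · have h : a = counit (R := k) a • (1 : A) := by
      refine eq_of_forall_dual (k := k) fun ξ => ?_
      have h1 := congrArg (counit (R := k) (A := A))
        (mem_fixedPts_iff.1 (mem_socSeries_one.1 ha) (toConv ξ))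
      rw [counit_smul_regular, map_smul, smul_eq_mul] at h1
      rw [map_smul, smul_eq_mul]
      exact h1.trans (mul_comm _ _)
    exact Submodule.mem_span_singleton.2 ⟨_, h.symm⟩
  · exact mem_socSeries_one.2 (Bialgebra.comul_one (R := k) (A := A))

theorem coef_mem_socSeries (φ : Cv k A) (hφ : φ.ofConv 1 = 0) :
    ∀ (j : ℕ) (b : A), b ∈ socSeries k A A (j + 1) →
      coef (C := A) φ.ofConv b ∈ socSeries k A A j
  | 0, b, hb => by
    refine (Submodule.mem_bot _).2 (eq_of_forall_dual (k := k) fun η => ?_)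
    rw [dual_coef, mem_fixedPts_iff.1 (mem_socSeries_one.1 hb) (toConv η), map_smul, map_zero,
      smul_eq_mul]
    have h : b ∈ Submodule.span k {(1 : A)} := socSeries_one_regular (k := k) (A := A) ▸ hb
    obtain ⟨c, rfl⟩ := Submodule.mem_span_singleton.1 h
    rw [map_smul, hφ, smul_zero, mul_zero]
  | j + 1, b, hb => mem_fixStep_of fun χ hχ => by
    rw [← map_smul]
    exact coef_mem_socSeries φ hφ j _ (smul_mem_of_fixStep hb hχ)

/-- A functional killing the `j`-th step lowers the degree by `j`. -/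
theorem smul_mem_socSeries_of_vanish :
    ∀ (m j : ℕ) (a : A), a ∈ socSeries k A A (m + j) → ∀ ψ : Cv k A,
      (∀ x ∈ socSeries k A A j, ψ.ofConv x = 0) → ψ • a ∈ socSeries k A A m
  | 0, j, a, ha, ψ, hψ => by
    refine (Submodule.mem_bot _).2 (eq_of_forall_dual (k := k) fun η => ?_)
    rw [map_zero, show η (ψ • a) = ψ.ofConv (coef (C := A) η a) from (dual_coef _ _ _).symm]
    refine hψ _ (map_socSeries (coef (C := A) η) j a ?_)
    simpa using ha
  | m + 1, j, a, ha, ψ, hψ => mem_fixStep_of fun φ hφ => by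
    rw [← mul_smul]
    refine smul_mem_socSeries_of_vanish m (j + 1) a ?_ _ fun b hb => ?_
    · rwa [show m + (j + 1) = m + 1 + j by omega]
    · rw [← ofConv_smul_regular, show φ.ofConv (ψ • b) = ψ.ofConv (coef (C := A) φ.ofConv b) from
        (dual_coef _ _ _).symm]
      exact hψ _ (coef_mem_socSeries φ hφ j b hb)

/-- Tensors controlled by two filtrations. -/
theorem mem_iSup_range_map (P Q : ℕ → Submodule k A) (hQ : Monotone Q) (hQ0 : Q 0 = ⊥) (n : ℕ) :
    ∀ (t : ℕ), t ≤ n → ∀ z : A ⊗[k] A, (∀ ξ : A →ₗ[k] k, lslice ξ z ∈ Q t) →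
      (∀ s, s < t → ∀ ψ : A →ₗ[k] k, (∀ x ∈ Q s, ψ x = 0) → slice ψ z ∈ P (n - s)) →
      z ∈ ⨆ s ∈ Finset.range n, LinearMap.range (TensorProduct.mapIncl (P (n - s)) (Q (s + 1)))
  | 0, _, z, h1, _ => by
    rw [eq_zero_of_lslice z fun ξ => (Submodule.mem_bot k).1 (hQ0 ▸ h1 ξ)]
    exact zero_mem _
  | t + 1, htn, z, h1, h2 => by
    obtain ⟨r, hr⟩ := (Q t).subtype.exists_leftInverse_of_injective (Submodule.ker_subtype _)
    let π : A →ₗ[k] A := (Q t).subtype ∘ₗ r
    have hπ : ∀ x ∈ Q t, π x = x := fun x hx => by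
      show ((r x : Q t) : A) = x
      have := LinearMap.congr_fun hr ⟨x, hx⟩
      exact congrArg Subtype.val this
    have hz : z = π.lTensor A z + (LinearMap.id - π).lTensor A z := by
      rw [LinearMap.lTensor_sub, LinearMap.sub_apply, LinearMap.lTensor_id, LinearMap.id_apply]
      abel
    have hmemQ : ∀ x, π x ∈ Q t := fun x => (r x).2
    rw [hz]
    refine add_mem (mem_iSup_range_map P Q hQ hQ0 n t (by omega) _
      (fun ξ => by rw [lslice_lTensor]; exact hmemQ _) fun s hs ψ hψ => ?_) ?_
    · rw [slice_lTensor]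
      refine h2 s (by omega) _ fun x hx => ?_
      rw [LinearMap.comp_apply, hπ x (hQ hs.le hx), hψ x hx]
    · refine Submodule.mem_iSup_of_mem t (Submodule.mem_iSup_of_mem (Finset.mem_range.2 (by omega)) ?_)
      refine (mem_range_map_iff _ _ _).2 ⟨fun ψ => ?_, fun ξ => ?_⟩
      · rw [slice_lTensor]
        refine h2 t (by omega) _ fun x hx => ?_
        rw [LinearMap.comp_apply, LinearMap.sub_apply, LinearMap.id_apply, hπ x hx, sub_self, map_zero]
      · rw [lslice_lTensor, LinearMap.sub_apply, LinearMap.id_apply]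
        exact sub_mem (h1 ξ) (hQ (Nat.le_succ t) (hmemQ _))

theorem comul_mem_socSeries (r : ℕ) (a : A) (ha : a ∈ socSeries k A A (r + 1)) :
    comul (R := k) a ∈ ⨆ i ∈ Finset.range (r + 1), LinearMap.range (TensorProduct.mapIncl
      ((socSeries k A A (i + 1)).restrictScalars k)
      ((socSeries k A A (r - i + 1)).restrictScalars k)) := by
  have h := mem_iSup_range_map (fun n => (socSeries k A A n).restrictScalars k)
    (fun n => (socSeries k A A n).restrictScalars k)
    (fun i j hij x hx => socSeries_mono hij hx) (Submodule.restrictScalars_bot k _ _) (r + 1) (r + 1)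
    le_rfl (comul (R := k) a) (fun ξ => map_socSeries (coef (C := A) ξ) _ a ha)
    (fun s hs ψ hψ => smul_mem_socSeries_of_vanish (r + 1 - s) s a
      (by rwa [show r + 1 - s + s = r + 1 by omega]) (toConv ψ) hψ)
  refine SetLike.le_def.1 (iSup_le fun s => iSup_le fun hs => ?_) h
  have hs' := Finset.mem_range.1 hs
  refine le_trans (le_of_eq ?_)
    (le_iSup₂_of_le (r - s) (Finset.mem_range.2 (by omega)) le_rfl)
  rw [show r - s + 1 = r + 1 - s by omega, show r - (r - s) + 1 = s + 1 by omega]

end Regular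

end Groth.Agent.ComodBasic
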