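import Groth.Agent.ComodBasic.Basic
import Mathlib.RingTheory.HopfAlgebra.Convolution
import Mathlib.RingTheory.Trace.Basic
import Mathlib.LinearAlgebra.Trace

/-!
# Invariant integrals and semisimplicity

A left invariant functional with `α 1 = 1` on a commutative Hopf algebra makes every comodule
semisimple; the trace of multiplication gives one in characteristic zero.
-/

namespace Groth.Agent.ComodBasic

open TensorProduct WithConv CoalgebraStruct HopfRep

universe u v w

section Galois

variable {k : Type u} [CommRing k] {A : Type v} [CommRing A] [HopfAlgebra k A]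

theorem grp1 {G : Type*} [Group G] (a b : G) : (a * b)⁻¹ * a = b⁻¹ := by group

theorem grp2 {G : Type*} [Group G] (a b : G) : b⁻¹ * a⁻¹ = (a * b)⁻¹ := by group

local notation "inl" => (Algebra.TensorProduct.includeLeft : A →ₐ[k] A ⊗[k] A)
local notation "inr" => (Algebra.TensorProduct.includeRight : A →ₐ[k] A ⊗[k] A)
local notation "Sₐ" => HopfAlgebra.antipodeAlgHom k A

theorem conv_apply (f g : A →ₐ[k] A ⊗[k] A) (a : A) :
    (toConv f * toConv g).ofConv a =
      Algebra.TensorProduct.lmul' k (Algebra.TensorProduct.map f g (comul (R := k) a)) := rfl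

theorem inl_mul_inr :
    toConv inl * toConv inr = toConv (Bialgebra.comulAlgHom k A) := by
  apply WithConv.ext
  refine AlgHom.ext fun a => ?_
  rw [conv_apply]
  change _ = comul (R := k) a
  generalize comul (R := k) a = y
  induction y using TensorProduct.induction_on with
  | zero => simp
  | add a b ha hb => simp [ha, hb]
  | tmul a b => simp

theorem comulS_mul_inl :
    toConv ((Bialgebra.comulAlgHom k A).comp Sₐ) * toConv inl =
      toConv (AlgHom.comp inr Sₐ) := by
  change (toConv (Bialgebra.comulAlgHom k A))⁻¹ * toConv inl = (toConv inr)⁻¹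
  rw [← inl_mul_inr]
  exact grp1 (G := WithConv (A →ₐ[k] A ⊗[k] A)) _ _

theorem comul_antipode_mul (b : A) :
    Algebra.TensorProduct.lmul' k
      (Algebra.TensorProduct.map ((Bialgebra.comulAlgHom k A).comp Sₐ) inl (comul (R := k) b)) =
      (1 : A) ⊗ₜ[k] HopfAlgebra.antipode k b := by
  rw [← conv_apply, comulS_mul_inl]
  rfl

theorem comul_antipode (a : A) :
    comul (R := k) (HopfAlgebra.antipode k a) =
      Algebra.TensorProduct.lmul' k
        (Algebra.TensorProduct.map (AlgHom.comp inr Sₐ) (AlgHom.comp inl Sₐ) (comul (R := k) a)) := by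
  rw [← conv_apply]
  have h : toConv (AlgHom.comp inr Sₐ) * toConv (AlgHom.comp inl Sₐ) =
      toConv ((Bialgebra.comulAlgHom k A).comp Sₐ) := by
    change (toConv inr)⁻¹ * (toConv inl)⁻¹ = (toConv (Bialgebra.comulAlgHom k A))⁻¹
    rw [← inl_mul_inr]
    exact grp2 (G := WithConv (A →ₐ[k] A ⊗[k] A)) _ _
  rw [h]
  rfl

theorem antipode_antipode (a : A) : HopfAlgebra.antipode k (HopfAlgebra.antipode k a) = a := by
  have h : toConv ((Sₐ).comp Sₐ) = toConv (AlgHom.id k A) := by
    change (toConv Sₐ)⁻¹ = _
    exact (eq_inv_of_mul_eq_one_right (AlgHom.antipode_id_cancel (R := k) (A := A))).symm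
  exact DFunLike.congr_fun (congrArg WithConv.ofConv h) a

/-- A left invariant functional: `(id ⊗ α) Δ x = α x`. -/
def IsLeftInt (α : A →ₗ[k] k) : Prop := ∀ x : A, slice α (comul (R := k) x) = α x • (1 : A)

theorem slice_mul_tmul_one (α : A →ₗ[k] k) (z : A ⊗[k] A) (y : A) :
    slice α (z * (y ⊗ₜ[k] 1)) = slice α z * y := by
  induction z using TensorProduct.induction_on with
  | zero => simp
  | add a b ha hb => simp [add_mul, ha, hb]
  | tmul a b => simp [Algebra.TensorProduct.tmul_mul_tmul]

/-- The form `B b a = α (a * S b)`. -/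
noncomputable def form (α : A →ₗ[k] k) : A →ₗ[k] A →ₗ[k] k :=
  ((LinearMap.mul k A).flip ∘ₗ HopfAlgebra.antipode k).compr₂ α

theorem form_apply (α : A →ₗ[k] k) (b a : A) :
    form α b a = α (a * HopfAlgebra.antipode k b) := rfl

theorem IsLeftInt.balanced {α : A →ₗ[k] k} (hα : IsLeftInt α) (a b : A) :
    slice (form α b) (comul (R := k) a) =
      lslice (C := A) ((form α).flip a) (comul (R := k) b) := by
  have hl : slice (form α b) (comul (R := k) a) =
      slice α (comul (R := k) a * ((1 : A) ⊗ₜ[k] HopfAlgebra.antipode k b)) := by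
    generalize comul (R := k) a = y
    induction y using TensorProduct.induction_on with
    | zero => simp
    | add a b ha hb => simp [add_mul, ha, hb]
    | tmul c d => simp [form_apply, Algebra.TensorProduct.tmul_mul_tmul]
  rw [hl, ← comul_antipode_mul]
  generalize comul (R := k) b = y
  induction y using TensorProduct.induction_on with
  | zero => simp
  | add a b ha hb => simp [mul_add, ha, hb]
  | tmul c d =>
    simp only [Algebra.TensorProduct.map_tmul, Algebra.TensorProduct.lmul'_apply_tmul,
      AlgHom.comp_apply, Bialgebra.comulAlgHom_apply, Algebra.TensorProduct.includeLeft_apply]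
    rw [← mul_assoc, ← Bialgebra.comul_mul, slice_mul_tmul_one, hα]
    simp [form_apply]

theorem IsLeftInt.of_right {α : A →ₗ[k] k}
    (h : ∀ x : A, lslice α (comul (R := k) x) = α x • (1 : A)) :
    IsLeftInt (α ∘ₗ HopfAlgebra.antipode k) := by
  intro x
  have key : HopfAlgebra.antipode k (slice (α ∘ₗ HopfAlgebra.antipode k) (comul (R := k) x)) =
      lslice α (comul (R := k) (HopfAlgebra.antipode k x)) := by
    rw [comul_antipode]
    generalize comul (R := k) x = y
    induction y using TensorProduct.induction_on with
    | zero => simp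
    | add a b ha hb => simp [ha, hb]
    | tmul c d => simp [Algebra.TensorProduct.tmul_mul_tmul]
  have := congrArg (HopfAlgebra.antipode k) key
  rw [antipode_antipode, h, map_smul, HopfAlgebra.antipode_one] at this
  simpa using this

theorem isLeftInt_of_isComodHom_trivial {α : A →ₗ[k] k}
    (hα : @Hoch.IsComodHom k _ A _ _ _ A _ _ _ k _ _ (Comod.trivial k A k) α) :
    IsLeftInt (α ∘ₗ HopfAlgebra.antipode k) := by
  refine IsLeftInt.of_right fun x => ?_
  have hx := congrArg (TensorProduct.lid k A) (LinearMap.congr_fun hα x)
  simp only [LinearMap.comp_apply, Comod.trivial, LinearMap.flip_apply, TensorProduct.mk_apply,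
    TensorProduct.lid_tmul] at hx
  exact hx.symm

theorem isLeftInt_trace {K : Type u} [Field K] {A : Type v} [CommRing A] [HopfAlgebra K A]
    [Module.Finite K A] : IsLeftInt (Algebra.trace K A) := by
  intro x
  let toR : A →ₐ[K] A ⊗[K] A := Bialgebra.comulAlgHom K A
  let toR' : A →ₐ[K] A ⊗[K] A :=
    (toConv (AlgHom.comp (Algebra.TensorProduct.includeLeft : A →ₐ[K] A ⊗[K] A)
        (HopfAlgebra.antipodeAlgHom K A)) *
      toConv (Algebra.TensorProduct.includeRight : A →ₐ[K] A ⊗[K] A)).ofConv
  let T : A ⊗[K] A →ₐ[A] A ⊗[K] A :=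
    Algebra.TensorProduct.lift (Algebra.ofId A (A ⊗[K] A)) toR fun a b => mul_comm _ _
  let T' : A ⊗[K] A →ₐ[A] A ⊗[K] A :=
    Algebra.TensorProduct.lift (Algebra.ofId A (A ⊗[K] A)) toR' fun a b => mul_comm _ _
  have hT : ∀ a b, T (a ⊗ₜ b) = (a ⊗ₜ[K] (1 : A)) * toR b := fun a b => by
    exact Algebra.TensorProduct.lift_tmul _ _ _ a b
  have hT' : ∀ a b, T' (a ⊗ₜ b) = (a ⊗ₜ[K] (1 : A)) * toR' b := fun a b => by
    exact Algebra.TensorProduct.lift_tmul _ _ _ a b
  have hTl : (T.restrictScalars K).comp Algebra.TensorProduct.includeLeft =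
      (Algebra.TensorProduct.includeLeft : A →ₐ[K] A ⊗[K] A) :=
    AlgHom.ext fun a => by simp [hT]
  have hT'l : (T'.restrictScalars K).comp Algebra.TensorProduct.includeLeft =
      (Algebra.TensorProduct.includeLeft : A →ₐ[K] A ⊗[K] A) :=
    AlgHom.ext fun a => by simp [hT']
  have hTr : (T.restrictScalars K).comp Algebra.TensorProduct.includeRight = toR :=
    AlgHom.ext fun a => by simp [hT, ← Algebra.TensorProduct.one_def]
  have hT'r : (T'.restrictScalars K).comp Algebra.TensorProduct.includeRight = toR' :=
    AlgHom.ext fun a => by simp [hT', ← Algebra.TensorProduct.one_def]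
  have h1 : (T.restrictScalars K).comp toR' =
      (Algebra.TensorProduct.includeRight : A →ₐ[K] A ⊗[K] A) := by
    apply WithConv.toConv_injective
    rw [AlgHom.comp_convMul_distrib]
    simp only [← AlgHom.comp_assoc, hTl, hTr, toR, toConv_ofConv]
    rw [← inl_mul_inr]
    exact inv_mul_cancel_left (toConv (Algebra.TensorProduct.includeLeft : A →ₐ[K] A ⊗[K] A))
      (toConv Algebra.TensorProduct.includeRight)
  have h2 : (T'.restrictScalars K).comp toR =
      (Algebra.TensorProduct.includeRight : A →ₐ[K] A ⊗[K] A) := by
    apply WithConv.toConv_injective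
    simp only [toR]
    rw [← show (toConv (Algebra.TensorProduct.includeLeft : A →ₐ[K] A ⊗[K] A) *
        toConv Algebra.TensorProduct.includeRight).ofConv = Bialgebra.comulAlgHom K A by
      rw [inl_mul_inr], AlgHom.comp_convMul_distrib]
    simp only [ofConv_toConv, hT'l, hT'r, toR', toConv_ofConv]
    exact mul_inv_cancel_left (toConv (Algebra.TensorProduct.includeLeft : A →ₐ[K] A ⊗[K] A))
      (toConv Algebra.TensorProduct.includeRight)
  let E : A ⊗[K] A ≃ₐ[A] A ⊗[K] A := AlgEquiv.ofAlgHom T T'
    (Algebra.TensorProduct.ext (Subsingleton.elim _ _) (AlgHom.ext fun a => by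
      have e := DFunLike.congr_fun h1 a
      simpa [hT', ← Algebra.TensorProduct.one_def] using e))
    (Algebra.TensorProduct.ext (Subsingleton.elim _ _) (AlgHom.ext fun a => by
      have e := DFunLike.congr_fun h2 a
      simpa [hT, ← Algebra.TensorProduct.one_def] using e))
  have htr : ∀ b : A, Algebra.trace A (A ⊗[K] A) ((1 : A) ⊗ₜ[K] b) =
      algebraMap K A (Algebra.trace K A b) := fun b => by
    rw [Algebra.trace_apply, ← Algebra.baseChange_lmul, LinearMap.trace_baseChange,
      Algebra.trace_apply]
  have hE : Algebra.trace A (A ⊗[K] A) (comul (R := K) x) =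
      Algebra.trace A (A ⊗[K] A) ((1 : A) ⊗ₜ[K] x) := by
    rw [← Algebra.trace_eq_of_algEquiv E ((1 : A) ⊗ₜ[K] x)]
    congr 1
    simp [E, hT, toR, ← Algebra.TensorProduct.one_def]
  have hs : ∀ z : A ⊗[K] A, Algebra.trace A (A ⊗[K] A) z = slice (Algebra.trace K A) z := by
    intro z
    induction z using TensorProduct.induction_on with
    | zero => simp
    | add a b ha hb => simp [ha, hb]
    | tmul a b =>
      rw [show a ⊗ₜ[K] b = a • ((1 : A) ⊗ₜ[K] b) by simp [TensorProduct.smul_tmul'],
        map_smul, htr]
      simp [TensorProduct.smul_tmul', Algebra.smul_def, mul_comm]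
  rw [← hs, hE, htr, Algebra.algebraMap_eq_smul_one]

end Galois

section Average

variable {k : Type u} [CommRing k] {A : Type v} [CommRing A] [HopfAlgebra k A]
variable {V : Type w} [AddCommGroup V] [Module k V] [Comod k A V]

/-- Averaging a linear map with a functional. -/
noncomputable def average (α : A →ₗ[k] k) (p : V →ₗ[k] V) : V →ₗ[k] V :=
  TensorProduct.lift
    (LinearMap.mk₂ k (fun (v : V) (b : A) => act (form α b) (p v))
      (fun v v' b => by simp) (fun r v b => by simp)
      (fun v b b' => by
        rw [map_add]; exact slice_add _ _ _)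
      (fun r v b => by
        rw [map_smul]; exact slice_smul _ _ _)) ∘ₗ Comod.coact (k := k) (A := A)

theorem average_id {α : A →ₗ[k] k} (h1 : α 1 = 1) (v : V) :
    average α LinearMap.id v = v := by
  have key : ∀ x : V ⊗[k] A,
      (TensorProduct.lift (LinearMap.mk₂ k (fun (v : V) (b : A) => act (form α b) v)
        (fun v v' b => by simp) (fun r v b => by simp)
        (fun v b b' => by rw [map_add]; exact slice_add _ _ _)
        (fun r v b => by rw [map_smul]; exact slice_smul _ _ _))) x =
      slice (α ∘ₗ LinearMap.mul' k A ∘ₗ (HopfAlgebra.antipode k).lTensor A)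
        ((TensorProduct.assoc k V A A) ((Comod.coact (k := k) (A := A)).rTensor A x)) := by
    intro x
    induction x using TensorProduct.induction_on with
    | zero => simp
    | add a b ha hb => simp [ha, hb]
    | tmul a b =>
      simp only [TensorProduct.lift.tmul, LinearMap.mk₂_apply, act_apply, LinearMap.rTensor_tmul]
      generalize Comod.coact (k := k) (A := A) a = y
      induction y using TensorProduct.induction_on with
      | zero => simp
      | add c d hc hd => simp [TensorProduct.add_tmul, hc, hd]
      | tmul c d => simp [form_apply]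
  have h := LinearMap.congr_fun (Comod.coassoc (k := k) (A := A) (V := V)) v
  simp only [LinearMap.comp_apply, LinearEquiv.coe_coe] at h
  refine (key _).trans ?_
  rw [h, slice_lTensor, ← act_apply]
  conv_rhs => rw [← act_counit (k := k) (C := A) v]
  congr 2
  ext a
  simp [HopfAlgebra.mul_antipode_lTensor_comul_apply, Algebra.algebraMap_eq_smul_one, h1]

theorem average_commute {α : A →ₗ[k] k} (hα : IsLeftInt α) (p : V →ₗ[k] V) (φ : Cv k A)
    (v : V) : average α p (φ • v) = φ • average α p v := by
  simp only [average, LinearMap.comp_apply, smul_def]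
  rw [coact_act]
  generalize Comod.coact (k := k) (A := A) v = x
  induction x using TensorProduct.induction_on with
  | zero => simp
  | add a b ha hb => simp [ha, hb]
  | tmul a b =>
    simp only [LinearMap.lTensor_tmul, TensorProduct.lift.tmul, LinearMap.mk₂_apply]
    rw [act_act]
    congr 2
    ext c
    change form α (act φ.ofConv b) c =
      LinearMap.mul' k k (TensorProduct.map φ.ofConv (form α b) (comul (R := k) c))
    have e : LinearMap.mul' k k (TensorProduct.map φ.ofConv (form α b) (comul (R := k) c)) =
        φ.ofConv (slice (form α b) (comul (R := k) c)) := by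
      generalize comul (R := k) c = y
      induction y using TensorProduct.induction_on with
      | zero => simp
      | add a b ha hb => simp [ha, hb]
      | tmul c d => simp [mul_comm]
    rw [e, hα.balanced, act_apply, ← LinearMap.flip_apply (f := form α)]
    change (form α).flip c (slice φ.ofConv (comul (R := k) b)) =
      φ.ofConv (lslice ((form α).flip c) (comul (R := k) b))
    generalize comul (R := k) b = y
    induction y using TensorProduct.induction_on with
    | zero => simp
    | add a b ha hb => simp only [map_add, ha, hb]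
    | tmul c d => simp [mul_comm]

theorem isSemisimpleModule_of_isLeftInt {k : Type u} [Field k] {A : Type v} [CommRing A] [HopfAlgebra k A]
    {V : Type w} [AddCommGroup V] [Module k V] [Comod k A V]
    {α : A →ₗ[k] k} (hα : IsLeftInt α) (h1 : α 1 = 1) :
    IsSemisimpleModule (Cv k A) V := by
  refine (isSemisimpleModule_iff (Cv k A) V).2 ⟨fun N => ?_⟩
  obtain ⟨p₀, hp₀⟩ := LinearMap.exists_leftInverse_of_injective (N.restrictScalars k).subtype
    (Submodule.ker_subtype _)
  let p : V →ₗ[k] V := (N.restrictScalars k).subtype ∘ₗ p₀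
  have hpN : ∀ v, p v ∈ N := fun v => (p₀ v).2
  have hfix : ∀ w ∈ N, p w = w := fun w hw =>
    congrArg Subtype.val (LinearMap.congr_fun hp₀ (⟨w, hw⟩ : N.restrictScalars k))
  have hmem : ∀ v, average α p v ∈ N := by
    intro v
    simp only [average, LinearMap.comp_apply]
    generalize Comod.coact (k := k) (A := A) v = x
    induction x using TensorProduct.induction_on with
    | zero => simp
    | add a b ha hb => rw [map_add]; exact N.add_mem ha hb
    | tmul a b => exact N.smul_mem (toConv (form α b)) (hpN a)
  let P : V →ₗ[Cv k A] N :=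
    { toFun := fun v => ⟨average α p v, hmem v⟩
      map_add' := fun a b => Subtype.ext (map_add _ a b)
      map_smul' := fun φ v => Subtype.ext (average_commute hα p φ v) }
  refine ⟨_, LinearMap.isCompl_of_proj (f := P) fun w => Subtype.ext ?_⟩
  change average α p w = w
  have hw : Comod.coact (k := k) (A := A) (w : V) ∈
      LinearMap.range ((N.restrictScalars k).subtype.rTensor A) := isSubcomod_restrict N _ w.2
  obtain ⟨y, hy⟩ := hw
  conv_rhs => rw [← average_id h1 (w : V)]
  simp only [average, LinearMap.comp_apply, ← hy]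
  clear hy
  induction y using TensorProduct.induction_on with
  | zero => simp
  | add a b ha hb => simp only [map_add, ha, hb]
  | tmul a b => simp [hfix a.1 a.2]

end Average

end Groth.Agent.ComodBasic
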