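import Groth.Prelude.Def_HopfRep
import Groth.Prelude.Def_Hoch
import Mathlib.RingTheory.Coalgebra.Convolution
import Mathlib.RingTheory.SimpleModule.Basic
import Mathlib.LinearAlgebra.DirectSum.Finsupp
import Mathlib.RingTheory.Flat.Basic
import Mathlib.LinearAlgebra.Dual.Lemmas
import Mathlib.LinearAlgebra.TensorProduct.RightExactness

/-!
# Comodules as modules over the dual convolution algebra

For a coalgebra `C` over `k`, every right comodule `V` is a module over
`Cv k C = WithConv (C →ₗ[k] k)`.  Over a field the subcomodules are exactly the submodules and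
the comodule maps exactly the linear maps, so the theory of semisimple modules applies.
-/

namespace Groth.Agent.ComodBasic

open TensorProduct WithConv CoalgebraStruct HopfRep

universe u v w w'

/-- The convolution algebra of functionals on a coalgebra. -/
abbrev Cv (k : Type u) (C : Type v) [CommRing k] [AddCommGroup C] [Module k C] : Type max u v :=
  WithConv (C →ₗ[k] k)

/-- Shortcut: found without nested instance search. -/
noncomputable scoped instance cvRing {k : Type u} {C : Type v} [CommRing k] [AddCommGroup C]
    [Module k C] [Coalgebra k C] : Ring (Cv k C) :=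
  LinearMap.convRing

section Slice

variable {k : Type u} [CommRing k]
variable {C : Type v} [AddCommGroup C] [Module k C]
variable {V : Type w} [AddCommGroup V] [Module k V]
variable {W : Type w'} [AddCommGroup W] [Module k W]

/-- Contract the right factor with a functional. -/
noncomputable def slice (φ : C →ₗ[k] k) : V ⊗[k] C →ₗ[k] V :=
  (TensorProduct.rid k V).toLinearMap ∘ₗ φ.lTensor V

@[simp] theorem slice_tmul (φ : C →ₗ[k] k) (v : V) (c : C) : slice φ (v ⊗ₜ[k] c) = φ c • v := by
  simp [slice]

/-- Contract the left factor with a functional. -/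
noncomputable def lslice (ξ : V →ₗ[k] k) : V ⊗[k] C →ₗ[k] C :=
  (TensorProduct.lid k C).toLinearMap ∘ₗ ξ.rTensor C

@[simp] theorem lslice_tmul (ξ : V →ₗ[k] k) (v : V) (c : C) :
    lslice ξ (v ⊗ₜ[k] c) = ξ v • c := by
  simp [lslice]

theorem slice_rTensor (φ : C →ₗ[k] k) (f : V →ₗ[k] W) (x : V ⊗[k] C) :
    slice φ (f.rTensor C x) = f (slice φ x) := by
  induction x using TensorProduct.induction_on with
  | zero => simp
  | tmul v c => simp
  | add a b ha hb => simp [ha, hb]

theorem lslice_lTensor {D : Type*} [AddCommGroup D] [Module k D] (ξ : V →ₗ[k] k) (f : C →ₗ[k] D)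
    (x : V ⊗[k] C) : lslice ξ (f.lTensor V x) = f (lslice ξ x) := by
  induction x using TensorProduct.induction_on with
  | zero => simp
  | tmul v c => simp
  | add a b ha hb => simp [ha, hb]

theorem lslice_rTensor (ξ : W →ₗ[k] k) (f : V →ₗ[k] W) (x : V ⊗[k] C) :
    lslice ξ (f.rTensor C x) = lslice (ξ ∘ₗ f) x := by
  induction x using TensorProduct.induction_on with
  | zero => simp
  | tmul v c => simp
  | add a b ha hb => simp [ha, hb]

theorem slice_lTensor {D : Type*} [AddCommGroup D] [Module k D] (φ : D →ₗ[k] k) (f : C →ₗ[k] D)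
    (x : V ⊗[k] C) : slice φ (f.lTensor V x) = slice (φ ∘ₗ f) x := by
  induction x using TensorProduct.induction_on with
  | zero => simp
  | tmul v c => simp
  | add a b ha hb => simp [ha, hb]

theorem slice_add (φ ψ : C →ₗ[k] k) (x : V ⊗[k] C) :
    slice (φ + ψ) x = slice φ x + slice ψ x := by
  simp [slice, LinearMap.lTensor_add]

theorem slice_zero (x : V ⊗[k] C) : slice (0 : C →ₗ[k] k) x = 0 := by
  simp [slice, LinearMap.lTensor_zero]

theorem slice_smul (r : k) (φ : C →ₗ[k] k) (x : V ⊗[k] C) :
    slice (r • φ) x = r • slice φ x := by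
  simp [slice, LinearMap.lTensor_smul]

/-- `slice` as a bilinear map. -/
noncomputable def sliceₗ (x : V ⊗[k] C) : (C →ₗ[k] k) →ₗ[k] V where
  toFun φ := slice φ x
  map_add' φ ψ := slice_add φ ψ x
  map_smul' r φ := slice_smul r φ x

theorem exists_finite_slice_mem (x : V ⊗[k] C) :
    ∃ N : Submodule k V, Module.Finite k N ∧ ∀ φ : C →ₗ[k] k, slice φ x ∈ N := by
  induction x using TensorProduct.induction_on with
  | zero => exact ⟨⊥, Module.Finite.bot k V, by simp⟩
  | tmul v c =>
    exact ⟨Submodule.span k {v}, Module.Finite.span_of_finite k (Set.finite_singleton v),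
      fun φ => by simpa using Submodule.smul_mem _ _ (Submodule.mem_span_singleton_self v)⟩
  | add a b ha hb =>
    obtain ⟨N, hN, hN'⟩ := ha
    obtain ⟨M, hM, hM'⟩ := hb
    exact ⟨N ⊔ M, Submodule.finite_sup N M, fun φ => by
      rw [map_add]; exact Submodule.add_mem_sup (hN' φ) (hM' φ)⟩

end Slice

section Field

variable {k : Type u} [Field k]
variable {C : Type v} [AddCommGroup C] [Module k C]
variable {V : Type w} [AddCommGroup V] [Module k V]

theorem eq_zero_of_slice (x : V ⊗[k] C) (h : ∀ φ : C →ₗ[k] k, slice φ x = 0) : x = 0 := by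
  classical
  let b := Module.Free.chooseBasis k C
  have key : TensorProduct.equivFinsuppOfBasisRight (M := V) b x = 0 := by
    ext i
    have h' : TensorProduct.equivFinsuppOfBasisRight (M := V) b x i = slice (b.coord i) x := by
      clear h
      induction x using TensorProduct.induction_on with
      | zero => simp
      | tmul v c => simp [Module.Basis.coord]
      | add a b ha hb => simp [ha, hb]
    rw [h', h, Finsupp.zero_apply]
  exact (LinearEquiv.map_eq_zero_iff _).1 key

theorem eq_of_slice {x y : V ⊗[k] C} (h : ∀ φ : C →ₗ[k] k, slice φ x = slice φ y) : x = y :=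
  sub_eq_zero.1 (eq_zero_of_slice _ fun φ => by rw [map_sub, h, sub_self])

theorem eq_zero_of_lslice (x : V ⊗[k] C) (h : ∀ ξ : V →ₗ[k] k, lslice ξ x = 0) : x = 0 := by
  refine (LinearEquiv.map_eq_zero_iff (TensorProduct.comm k V C)).1 (eq_zero_of_slice _ fun ξ => ?_)
  rw [← h ξ]
  clear h
  induction x using TensorProduct.induction_on with
  | zero => simp
  | tmul v c => simp
  | add a b ha hb => simp [ha, hb]

theorem mem_range_rTensor_iff (W : Submodule k V) (x : V ⊗[k] C) :
    x ∈ LinearMap.range (W.subtype.rTensor C) ↔ ∀ φ : C →ₗ[k] k, slice φ x ∈ W := by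
  constructor
  · rintro ⟨y, rfl⟩ φ
    rw [slice_rTensor]
    exact Subtype.prop _
  · intro h
    refine ((rTensor_exact C (LinearMap.exact_subtype_mkQ W) W.mkQ_surjective) x).1
      (eq_zero_of_slice _ fun φ => ?_)
    rw [slice_rTensor, Submodule.mkQ_apply, Submodule.Quotient.mk_eq_zero]
    exact h φ

theorem mem_range_lTensor_iff (D : Submodule k C) (x : V ⊗[k] C) :
    x ∈ LinearMap.range (D.subtype.lTensor V) ↔ ∀ ξ : V →ₗ[k] k, lslice ξ x ∈ D := by
  constructor
  · rintro ⟨y, rfl⟩ φ
    rw [lslice_lTensor]
    exact Subtype.prop _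
  · intro h
    refine ((lTensor_exact V (LinearMap.exact_subtype_mkQ D) D.mkQ_surjective) x).1
      (eq_zero_of_lslice _ fun ξ => ?_)
    rw [lslice_lTensor, Submodule.mkQ_apply, Submodule.Quotient.mk_eq_zero]
    exact h ξ

theorem mem_range_map_iff (W : Submodule k V) (D : Submodule k C) (x : V ⊗[k] C) :
    x ∈ LinearMap.range (TensorProduct.map W.subtype D.subtype) ↔
      (∀ φ : C →ₗ[k] k, slice φ x ∈ W) ∧ ∀ ξ : V →ₗ[k] k, lslice ξ x ∈ D := by
  constructor
  · rintro ⟨y, rfl⟩
    refine ⟨(mem_range_rTensor_iff W _).1 ⟨D.subtype.lTensor W y, ?_⟩,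
      (mem_range_lTensor_iff D _).1 ⟨W.subtype.rTensor D y, ?_⟩⟩
    · rw [← LinearMap.comp_apply, LinearMap.rTensor_comp_lTensor]
    · rw [← LinearMap.comp_apply, LinearMap.lTensor_comp_rTensor]
  · rintro ⟨h₁, h₂⟩
    obtain ⟨y, rfl⟩ := (mem_range_rTensor_iff W x).2 h₁
    refine (mem_range_lTensor_iff D y).2 (fun ξ => ?_) |>.elim fun z hz => ⟨z, ?_⟩
    · obtain ⟨ξ', hξ'⟩ := LinearMap.exists_extend ξ
      rw [← hξ', ← lslice_rTensor]
      exact h₂ ξ'
    · rw [← hz, ← LinearMap.comp_apply, LinearMap.rTensor_comp_lTensor]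

end Field

section Action

variable {k : Type u} [CommRing k]
variable {C : Type v} [AddCommGroup C] [Module k C] [Coalgebra k C]
variable {V : Type w} [AddCommGroup V] [Module k V] [Comod k C V]

/-- The action of a functional on a comodule. -/
noncomputable def act (φ : C →ₗ[k] k) : V →ₗ[k] V := slice φ ∘ₗ Comod.coact (k := k) (A := C)

theorem act_apply (φ : C →ₗ[k] k) (v : V) :
    act φ v = slice φ (Comod.coact (k := k) (A := C) v) := rfl

theorem act_counit (v : V) : act (counit (R := k) (A := C)) v = v := by
  have h := LinearMap.congr_fun (Comod.counit_comp (k := k) (A := C) (V := V)) v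
  simp only [LinearMap.comp_apply, LinearMap.flip_apply, TensorProduct.mk_apply] at h
  rw [act_apply, slice, LinearMap.comp_apply, h]
  simp

theorem coact_act (φ : C →ₗ[k] k) (v : V) :
    Comod.coact (k := k) (A := C) (act φ v) =
      (act φ).lTensor V (Comod.coact (k := k) (A := C) v) := by
  have h := LinearMap.congr_fun (Comod.coassoc (k := k) (A := C) (V := V)) v
  simp only [LinearMap.comp_apply, LinearEquiv.coe_coe] at h
  rw [act, LinearMap.comp_apply, act, LinearMap.lTensor_comp, LinearMap.comp_apply,
    show (Comod.coact : C →ₗ[k] C ⊗[k] C) = comul from rfl, ← h]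
  generalize Comod.coact (k := k) (A := C) v = x
  induction x using TensorProduct.induction_on with
  | zero => simp
  | add a b ha hb => simp [ha, hb]
  | tmul a b =>
    simp only [slice_tmul, map_smul, LinearMap.rTensor_tmul]
    generalize Comod.coact (k := k) (A := C) a = y
    induction y using TensorProduct.induction_on with
    | zero => simp
    | add a b ha hb => simp [add_tmul, smul_add, ha, hb]
    | tmul c d => simp [smul_tmul', tmul_smul]

theorem act_act (φ ψ : C →ₗ[k] k) (v : V) :
    act φ (act ψ v) = act (toConv φ * toConv ψ : Cv k C).ofConv v := by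
  rw [act_apply, coact_act, slice_lTensor, act_apply]
  congr 1
  have : φ ∘ₗ act ψ = (toConv φ * toConv ψ : Cv k C).ofConv := by
    ext c
    rw [LinearMap.comp_apply, act_apply]
    change φ (slice ψ (comul c)) = LinearMap.mul' k k (TensorProduct.map φ ψ (comul c))
    generalize comul (R := k) c = x
    induction x using TensorProduct.induction_on with
    | zero => simp
    | add a b ha hb => simp [ha, hb]
    | tmul a b => simp [mul_comm]
  rw [this]

theorem convOne_eq : (1 : Cv k C).ofConv = counit (R := k) (A := C) := by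
  ext c
  simp [LinearMap.convOne_def]

/-- Every comodule is a module over the convolution algebra. -/
noncomputable scoped instance instModule : Module (Cv k C) V where
  smul φ v := act φ.ofConv v
  one_smul v := by
    change act (1 : Cv k C).ofConv v = v
    rw [convOne_eq, act_counit]
  mul_smul φ ψ v := by
    change act (φ * ψ).ofConv v = act φ.ofConv (act ψ.ofConv v)
    rw [act_act, toConv_ofConv, toConv_ofConv]
  smul_zero φ := map_zero (act φ.ofConv)
  smul_add φ := map_add (act φ.ofConv)
  add_smul φ ψ v := slice_add φ.ofConv ψ.ofConv _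
  zero_smul v := slice_zero _

theorem smul_def (φ : Cv k C) (v : V) : φ • v = act φ.ofConv v := rfl

theorem toConv_smul' (φ : C →ₗ[k] k) (v : V) : (toConv φ : Cv k C) • v = act φ v := rfl

noncomputable scoped instance instTower : IsScalarTower k (Cv k C) V where
  smul_assoc r φ v := slice_smul r φ.ofConv _

noncomputable scoped instance instComm : SMulCommClass (Cv k C) k V where
  smul_comm φ r v := map_smul (act φ.ofConv) r v

end Action

section Sub

variable {k : Type u} [Field k]
variable {C : Type v} [AddCommGroup C] [Module k C] [Coalgebra k C]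
variable {V : Type w} [AddCommGroup V] [Module k V] [Comod k C V]
variable {W : Type w'} [AddCommGroup W] [Module k W] [Comod k C W]

theorem isSubcomod_iff (N : Submodule k V) :
    IsSubcomod (k := k) (A := C) N ↔ ∀ φ : Cv k C, ∀ w ∈ N, φ • w ∈ N := by
  simp only [IsSubcomod, mem_range_rTensor_iff]
  exact ⟨fun h φ w hw => h w hw φ.ofConv, fun h w hw φ => h (toConv φ) w hw⟩

theorem isSubcomod_restrict (M : Submodule (Cv k C) V) :
    IsSubcomod (k := k) (A := C) (M.restrictScalars k) :=
  (isSubcomod_iff _).2 fun φ _ hw => M.smul_mem φ hw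

/-- A subcomodule as a submodule over the convolution algebra. -/
noncomputable def toSub (N : Submodule k V) (hN : IsSubcomod (k := k) (A := C) N) :
    Submodule (Cv k C) V :=
  { N.toAddSubmonoid with smul_mem' := fun φ w hw => (isSubcomod_iff N).1 hN φ w hw }

@[simp] theorem mem_toSub {N : Submodule k V} {hN : IsSubcomod (k := k) (A := C) N} {v : V} :
    v ∈ toSub N hN ↔ v ∈ N := Iff.rfl

theorem toSub_restrict (N : Submodule k V) (hN : IsSubcomod (k := k) (A := C) N) :
    (toSub N hN).restrictScalars k = N := rfl

theorem toSub_eq_iff {N : Submodule k V} (hN : IsSubcomod (k := k) (A := C) N)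
    (M : Submodule (Cv k C) V) : toSub N hN = M ↔ N = M.restrictScalars k := by
  constructor
  · rintro rfl; rfl
  · rintro rfl; rfl

theorem isSimpleComod_iff : IsSimpleComod k C V ↔ IsSimpleModule (Cv k C) V := by
  constructor
  · rintro ⟨hnt, h⟩
    exact (isSimpleModule_iff (Cv k C) V).2
      { exists_pair_ne := ⟨⊥, ⊤, bot_ne_top⟩
        eq_bot_or_eq_top := fun M =>
          (h _ (isSubcomod_restrict M)).imp (fun e => Submodule.restrictScalars_injective k _ _
            (e.trans (Submodule.restrictScalars_bot k _ V).symm))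
            fun e => Submodule.restrictScalars_injective k _ _
              (e.trans (Submodule.restrictScalars_top k _ V).symm) }
  · intro h
    refine ⟨IsSimpleModule.nontrivial (Cv k C) V, fun N hN => ?_⟩
    rcases eq_bot_or_eq_top (toSub N hN) with e | e
    · left; rw [(toSub_eq_iff hN _).1 e, Submodule.restrictScalars_bot]
    · right; rw [(toSub_eq_iff hN _).1 e, Submodule.restrictScalars_top]

theorem isCompl_restrict {M M' : Submodule (Cv k C) V} :
    IsCompl (M.restrictScalars k) (M'.restrictScalars k) ↔ IsCompl M M' := by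
  simp only [isCompl_iff, Submodule.disjoint_def, Submodule.restrictScalars_mem,
    codisjoint_iff, ← Submodule.restrictScalars_sup, Submodule.restrictScalars_eq_top_iff]

theorem isSemisimpleComod_iff : IsSemisimpleComod k C V ↔ IsSemisimpleModule (Cv k C) V := by
  constructor
  · intro h
    refine (isSemisimpleModule_iff (Cv k C) V).2 ⟨fun M => ?_⟩
    obtain ⟨N, hN, hc⟩ := h _ (isSubcomod_restrict M)
    exact ⟨toSub N hN, isCompl_restrict.1 hc⟩
  · intro h N hN
    obtain ⟨M, hM⟩ := exists_isCompl (toSub N hN)
    exact ⟨M.restrictScalars k, isSubcomod_restrict M, (toSub_restrict N hN) ▸ isCompl_restrict.2 hM⟩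

theorem isComodHom_iff (f : V →ₗ[k] W) :
    Hoch.IsComodHom C f ↔ ∀ (φ : Cv k C) (v : V), f (φ • v) = φ • f v := by
  constructor
  · intro h φ v
    rw [smul_def, smul_def, act_apply, act_apply, ← slice_rTensor]
    exact congrArg _ (LinearMap.congr_fun h v).symm
  · intro h
    refine LinearMap.ext fun v => eq_of_slice fun φ => ?_
    rw [LinearMap.comp_apply, LinearMap.comp_apply, slice_rTensor]
    exact (h (toConv φ) v).symm

/-- A comodule map as a linear map over the convolution algebra. -/
noncomputable def toLin (f : V →ₗ[k] W) (hf : Hoch.IsComodHom C f) : V →ₗ[Cv k C] W :=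
  { f.toAddHom with map_smul' := (isComodHom_iff f).1 hf }

@[simp] theorem toLin_apply (f : V →ₗ[k] W) (hf : Hoch.IsComodHom C f) (v : V) :
    toLin f hf v = f v := rfl

theorem isComodHom_restrict (f : V →ₗ[Cv k C] W) :
    Hoch.IsComodHom C (f.restrictScalars k) :=
  (isComodHom_iff _).2 f.map_smul

theorem finite_span_singleton (v : V) :
    Module.Finite k ((Submodule.span (Cv k C) {v}).restrictScalars k) := by
  obtain ⟨N, hN, hN'⟩ := exists_finite_slice_mem (Comod.coact (k := k) (A := C) v)
  refine Submodule.finiteDimensional_of_le (S₂ := N) fun w hw => ?_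
  obtain ⟨φ, rfl⟩ := Submodule.mem_span_singleton.1 hw
  exact hN' φ.ofConv

theorem exists_finite_subcomod_of_finite (s : Set V) (hs : s.Finite) :
    ∃ M : Submodule (Cv k C) V, Module.Finite k (M.restrictScalars k) ∧ s ⊆ M := by
  induction s, hs using Set.Finite.induction_on with
  | empty =>
    exact ⟨⊥, by rw [Submodule.restrictScalars_bot]; exact Module.Finite.bot k V, by simp⟩
  | @insert a t _ _ ih =>
    obtain ⟨M, hM, hsM⟩ := ih
    refine ⟨Submodule.span (Cv k C) {a} ⊔ M, ?_, Set.insert_subset_iff.2 ⟨?_, ?_⟩⟩
    · haveI := finite_span_singleton (k := k) (C := C) a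
      rw [Submodule.restrictScalars_sup]
      exact Submodule.finite_sup _ _
    · exact Submodule.mem_sup_left (Submodule.mem_span_singleton_self a)
    · exact hsM.trans (SetLike.coe_subset_coe.2 le_sup_right)

theorem finite_of_isSimpleModule (h : IsSimpleModule (Cv k C) V) : Module.Finite k V := by
  obtain ⟨v, hv⟩ := @exists_ne V (IsSimpleModule.nontrivial (Cv k C) V) 0
  have hfin := finite_span_singleton (k := k) (C := C) v
  rw [IsSimpleModule.span_singleton_eq_top (Cv k C) hv, Submodule.restrictScalars_top] at hfin
  exact Module.Finite.equiv Submodule.topEquiv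

end Sub

end Groth.Agent.ComodBasic
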