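import Groth.Agent.ComodBasic.Integral
import Groth.Prelude.Def_GLin
import Groth.Prelude.Def_W4c1tameactTame
import Groth.Prelude.Def_Hoch

/-!
# Total integrals and their Reynolds operators over a commutative ring
-/

namespace Groth.Agent.ComodBasic

open TensorProduct WithConv CoalgebraStruct HopfRep

universe u v w w' w''

section Kmap

variable {k : Type u} [CommRing k] {A : Type v} [CommRing A] [HopfAlgebra k A]

theorem grp4 {G : Type*} [Group G] (a b : G) : b * (a * b)⁻¹ = a⁻¹ := by group

/-- `b ⊗ c ↦ (1 ⊗ b) * Δ (S c)`. -/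
noncomputable def Kmap : A ⊗[k] A →ₐ[k] A ⊗[k] A :=
  Algebra.TensorProduct.lift (Algebra.TensorProduct.includeRight : A →ₐ[k] A ⊗[k] A)
    ((Bialgebra.comulAlgHom k A).comp (HopfAlgebra.antipodeAlgHom k A)) fun _ _ => Commute.all _ _

theorem Kmap_comul (a : A) :
    Kmap (comul (R := k) a) = HopfAlgebra.antipode k a ⊗ₜ[k] (1 : A) := by
  have h : toConv (Algebra.TensorProduct.includeRight : A →ₐ[k] A ⊗[k] A) *
      toConv ((Bialgebra.comulAlgHom k A).comp (HopfAlgebra.antipodeAlgHom k A)) =
      toConv (AlgHom.comp (Algebra.TensorProduct.includeLeft : A →ₐ[k] A ⊗[k] A) (HopfAlgebra.antipodeAlgHom k A)) := by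
    change _ * (toConv (Bialgebra.comulAlgHom k A))⁻¹ = (toConv (Algebra.TensorProduct.includeLeft : A →ₐ[k] A ⊗[k] A))⁻¹
    rw [← inl_mul_inr]
    exact grp4 (G := WithConv (A →ₐ[k] A ⊗[k] A)) _ _
  have h' := DFunLike.congr_fun (congrArg WithConv.ofConv h) a
  rw [conv_apply] at h'
  refine Eq.trans ?_ h'
  generalize comul (R := k) a = z
  induction z using TensorProduct.induction_on with
  | zero => simp
  | add p q hp hq => simp only [map_add, hp, hq]
  | tmul p q => simp [Kmap]

end Kmap

section HopfModule

variable {k : Type u} [CommRing k] {A : Type v} [CommRing A] [Bialgebra k A]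
variable {B : Type w} [CommRing B] [Algebra k B]
variable {M : Type w'} [AddCommGroup M] [Module k M] [Module B M] [IsScalarTower k B M]

theorem hmSMul_mul (z z' : B ⊗[k] A) (x : M ⊗[k] A) :
    TameAct.hmSMul k A B M (z * z') x = TameAct.hmSMul k A B M z (TameAct.hmSMul k A B M z' x) := by
  induction z using TensorProduct.induction_on with
  | zero => simp
  | add p q hp hq => simp only [add_mul, map_add, LinearMap.add_apply, hp, hq]
  | tmul b a =>
    induction z' using TensorProduct.induction_on with
    | zero => simp
    | add p q hp hq => simp only [mul_add, map_add, LinearMap.add_apply, hp, hq]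
    | tmul b' a' =>
      induction x using TensorProduct.induction_on with
      | zero => simp
      | add p q hp hq => simp only [map_add, hp, hq]
      | tmul m c => simp [mul_smul, mul_assoc]

theorem isHopfMod_self' [Comod k A B] [GLin.IsCoactAlg k A B] : TameAct.IsHopfMod k A B B := by
  refine ⟨fun r m => ?_⟩
  rw [smul_eq_mul, GLin.IsCoactAlg.coact_mul]
  generalize Comod.coact (k := k) (A := A) r = z
  generalize Comod.coact (k := k) (A := A) m = y
  induction z using TensorProduct.induction_on with
  | zero => simp
  | add p q hp hq => simp only [map_add, LinearMap.add_apply, add_mul, hp, hq]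
  | tmul a b =>
    induction y using TensorProduct.induction_on with
    | zero => simp
    | add p q hp hq => simp only [map_add, mul_add, hp, hq]
    | tmul c d => simp

end HopfModule

section Total

variable {k : Type u} [CommRing k] {A : Type v} [CommRing A] [HopfAlgebra k A]
variable {B : Type w} [CommRing B] [Algebra k B] [Comod k A B] [GLin.IsCoactAlg k A B]
variable {α : A →ₗ[k] B}
variable {M : Type w'} [AddCommGroup M] [Module k M] [Module B M] [IsScalarTower k B M]
  [Comod k A M] [TameAct.IsHopfMod k A B M]

/-- `m ↦ Σ α(S(m₁) * a) • m₀`. -/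
noncomputable def reynoldsAt (α : A →ₗ[k] B) (a : A) : M →ₗ[k] M :=
  TameAct.reynolds k A B M (α ∘ₗ LinearMap.mulRight k a) -- α (S m₁ * a)

/-- The key identity for the coaction of `Σ α(S(m₁) a) • m₀`. -/
theorem coact_reynoldsAt (hα : Hoch.IsComodHom A α) (a : A) (m : M) :
    Comod.coact (k := k) (A := A) (reynoldsAt (B := B) α a m) =
      TensorProduct.lift (LinearMap.mk₂ k (fun (x : M) (c : A) =>
        TameAct.hmSMul k A B M (α.rTensor A (HopfAlgebra.antipode k c ⊗ₜ[k] (1 : A) * comul (R := k) a))
          (x ⊗ₜ[k] (1 : A)))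
        (fun x y c => by simp [TensorProduct.add_tmul]) (fun r x c => by simp [← TensorProduct.smul_tmul'])
        (fun x c d => by simp [add_mul, TensorProduct.add_tmul])
        (fun r x c => by simp [TensorProduct.smul_tmul', ← TensorProduct.smul_tmul', smul_mul_assoc]))
        (Comod.coact (k := k) (A := A) m) := by
  have h0 := LinearMap.congr_fun (Comod.coassoc (k := k) (A := A) (V := M)) m
  simp only [LinearMap.comp_apply, LinearEquiv.coe_coe] at h0
  let L : M ⊗[k] (A ⊗[k] A) →ₗ[k] M ⊗[k] A :=
    TensorProduct.lift (LinearMap.mk₂ k (fun (x : M) (p : A ⊗[k] A) =>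
      TameAct.hmSMul k A B M (α.rTensor A (Kmap p * comul (R := k) a)) (x ⊗ₜ[k] (1 : A)))
      (fun x y p => by simp [TensorProduct.add_tmul]) (fun r x p => by simp [← TensorProduct.smul_tmul'])
      (fun x p q => by simp [add_mul]) (fun r x p => by simp [smul_mul_assoc]))
  have hαc : ∀ c : A, Comod.coact (k := k) (A := A) (α c) = α.rTensor A (comul (R := k) c) := fun c =>
    LinearMap.congr_fun hα c |>.symm ▸ rfl
  have h1 : ∀ z : M ⊗[k] A, Comod.coact (k := k) (A := A)
      (TensorProduct.lift (((Algebra.lsmul k k M : B →ₐ[k] Module.End k M).toLinearMap ∘ₗ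
        (α ∘ₗ LinearMap.mulRight k a) ∘ₗ HopfAlgebra.antipode k).flip) z) =
      L (TensorProduct.assoc k M A A ((Comod.coact (k := k) (A := A) (V := M)).rTensor A z)) := by
    intro z
    induction z using TensorProduct.induction_on with
    | zero => simp
    | add p q hp hq => simp only [map_add, hp, hq]
    | tmul x c =>
      simp only [TensorProduct.lift.tmul, LinearMap.flip_apply, LinearMap.comp_apply,
        AlgHom.toLinearMap_apply, Algebra.lsmul_coe, LinearMap.rTensor_tmul, LinearMap.mulRight_apply]
      rw [TameAct.IsHopfMod.coact_smul (B := B), hαc, Bialgebra.comul_mul]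
      generalize Comod.coact (k := k) (A := A) x = y
      induction y using TensorProduct.induction_on with
      | zero => simp
      | add p q hp hq => simp only [TensorProduct.add_tmul, map_add, hp, hq]
      | tmul x b =>
        simp only [TensorProduct.assoc_tmul, L, TensorProduct.lift.tmul, LinearMap.mk₂_apply]
        rw [show Kmap (k := k) (b ⊗ₜ[k] c) = (1 : A) ⊗ₜ[k] b * comul (R := k) (HopfAlgebra.antipode k c) by
          simp [Kmap], mul_assoc]
        generalize comul (R := k) (HopfAlgebra.antipode k c) * comul (R := k) a = w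
        induction w using TensorProduct.induction_on with
        | zero => simp
        | add p q hp hq => simp only [map_add, mul_add, LinearMap.add_apply, hp, hq]
        | tmul p q => simp [mul_comm]
  rw [reynoldsAt, TameAct.reynolds, LinearMap.comp_apply, h1, h0]
  generalize Comod.coact (k := k) (A := A) m = z
  induction z using TensorProduct.induction_on with
  | zero => simp
  | add p q hp hq => simp only [map_add, hp, hq]
  | tmul x c => simp [L, Kmap_comul]

theorem reynoldsAt_one (α : A →ₗ[k] B) :
    reynoldsAt (M := M) α 1 = TameAct.reynolds k A B M α := by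
  rw [reynoldsAt]
  congr 1
  ext c
  simp

theorem reynolds_mem_fixedPts (hα : Hoch.IsComodHom A α) (m : M) :
    TameAct.reynolds k A B M α m ∈ fixedPts k A M := by
  show Comod.coact (k := k) (A := A) _ = _ ⊗ₜ[k] (1 : A)
  rw [← reynoldsAt_one, coact_reynoldsAt hα, reynoldsAt_one, Bialgebra.comul_one, TameAct.reynolds,
    LinearMap.comp_apply]
  generalize Comod.coact (k := k) (A := A) m = z
  induction z using TensorProduct.induction_on with
  | zero => simp
  | add p q hp hq => simp only [map_add, TensorProduct.add_tmul, hp, hq]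
  | tmul x c => simp

omit [GLin.IsCoactAlg k A B] [Comod k A B] [TameAct.IsHopfMod k A B M] in
theorem reynolds_eq_self (h1 : α 1 = 1) {m : M} (hm : m ∈ fixedPts k A M) :
    TameAct.reynolds k A B M α m = m := by
  rw [TameAct.reynolds_apply_of_coact_eq k A B M α m m 1 hm, HopfAlgebra.antipode_one, h1, one_smul]

/-- The Reynolds operator is linear over the invariants. -/
theorem reynolds_smul {c : B} (hc : c ∈ fixedPts k A B) (m : M) :
    TameAct.reynolds k A B M α (c • m) = c • TameAct.reynolds k A B M α m := by
  rw [TameAct.reynolds, LinearMap.comp_apply, LinearMap.comp_apply, TameAct.IsHopfMod.coact_smul,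
    show Comod.coact (k := k) (A := A) c = c ⊗ₜ[k] (1 : A) from hc]
  generalize Comod.coact (k := k) (A := A) m = z
  induction z using TensorProduct.induction_on with
  | zero => simp
  | add p q hp hq => simp only [map_add, smul_add, hp, hq]
  | tmul x d => simp [smul_smul, mul_comm]

omit [GLin.IsCoactAlg k A B] [Comod k A B] [TameAct.IsHopfMod k A B M] in
/-- The Reynolds operator commutes with equivariant maps. -/
theorem map_reynolds {N : Type w''} [AddCommGroup N] [Module k N] [Module B N] [IsScalarTower k B N]
    [Comod k A N] (f : M →ₗ[B] N) (hf : Hoch.IsComodHom A (f.restrictScalars k)) (m : M) :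
    f (TameAct.reynolds k A B M α m) = TameAct.reynolds k A B N α (f m) := by
  have h := LinearMap.congr_fun hf m
  simp only [LinearMap.comp_apply, LinearMap.restrictScalars_apply] at h
  rw [TameAct.reynolds, TameAct.reynolds, LinearMap.comp_apply, LinearMap.comp_apply,
    show Comod.coact (k := k) (A := A) (f m) =
      (f.restrictScalars k).rTensor A (Comod.coact (k := k) (A := A) m) from h.symm ▸ rfl]
  generalize Comod.coact (k := k) (A := A) m = z
  induction z using TensorProduct.induction_on with
  | zero => simp
  | add p q hp hq => simp only [map_add, hp, hq]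
  | tmul x d => simp

omit [GLin.IsCoactAlg k A B] [Comod k A B] [TameAct.IsHopfMod k A B M] in
/-- The Reynolds operator preserves stable submodules. -/
theorem reynolds_mem_of_isSubcomod (N : Submodule B M)
    (hN : IsSubcomod (k := k) (A := A) (N.restrictScalars k)) {m : M} (hm : m ∈ N) :
    TameAct.reynolds k A B M α m ∈ N := by
  obtain ⟨z, hz⟩ := hN m hm
  rw [TameAct.reynolds, LinearMap.comp_apply, ← hz]
  clear hz
  induction z using TensorProduct.induction_on with
  | zero => simp
  | add p q hp hq => simp only [map_add]; exact N.add_mem hp hq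
  | tmul x d =>
    simp only [LinearMap.rTensor_tmul, TensorProduct.lift.tmul, LinearMap.flip_apply, LinearMap.comp_apply,
      AlgHom.toLinearMap_apply, Algebra.lsmul_coe]
    exact N.smul_mem _ x.2

end Total

section Ideals

variable {k : Type u} [CommRing k] {A : Type v} [CommRing A] [HopfAlgebra k A]
variable {B : Type w} [CommRing B] [Algebra k B] [Comod k A B] [GLin.IsCoactAlg k A B]
variable {α : A →ₗ[k] B}

theorem reynolds_mem_of_mem_map (hα : Hoch.IsComodHom A α) (c : Ideal (GLin.invariants k A B))
    {y : B} (hy : y ∈ c.map (algebraMap (GLin.invariants k A B) B)) :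
    ∃ z ∈ c, (z : B) = TameAct.reynolds k A B B α y := by
  haveI : TameAct.IsHopfMod k A B B := isHopfMod_self'
  rw [Ideal.map, Submodule.mem_span_set'] at hy
  obtain ⟨n, r, g, rfl⟩ := hy
  choose g' hg' hg'' using fun i => (g i).2
  refine ⟨∑ i, (⟨TameAct.reynolds k A B B α (r i), reynolds_mem_fixedPts hα _⟩ : GLin.invariants k A B) * g' i,
    Ideal.sum_mem _ fun i _ => Ideal.mul_mem_left _ _ (hg' i), ?_⟩
  rw [AddSubmonoidClass.coe_finsetSum, map_sum]
  refine Finset.sum_congr rfl fun i _ => ?_
  rw [← hg'' i, smul_eq_mul, mul_comm (r i), ← smul_eq_mul]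
  refine Eq.trans ?_ (reynolds_smul (show ((g' i : B)) ∈ fixedPts k A B from (g' i).2) (r i)).symm
  simp [mul_comm]

theorem comap_map_eq_of_totalIntegral (hα : Hoch.IsComodHom A α) (h1 : α 1 = 1)
    (c : Ideal (GLin.invariants k A B)) :
    (c.map (algebraMap (GLin.invariants k A B) B)).comap (algebraMap (GLin.invariants k A B) B) = c := by
  haveI : TameAct.IsHopfMod k A B B := isHopfMod_self'
  refine le_antisymm (fun y hy => ?_) Ideal.le_comap_map
  obtain ⟨z, hz, hzy⟩ := reynolds_mem_of_mem_map hα c hy
  have : z = y := Subtype.ext (hzy.trans (reynolds_eq_self h1 y.2))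
  exact this ▸ hz

end Ideals

end Groth.Agent.ComodBasic
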