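import Groth.Agent.ComodBasic.Stable
import Groth.Agent.ComodBasic.TotalInt
import Mathlib.Algebra.MvPolynomial.Funext
import Mathlib.RingTheory.MvPolynomial.Homogeneous
import Mathlib.RingTheory.Filtration
import Mathlib.RingTheory.Ideal.Cotangent
import Mathlib.RingTheory.Jacobson.Ring

/-!
# Cartier's theorem: affine algebraic groups in characteristic zero are reduced

Powers of an invariant derivation see the leading forms at the origin, so the augmentation ideal
powers behave like those of a domain.
-/

namespace Groth.Agent.ComodBasic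

open TensorProduct WithConv CoalgebraStruct HopfRep

universe u v

section Deriv

variable {k : Type u} [Field k] {A : Type v} [CommRing A] [HopfAlgebra k A]

/-- A derivation at the origin. -/
def IsPtDeriv (l : A →ₗ[k] k) : Prop :=
  ∀ a b : A, l (a * b) = counit (R := k) a * l b + counit (R := k) b * l a

local notation "𝔪" => RingHom.ker (Bialgebra.counitAlgHom k A)

theorem counit_act_regular (l : A →ₗ[k] k) (a : A) : counit (R := k) (act l a) = l a :=
  counit_smul_regular (toConv l) a

theorem act_mul_of_isPtDeriv {l : A →ₗ[k] k} (hl : IsPtDeriv l) (a b : A) :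
    act l (a * b) = act l a * b + a * act l b := by
  suffices h : slice l (comul (R := k) (a * b)) =
      slice l (comul (R := k) a) * slice (counit (R := k)) (comul (R := k) b) +
        slice (counit (R := k)) (comul (R := k) a) * slice l (comul (R := k) b) by
    rw [show slice (counit (R := k)) (comul (R := k) a) = a from act_counit (k := k) (C := A) a,
      show slice (counit (R := k)) (comul (R := k) b) = b from act_counit (k := k) (C := A) b] at h
    exact h
  rw [Bialgebra.comul_mul]
  generalize comul (R := k) a = x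
  generalize comul (R := k) b = y
  induction x using TensorProduct.induction_on with
  | zero => simp
  | add p q hp hq => simp only [add_mul, map_add, hp, hq]; abel
  | tmul p q =>
    induction y using TensorProduct.induction_on with
    | zero => simp
    | add r s hr hs => simp only [mul_add, map_add, hr, hs, add_mul]; abel
    | tmul r s =>
      simp [hl q s, add_smul, smul_smul, mul_comm, add_comm]

theorem act_mem_pow {l : A →ₗ[k] k} (hl : IsPtDeriv l) {m : ℕ} {z : A} (hz : z ∈ 𝔪 ^ (m + 1)) :
    act l z ∈ 𝔪 ^ m := by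
  induction m generalizing z with
  | zero => simp
  | succ m ih =>
    rw [pow_succ' _ (m + 1)] at hz
    refine Submodule.mul_induction_on hz (fun y hy w hw => ?_) fun a b ha hb => ?_
    · rw [act_mul_of_isPtDeriv hl]
      refine Submodule.add_mem _ (Ideal.mul_mem_left _ _ hw) ?_
      rw [pow_succ' _ m]
      exact Ideal.mul_mem_mul hy (ih hw)
    · rw [map_add]; exact Submodule.add_mem _ ha hb

/-- `ε ∘ D^m`. -/
noncomputable def derVal (l : A →ₗ[k] k) : ℕ → A →ₗ[k] k
  | 0 => counit
  | m + 1 => derVal l m ∘ₗ act l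

theorem derVal_eq_zero {l : A →ₗ[k] k} (hl : IsPtDeriv l) {m : ℕ} {z : A} (hz : z ∈ 𝔪 ^ (m + 1)) :
    derVal l m z = 0 := by
  induction m generalizing z with
  | zero =>
    rw [pow_one] at hz
    exact hz
  | succ m ih => exact ih (act_mem_pow hl hz)

theorem derVal_smul {l : A →ₗ[k] k} (hl : IsPtDeriv l) {m : ℕ} (c : A) {z : A} (hz : z ∈ 𝔪 ^ m) :
    derVal l m (c * z) = counit (R := k) c * derVal l m z := by
  induction m generalizing c z with
  | zero => simp [derVal]
  | succ m ih =>
    change derVal l m (act l (c * z)) = _ * derVal l m (act l z)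
    rw [act_mul_of_isPtDeriv hl, map_add, derVal_eq_zero hl (Ideal.mul_mem_left _ _ hz), zero_add,
      ih c (act_mem_pow hl hz)]

theorem derVal_mul {l : A →ₗ[k] k} (hl : IsPtDeriv l) {m : ℕ} {y z : A} (hy : y ∈ 𝔪) (hz : z ∈ 𝔪 ^ m) :
    derVal l (m + 1) (y * z) = (m + 1 : ℕ) * l y * derVal l m z := by
  have hy0 : counit (R := k) y = 0 := hy
  induction m generalizing y z with
  | zero =>
    change counit (R := k) (act l (y * z)) = ((0 + 1 : ℕ) : k) * l y * counit (R := k) z
    rw [counit_act_regular, hl, hy0]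
    simp [mul_comm]
  | succ m ih =>
    change derVal l (m + 1) (act l (y * z)) = _
    rw [act_mul_of_isPtDeriv hl, map_add, derVal_smul hl _ hz, counit_act_regular,
      ih hy (act_mem_pow hl hz) hy0]
    change l y * derVal l (m + 1) z + ((m + 1 : ℕ) : k) * l y * derVal l (m + 1) z = _
    push_cast
    ring

theorem derVal_mul_mul {l : A →ₗ[k] k} (hl : IsPtDeriv l) {a b : ℕ} {x z : A} (hx : x ∈ 𝔪 ^ a)
    (hz : z ∈ 𝔪 ^ b) :
    derVal l (a + b) (x * z) * (a.factorial : k) * (b.factorial : k) =
      ((a + b).factorial : k) * derVal l a x * derVal l b z := by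
  induction a generalizing x with
  | zero =>
    rw [zero_add, derVal_smul hl x hz, derVal]
    simp
    ring
  | succ a ih =>
    rw [pow_succ' _ a] at hx
    refine Submodule.mul_induction_on hx (fun y hy w hw => ?_) fun p q hp hq => ?_
    · rw [show a + 1 + b = (a + b) + 1 by omega, mul_assoc y w z,
        derVal_mul hl hy (pow_add 𝔪 a b ▸ Ideal.mul_mem_mul hw hz), derVal_mul hl hy hw,
        Nat.factorial_succ, Nat.factorial_succ]
      have h := ih hw
      push_cast
      linear_combination ((a : k) + b + 1) * ((a : k) + 1) * l y * h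
    · rw [add_mul, map_add, map_add]
      linear_combination hp + hq

end Deriv

section Detect

variable {k : Type u} [Field k] {A : Type v} [CommRing A] [HopfAlgebra k A]

local notation "𝔪" => RingHom.ker (Bialgebra.counitAlgHom k A)

theorem sub_counit_mem (a : A) : a - algebraMap k A (counit (R := k) a) ∈ 𝔪 := by
  simp [RingHom.mem_ker]

/-- The class of `a - ε a` in the cotangent space. -/
noncomputable def cotProj : A →ₗ[k] (𝔪).Cotangent where
  toFun a := (𝔪).toCotangent ⟨a - algebraMap k A (counit (R := k) a), sub_counit_mem a⟩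
  map_add' a b := by
    rw [← map_add]
    refine congrArg _ (Subtype.ext ?_)
    simp [map_add]
    abel
  map_smul' c a := by
    rw [RingHom.id_apply, ← algebraMap_smul A c ((𝔪).toCotangent _), ← map_smul]
    refine congrArg _ (Subtype.ext ?_)
    simp [Algebra.smul_def, mul_sub]

theorem cotProj_mem {a : A} (ha : a ∈ 𝔪) : cotProj (k := k) a = (𝔪).toCotangent ⟨a, ha⟩ := by
  have ha0 : counit (R := k) a = 0 := ha
  exact congrArg _ (Subtype.ext (by simp [ha0]))

theorem cotProj_mul (a b : A) :
    cotProj (k := k) (a * b) = counit (R := k) a • cotProj (k := k) b + counit (R := k) b • cotProj (k := k) a := by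
  change (𝔪).toCotangent _ = counit (R := k) a • (𝔪).toCotangent _ + counit (R := k) b • (𝔪).toCotangent _
  rw [← algebraMap_smul A (counit (R := k) a), ← algebraMap_smul A (counit (R := k) b),
    ← map_smul, ← map_smul, ← map_add, Ideal.toCotangent_eq]
  rw [pow_two]
  convert! Ideal.mul_mem_mul (sub_counit_mem (k := k) a) (sub_counit_mem (k := k) b) using 1
  simp [Algebra.smul_def]
  ring

/-- The derivation at the origin given by a functional on the cotangent space. -/
noncomputable def cotDeriv (ξ : (𝔪).Cotangent →ₗ[k] k) : A →ₗ[k] k := ξ ∘ₗ cotProj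

theorem cotDeriv_apply_mem (ξ : (𝔪).Cotangent →ₗ[k] k) {a : A} (ha : a ∈ 𝔪) :
    cotDeriv ξ a = ξ ((𝔪).toCotangent ⟨a, ha⟩) :=
  congrArg ξ (cotProj_mem ha)

theorem isPtDeriv_cotDeriv (ξ : (𝔪).Cotangent →ₗ[k] k) : IsPtDeriv (cotDeriv ξ) := by
  intro a b
  change ξ (cotProj (a * b)) = _
  rw [cotProj_mul, map_add, map_smul, map_smul]
  rfl

/-- Leading forms. -/
theorem exists_form {n : ℕ} (x : Fin n → A) (hx : ∀ i, x i ∈ 𝔪) (l : (Fin n → k) → A →ₗ[k] k)
    (hl : ∀ t, IsPtDeriv (l t)) (hlx : ∀ t i, l t (x i) = t i)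
    (hgen : ∀ y ∈ 𝔪, ∃ c : Fin n → k, y - ∑ i, c i • x i ∈ 𝔪 ^ 2) (r : ℕ) (z : A) (hz : z ∈ 𝔪 ^ r) :
    ∃ G : MvPolynomial (Fin n) k, (∀ t, derVal (l t) r z = (r.factorial : k) * MvPolynomial.eval t G) ∧
      z - MvPolynomial.aeval x G ∈ 𝔪 ^ (r + 1) ∧ MvPolynomial.aeval x G ∈ 𝔪 ^ r := by
  induction r generalizing z with
  | zero =>
    refine ⟨MvPolynomial.C (counit (R := k) z), fun t => ?_, ?_, by simp⟩
    · simp [derVal]
    · simpa using sub_counit_mem (k := k) z
  | succ r ih =>
    rw [pow_succ' _ r] at hz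
    refine Submodule.mul_induction_on hz (fun y hy w hw => ?_) fun p q hp hq => ?_
    · obtain ⟨G, hG, hG', hGm⟩ := ih w hw
      obtain ⟨c, hc⟩ := hgen y hy
      refine ⟨(∑ i, MvPolynomial.C (c i) * MvPolynomial.X i) * G, fun t => ?_, ?_, ?_⟩
      · have hly : l t y = ∑ i, c i * t i := by
          have h2 : l t (y - ∑ i, c i • x i) = 0 := by
            rw [← counit_act_regular (l t)]
            exact derVal_eq_zero (m := 1) (hl t) hc
          rw [map_sub, sub_eq_zero] at h2
          rw [h2, map_sum]
          simp [hlx]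
        rw [derVal_mul (hl t) hy hw, hG t, hly, map_mul, map_sum]
        simp [Nat.factorial_succ]
        ring
      · have e : MvPolynomial.aeval x ((∑ i, MvPolynomial.C (c i) * MvPolynomial.X i) * G) =
            (∑ i, c i • x i) * MvPolynomial.aeval x G := by
          simp [Algebra.smul_def]
        rw [e, show y * w - (∑ i, c i • x i) * MvPolynomial.aeval x G =
          (y - ∑ i, c i • x i) * MvPolynomial.aeval x G + y * (w - MvPolynomial.aeval x G) by ring]
        refine Ideal.add_mem _ ?_ ?_
        · rw [show r + 1 + 1 = 2 + r by omega, pow_add]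
          exact Ideal.mul_mem_mul hc hGm
        · rw [pow_succ' _ (r + 1)]
          exact Ideal.mul_mem_mul hy hG'
      · rw [map_mul, pow_succ' _ r]
        refine Ideal.mul_mem_mul ?_ hGm
        rw [map_sum]
        exact Ideal.sum_mem _ fun i _ => by
          rw [map_mul, MvPolynomial.aeval_X]
          exact Ideal.mul_mem_left _ _ (hx i)
    · obtain ⟨G, h1, h2, h3⟩ := hp
      obtain ⟨G', h1', h2', h3'⟩ := hq
      refine ⟨G + G', fun t => ?_, ?_, ?_⟩
      · rw [map_add, h1, h1', map_add, mul_add]
      · rw [map_add, show p + q - (MvPolynomial.aeval x G + MvPolynomial.aeval x G') =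
          (p - MvPolynomial.aeval x G) + (q - MvPolynomial.aeval x G') by ring]
        exact Ideal.add_mem _ h2 h2'
      · rw [map_add]; exact Ideal.add_mem _ h3 h3'

/-- The powers of the augmentation ideal behave like the powers in a domain. -/
theorem mul_not_mem_pow [CharZero k] [Algebra.FiniteType k A] {a b : ℕ} {x y : A} (hx : x ∈ 𝔪 ^ a)
    (hx' : x ∉ 𝔪 ^ (a + 1)) (hy : y ∈ 𝔪 ^ b) (hy' : y ∉ 𝔪 ^ (b + 1)) :
    x * y ∉ 𝔪 ^ (a + b + 1) := by
  haveI : IsNoetherianRing A := Algebra.FiniteType.isNoetherianRing k A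
  haveI : Module.Finite A (𝔪).Cotangent :=
    Module.Finite.of_surjective (𝔪).toCotangent (𝔪).toCotangent_surjective
  haveI : Infinite k := Infinite.of_injective (Nat.cast : ℕ → k) Nat.cast_injective
  haveI : Module.Finite k (𝔪).Cotangent := by
    obtain ⟨s, hs⟩ := Module.Finite.fg_top (R := A) (M := (𝔪).Cotangent)
    refine ⟨⟨s, top_unique fun q _ => ?_⟩⟩
    have hq : q ∈ Submodule.span A (↑s : Set (𝔪).Cotangent) := hs ▸ Submodule.mem_top
    induction hq using Submodule.span_induction with
    | mem w hw => exact Submodule.subset_span hw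
    | zero => exact Submodule.zero_mem _
    | add p q _ _ hp hq => exact Submodule.add_mem _ (hp trivial) (hq trivial)
    | smul c w _ hw =>
      have h0 : (c - algebraMap k A (counit (R := k) c)) • w = 0 :=
        Ideal.Cotangent.smul_eq_zero_of_mem (sub_counit_mem c) w
      rw [sub_smul, sub_eq_zero, algebraMap_smul] at h0
      rw [h0]
      exact Submodule.smul_mem _ _ (hw trivial)
  let bas := Module.finBasis k (𝔪).Cotangent
  choose u hu using fun i => (𝔪).toCotangent_surjective (bas i)
  let l : (Fin _ → k) → A →ₗ[k] k := fun t => cotDeriv (bas.constr k t)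
  have hlx : ∀ t i, l t (u i : A) = t i := by
    intro t i
    rw [cotDeriv_apply_mem _ (u i).2, Subtype.coe_eta, hu, Module.Basis.constr_basis]
  have hgen : ∀ w ∈ 𝔪, ∃ c : Fin _ → k, w - ∑ i, c i • (u i : A) ∈ 𝔪 ^ 2 := by
    intro w hw
    refine ⟨fun i => bas.repr ((𝔪).toCotangent ⟨w, hw⟩) i, ?_⟩
    let z : 𝔪 := ∑ i, algebraMap k A (bas.repr ((𝔪).toCotangent ⟨w, hw⟩) i) • u i
    have h := ((𝔪).toCotangent_eq (x := ⟨w, hw⟩) (y := z)).1 (by
      rw [map_sum]
      conv_lhs => rw [← bas.sum_repr ((𝔪).toCotangent ⟨w, hw⟩)]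
      refine Finset.sum_congr rfl fun i _ => ?_
      rw [map_smul, hu, algebraMap_smul])
    simpa [z, Algebra.smul_def] using h
  obtain ⟨G, hG, hG', -⟩ := exists_form (fun i => (u i : A)) (fun i => (u i).2) l
    (fun t => isPtDeriv_cotDeriv _) hlx hgen a x hx
  obtain ⟨H, hH, hH', -⟩ := exists_form (fun i => (u i : A)) (fun i => (u i).2) l
    (fun t => isPtDeriv_cotDeriv _) hlx hgen b y hy
  have hG0 : G ≠ 0 := fun h => hx' (by simpa [h] using hG')
  have hH0 : H ≠ 0 := fun h => hy' (by simpa [h] using hH')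
  obtain ⟨t, ht⟩ : ∃ t, MvPolynomial.eval t (G * H) ≠ 0 := by
    by_contra hh
    simp only [not_exists, not_not] at hh
    exact mul_ne_zero hG0 hH0 (MvPolynomial.funext fun t => by rw [hh t, map_zero])
  intro hxy
  have h := derVal_mul_mul (isPtDeriv_cotDeriv (bas.constr k t)) hx hy
  rw [derVal_eq_zero (isPtDeriv_cotDeriv _) hxy, zero_mul, zero_mul, hG t, hH t] at h
  rw [map_mul] at ht
  have e : ((a + b).factorial : k) * (a.factorial : k) * (b.factorial : k) *
      (MvPolynomial.eval t G * MvPolynomial.eval t H) = 0 := by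
    rw [h]; ring
  simp only [mul_eq_zero, Nat.cast_eq_zero, Nat.factorial_ne_zero, false_or] at e
  exact ht (mul_eq_zero.2 e)

/-- A nilpotent is killed by an element which does not vanish at the origin. -/
theorem exists_smul_eq_zero_of_isNilpotent [CharZero k] [Algebra.FiniteType k A] {x : A}
    (hx : IsNilpotent x) : ∃ s : A, counit (R := k) s ≠ 0 ∧ s * x = 0 := by
  classical
  haveI : IsNoetherianRing A := Algebra.FiniteType.isNoetherianRing k A
  have hall : ∀ i, x ∈ 𝔪 ^ i := by
    by_contra hh
    simp only [not_forall] at hh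
    have hdeg : ∀ w : A, (∃ i, w ∉ 𝔪 ^ i) → ∃ a, w ∈ 𝔪 ^ a ∧ w ∉ 𝔪 ^ (a + 1) := by
      intro w hw
      rcases h : Nat.find hw with _ | a
      · exact absurd (by simp) (h ▸ Nat.find_spec hw)
      · exact ⟨a, not_not.1 (Nat.find_min hw (by omega)), h ▸ Nat.find_spec hw⟩
    obtain ⟨a, ha, ha'⟩ := hdeg x hh
    have hpow : ∀ n : ℕ, x ^ n ∈ 𝔪 ^ (a * n) ∧ x ^ n ∉ 𝔪 ^ (a * n + 1) := by
      intro n
      induction n with
      | zero =>
        refine ⟨by simp, ?_⟩
        simp [RingHom.mem_ker]
      | succ n ih =>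
        rw [pow_succ, Nat.mul_succ]
        exact ⟨pow_add 𝔪 (a * n) a ▸ Ideal.mul_mem_mul ih.1 ha, mul_not_mem_pow ih.1 ih.2 ha ha'⟩
    obtain ⟨n, hn⟩ := hx
    exact (hpow n).2 (hn ▸ Submodule.zero_mem _)
  have hmem : x ∈ (⨅ i : ℕ, (𝔪) ^ i • (⊤ : Submodule A A)) := by
    rw [Submodule.mem_iInf]
    intro i
    simpa using hall i
  obtain ⟨r, hr⟩ := (Ideal.mem_iInf_smul_pow_eq_bot_iff 𝔪 x).1 hmem
  refine ⟨1 - (r : A), ?_, ?_⟩
  · have h0 : counit (R := k) (r : A) = 0 := r.2
    rw [map_sub, Bialgebra.counit_one, h0, sub_zero]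
    exact one_ne_zero
  · rw [sub_mul, one_mul, sub_eq_zero]
    exact hr.symm

end Detect

section Reduced

variable {k : Type u} [Field k] {A : Type v} [CommRing A] [HopfAlgebra k A]

theorem isCoactAlg_regular : GLin.IsCoactAlg k A A :=
  ⟨Bialgebra.comul_one, fun f g => Bialgebra.comul_mul f g⟩

theorem orbitHom_comp [GLin.IsCoactAlg k A A] (g h : A →ₐ[k] k) (a : A) :
    GLin.orbitHom k A h (GLin.orbitHom k A g a) = GLin.orbitHom k A (GLin.actPt k h g) a := by
  have hco := LinearMap.congr_fun (isComodHom_orbitHom (k := k) (A := A) (R := A) g) a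
  simp only [LinearMap.comp_apply] at hco
  rw [orbitHom_eq_coef, coef_apply,
    show Comod.coact (k := k) (A := A) (GLin.orbitHom k A g a) =
      (GLin.orbitHom k A g).toLinearMap.rTensor A (Comod.coact (k := k) (A := A) a) from hco,
    lslice_rTensor, orbitHom_eq_coef, coef_apply]
  rfl

/-- Cartier's theorem. -/
theorem isReduced_of_charZero [CharZero k] [IsAlgClosed k] [Algebra.FiniteType k A] : IsReduced A := by
  haveI : GLin.IsCoactAlg k A A := isCoactAlg_regular
  refine ⟨fun x hx => ?_⟩
  let J : Ideal A :=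
    { carrier := {s | s * x = 0}
      add_mem' := fun {a b} (ha : a * x = 0) (hb : b * x = 0) => by
        show (a + b) * x = 0
        rw [add_mul, ha, hb, add_zero]
      zero_mem' := zero_mul x
      smul_mem' := fun c s (hs : s * x = 0) => by
        show c * s * x = 0
        rw [mul_assoc, hs, mul_zero] }
  by_contra hne
  have hJ : J ≠ ⊤ := fun h => hne (by
    have h1 : (1 : A) ∈ J := h ▸ Submodule.mem_top
    simpa [J] using h1)
  obtain ⟨M, hM, hJM⟩ := Ideal.exists_le_maximal J hJ
  obtain ⟨g, rfl⟩ := exists_point_ker_eq (k := k) M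
  obtain ⟨s, hs, hsx⟩ := exists_smul_eq_zero_of_isNilpotent (k := k) (hx.map (GLin.orbitHom k A g))
  let h : A →ₐ[k] k := ((toConv g)⁻¹).ofConv
  have hgh : GLin.actPt k h g = Bialgebra.counitAlgHom k A := by
    refine AlgHom.ext fun a => ?_
    change h (GLin.orbitHom k A g a) = _
    have e : (toConv g * toConv h).ofConv = Bialgebra.counitAlgHom k A := by
      rw [WithConv.toConv_ofConv, mul_inv_cancel]
      rfl
    refine Eq.trans ?_ (DFunLike.congr_fun e a)
    change _ = Algebra.TensorProduct.lmul' k (Algebra.TensorProduct.map g h (comul (R := k) a))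
    rw [orbitHom_eq_coef, coef_apply]
    change h (lslice g.toLinearMap (comul (R := k) a)) = _
    generalize comul (R := k) a = z
    induction z using TensorProduct.induction_on with
    | zero => simp
    | add p q hp hq => simp only [map_add, hp, hq]
    | tmul p q => simp [mul_comm]
  have hone : ∀ a : A, GLin.orbitHom k A h (GLin.orbitHom k A g a) = a := by
    intro a
    rw [orbitHom_comp, hgh, orbitHom_eq_coef, coef_apply]
    change lslice (counit (R := k)) (comul (R := k) a) = a
    rw [lslice, LinearMap.comp_apply, Coalgebra.rTensor_counit_comul]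
    simp
  have hmem : GLin.orbitHom k A h s ∈ J := by
    show GLin.orbitHom k A h s * x = 0
    have e := congrArg (GLin.orbitHom k A h) hsx
    rwa [map_mul, map_zero, hone] at e
  have hg := hJM hmem
  rw [RingHom.mem_ker] at hg
  refine hs ?_
  have hhg : GLin.actPt k g h = Bialgebra.counitAlgHom k A := by
    refine AlgHom.ext fun a => ?_
    have e : (toConv h * toConv g).ofConv = Bialgebra.counitAlgHom k A := by
      rw [WithConv.toConv_ofConv, inv_mul_cancel]
      rfl
    change g (GLin.orbitHom k A h a) = _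
    refine Eq.trans ?_ (DFunLike.congr_fun e a)
    change _ = Algebra.TensorProduct.lmul' k (Algebra.TensorProduct.map h g (comul (R := k) a))
    rw [orbitHom_eq_coef, coef_apply]
    change g (lslice h.toLinearMap (comul (R := k) a)) = _
    generalize comul (R := k) a = z
    induction z using TensorProduct.induction_on with
    | zero => simp
    | add p q hp hq => simp only [map_add, hp, hq]
    | tmul p q => simp [mul_comm]
  have := DFunLike.congr_fun hhg s
  rw [← Bialgebra.counitAlgHom_apply, ← this]
  exact hg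

end Reduced

end Groth.Agent.ComodBasic
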