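import Groth.Agent.ComodBasic.Coalg
import Mathlib.RingTheory.HopfAlgebra.Basic
import Mathlib.LinearAlgebra.Matrix.Determinant.Basic
import Mathlib.LinearAlgebra.StdBasis

/-!
# The matrix of a comodule in a finite basis
-/

namespace Groth.Agent.ComodBasic

open TensorProduct WithConv CoalgebraStruct HopfRep

universe u v w

variable {k : Type u} [Field k] {A : Type v}
variable {M : Type w} [AddCommGroup M] [Module k M]
variable {ι : Type*}

section Coalg

variable [AddCommGroup A] [Module k A] [Coalgebra k A] [Comod k A M]

/-- The matrix of coefficients of a comodule in a basis. -/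
noncomputable def coefMatrix (b : Module.Basis ι k M) : Matrix ι ι A := fun i j =>
  lslice (b.coord i) (Comod.coact (k := k) (A := A) (b j))

theorem dual_coefMatrix (b : Module.Basis ι k M) (φ : A →ₗ[k] k) (i j : ι) :
    φ (coefMatrix (A := A) b i j) = b.coord i (act φ (b j)) := by
  rw [coefMatrix, act_apply]
  generalize Comod.coact (k := k) (A := A) (b j) = z
  induction z using TensorProduct.induction_on with
  | zero => simp
  | add x y hx hy => simp [hx, hy]
  | tmul x y => simp [mul_comm]

theorem coact_eq_sum [Fintype ι] (b : Module.Basis ι k M) (j : ι) :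
    Comod.coact (k := k) (A := A) (b j) = ∑ i, b i ⊗ₜ[k] coefMatrix (A := A) b i j := by
  refine eq_of_slice fun φ => ?_
  simp only [map_sum, slice_tmul, dual_coefMatrix, Module.Basis.coord_apply]
  rw [b.sum_repr, act_apply]

theorem counit_coefMatrix [DecidableEq ι] (b : Module.Basis ι k M) (i j : ι) :
    counit (R := k) (coefMatrix (A := A) b i j) = if i = j then (1 : k) else 0 := by
  rw [dual_coefMatrix, act_counit, Module.Basis.coord_apply, b.repr_self, Finsupp.single_apply]
  exact if_congr eq_comm rfl rfl

theorem comul_coefMatrix [Fintype ι] (b : Module.Basis ι k M) (i j : ι) :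
    comul (R := k) (coefMatrix (A := A) b i j) =
      ∑ l, coefMatrix b i l ⊗ₜ[k] coefMatrix (A := A) b l j := by
  refine eq_of_slice fun ψ => eq_of_forall_dual (k := k) fun φ => ?_
  have h1 : φ (slice ψ (comul (R := k) (coefMatrix (A := A) b i j))) =
      (toConv φ * toConv ψ : Cv k A).ofConv (coefMatrix (A := A) b i j) := by
    change _ = LinearMap.mul' k k (TensorProduct.map φ ψ (comul (R := k) (coefMatrix (A := A) b i j)))
    generalize comul (R := k) (coefMatrix (A := A) b i j) = z
    induction z using TensorProduct.induction_on with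
    | zero => simp
    | add x y hx hy => simp [hx, hy]
    | tmul x y => simp [mul_comm]
  rw [h1, dual_coefMatrix, ← act_act, ← b.sum_repr (act ψ (b j))]
  simp only [map_sum, map_smul, slice_tmul, smul_eq_mul, dual_coefMatrix, Module.Basis.coord_apply]

/-- A matrix with the comultiplication and counit of a coefficient matrix gives a comodule. -/
@[reducible] noncomputable def comodOfMatrix {J : Type*} [Fintype J] [DecidableEq J] (a : Matrix J J A)
    (hΔ : ∀ i j, comul (R := k) (a i j) = ∑ l, a i l ⊗ₜ[k] a l j)
    (hε : ∀ i j, counit (R := k) (a i j) = if i = j then (1 : k) else 0) : Comod k A (J → k) where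
  coact := (Pi.basisFun k J).constr k fun j => ∑ i, Pi.basisFun k J i ⊗ₜ[k] a i j
  coassoc := by
    apply (Pi.basisFun k J).ext
    intro j
    simp only [LinearMap.coe_comp, Function.comp_apply, LinearEquiv.coe_coe, Module.Basis.constr_basis,
      map_sum, LinearMap.rTensor_tmul, TensorProduct.sum_tmul, TensorProduct.assoc_tmul,
      LinearMap.lTensor_tmul, hΔ, TensorProduct.tmul_sum]
    exact Finset.sum_comm
  counit_comp := by
    apply (Pi.basisFun k J).ext
    intro j
    simp only [LinearMap.coe_comp, Function.comp_apply, Module.Basis.constr_basis, map_sum,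
      LinearMap.lTensor_tmul, hε, LinearMap.flip_apply, TensorProduct.mk_apply]
    simp [TensorProduct.tmul_ite, eq_comm]

end Coalg

section Hopf

variable [CommRing A] [HopfAlgebra k A] [Comod k A M] [Fintype ι] [DecidableEq ι]

/-- The antipode gives the inverse of the coefficient matrix. -/
theorem antipode_mul_coefMatrix (b : Module.Basis ι k M) :
    ((coefMatrix (A := A) b).map (HopfAlgebra.antipode k)) * coefMatrix b = 1 := by
  ext i j
  have h := HopfAlgebra.mul_antipode_rTensor_comul_apply (R := k) (coefMatrix (A := A) b i j)
  rw [comul_coefMatrix, counit_coefMatrix] at h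
  simp only [map_sum, LinearMap.rTensor_tmul, LinearMap.mul'_apply] at h
  rw [Matrix.mul_apply, Matrix.one_apply]
  simp only [Matrix.map_apply]
  rw [h]
  split <;> simp

end Hopf

end Groth.Agent.ComodBasic
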