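import Groth.Agent.DepthLib.Sequence
import Mathlib

/-!
# Depth along integral ring maps and for direct summands
-/

namespace Groth.Agent.ComodBasic

open LocCoh RingTheory.Sequence Groth.Agent.DepthLib
open scoped Pointwise

universe u v

theorem isWeaklyRegular_of_retract {R : Type u} [CommRing R] :
    ∀ (rs : List R) {M N : Type u} [AddCommGroup M] [Module R M] [AddCommGroup N] [Module R N]
      (i : N →ₗ[R] M) (r : M →ₗ[R] N), r ∘ₗ i = LinearMap.id → IsWeaklyRegular M rs → IsWeaklyRegular N rs
  | [], M, N, _, _, _, _, i, r, _, _ => IsWeaklyRegular.nil R N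
  | x :: rs, M, N, _, _, _, _, i, r, h, hreg => by
    rw [isWeaklyRegular_cons_iff] at hreg ⊢
    have hinj : Function.Injective i :=
      Function.LeftInverse.injective (g := r) fun n => LinearMap.congr_fun h n
    refine ⟨fun a b hab => hinj (hreg.1 ?_), ?_⟩
    · show x • i a = x • i b
      rw [← map_smul, ← map_smul]
      exact congrArg i hab
    · refine isWeaklyRegular_of_retract rs (QuotSMulTop.map x i) (QuotSMulTop.map x r) ?_ hreg.2
      rw [← map_comp_eq_map_comp_map x i r, h]
      refine LinearMap.ext fun q => ?_
      obtain ⟨q, rfl⟩ := Submodule.Quotient.mk_surjective _ q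
      rfl
where
  map_comp_eq_map_comp_map {R : Type u} [CommRing R] (x : R) {M N : Type u} [AddCommGroup M] [Module R M]
      [AddCommGroup N] [Module R N] (i : N →ₗ[R] M) (r : M →ₗ[R] N) :
      QuotSMulTop.map x (r ∘ₗ i) = QuotSMulTop.map x r ∘ₗ QuotSMulTop.map x i := by
    refine LinearMap.ext fun q => ?_
    obtain ⟨q, rfl⟩ := Submodule.Quotient.mk_surjective _ q
    rfl

theorem depth_le_depth_of_retract {R : Type u} [CommRing R] [IsLocalRing R]
    {M N : Type u} [AddCommGroup M] [Module R M] [Module.Finite R M] [AddCommGroup N] [Module R N]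
    [Module.Finite R N] (i : N →ₗ[R] M) (r : M →ₗ[R] N) (h : r ∘ₗ i = LinearMap.id) :
    depth R M ≤ depth R N := by
  refine ENat.forall_natCast_le_iff_le.mp fun n hn => ?_
  obtain ⟨rs, h1, h2, h3⟩ := natCast_le_depth_iff.1 hn
  exact natCast_le_depth_iff.2 ⟨rs, h1, isWeaklyRegular_of_retract rs i r h h2, h3⟩

theorem natCast_le_depth_localization_of_forall_over {A : Type u} [CommRing A] [IsNoetherianRing A]
    {R : Type u} [CommRing R] [IsNoetherianRing R] [Algebra A R] [Module.Finite A R]
    (p : Ideal A) [p.IsPrime] (n : ℕ) :
    ∀ {M : Type u} [AddCommGroup M] [Module A M] [Module R M] [IsScalarTower A R M] [Module.Finite R M],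
      (∀ (q : Ideal R) [q.IsPrime], q.comap (algebraMap A R) = p →
        (n : ℕ∞) ≤ depth (Localization.AtPrime q) (LocalizedModule q.primeCompl M)) →
      (n : ℕ∞) ≤ depth (Localization.AtPrime p) (LocalizedModule p.primeCompl M) := by
  induction n with
  | zero => intros; simp
  | succ n ih =>
    intro M _ _ _ _ _ hM
    classical
    have hnot : ∀ Q ∈ associatedPrimes R M, Q.comap (algebraMap A R) ≠ p := by
      intro Q hQ hQp
      have := hQ.isPrime
      have h1 := hM Q hQp
      rw [depth_localization_eq_zero_of_mem_associatedPrimes Q hQ] at h1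
      simp at h1
    obtain ⟨x, hxp, hxQ⟩ : ∃ x ∈ p, ∀ Q ∈ associatedPrimes R M,
        Q.comap (algebraMap A R) ≤ p → algebraMap A R x ∉ Q := by
      by_contra hc
      simp only [not_exists, not_and, not_forall, not_not] at hc
      let S := ((associatedPrimes.finite R M).toFinset.filter fun Q => Q.comap (algebraMap A R) ≤ p)
      have hS : ∀ x ∈ p, ∃ Q ∈ S, x ∈ Q.comap (algebraMap A R) := fun x hx => by
        obtain ⟨Q, hQ, hle, hxQ⟩ := hc x hx
        exact ⟨Q, Finset.mem_filter.2 ⟨(Set.Finite.mem_toFinset _).2 hQ, hle⟩, hxQ⟩
      rcases S.eq_empty_or_nonempty with he | ⟨Q₀, hQ₀⟩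
      · obtain ⟨Q, hQ, -⟩ := hS 0 p.zero_mem
        simp [he] at hQ
      · obtain ⟨Q, hQ, hle⟩ := (Ideal.subset_union_prime (s := S)
          (f := fun Q : Ideal R => Q.comap (algebraMap A R)) Q₀ Q₀ (fun Q hQ _ _ => by
            have := ((Set.Finite.mem_toFinset _).1 (Finset.mem_filter.1 hQ).1).isPrime
            exact Ideal.IsPrime.comap _)).1 (fun x hx => by
              obtain ⟨Q, hQ, hxQ⟩ := hS x hx
              exact Set.mem_iUnion₂.2 ⟨Q, Finset.mem_coe.2 hQ, hxQ⟩)
        obtain ⟨hQa, hQle⟩ := Finset.mem_filter.1 hQ
        exact hnot Q ((Set.Finite.mem_toFinset _).1 hQa) (le_antisymm hQle hle)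
    -- every element killed by `x` is killed outside each such prime
    have hkill : ∀ (q : Ideal R) [q.IsPrime], q.comap (algebraMap A R) ≤ p → ∀ m : M, x • m = 0 →
        ∃ s ∉ q, s • m = 0 := by
      intro q _ hq m hm
      by_contra hc
      simp only [not_exists, not_and] at hc
      let K : Submodule R M := LinearMap.ker (LinearMap.lsmul R M (algebraMap A R x))
      have hmK : m ∈ K := by simpa [K] using hm
      have hsupp : (⟨q, ‹_›⟩ : PrimeSpectrum R) ∈ Module.support R K :=
        Module.mem_support_iff'.2 ⟨⟨m, hmK⟩, fun r hr h => hc r hr (congrArg Subtype.val h)⟩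
      obtain ⟨Q, hQ, hQq⟩ := exists_associatedPrime_le_of_mem_support hsupp
      have hQp := hQ.isPrime
      refine hxQ Q (associatedPrimes.subset_of_injective (f := K.subtype) Subtype.val_injective hQ)
        ((Ideal.comap_mono hQq).trans hq) ?_
      exact annihilator_le_of_mem_associatedPrimes hQ (Module.mem_annihilator.2 fun y =>
        Subtype.ext (show algebraMap A R x • (y : M) = 0 from y.2))
    have hregp : IsSMulRegular (LocalizedModule p.primeCompl M) (algebraMap A (Localization.AtPrime p) x) := by
      refine IsSMulRegular.of_right_eq_zero_of_smul fun z hz => ?_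
      induction z using LocalizedModule.induction_on with
      | h m t =>
        rw [← Localization.mk_one_eq_algebraMap, LocalizedModule.mk_smul_mk, one_mul,
          ← LocalizedModule.zero_mk t, LocalizedModule.mk_eq] at hz
        obtain ⟨u, hu⟩ := hz
        simp only [Submonoid.smul_def, smul_zero] at hu
        rw [← LocalizedModule.zero_mk t, LocalizedModule.mk_eq]
        by_contra hc
        simp only [not_exists, Submonoid.smul_def, smul_zero] at hc
        let m' := (u : A) • (t : A) • m
        have hm' : x • m' = 0 := by rw [← hu]; simp only [m', smul_smul]; congr 1; ring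
        let I : Ideal R := (R ∙ m').annihilator
        have hI : I.comap (algebraMap A R) ≤ p := fun a ha => by
          by_contra hap
          refine hc ⟨a * (u : A), fun h => (‹p.IsPrime›.mem_or_mem h).elim hap u.2⟩ ?_
          rw [mul_smul]
          have := (Submodule.mem_annihilator_span_singleton m' (algebraMap A R a)).1 ha
          rwa [algebraMap_smul] at this
        obtain ⟨q, hIq, hq, hqp⟩ := Ideal.exists_ideal_over_prime_of_isIntegral p I hI
        obtain ⟨s, hs, hs0⟩ := hkill q hqp.le m' hm'
        exact hs (hIq ((Submodule.mem_annihilator_span_singleton m' s).2 hs0))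
    let M' := M ⧸ (algebraMap A R x • (⊤ : Submodule R M))
    have h' : ∀ (q : Ideal R) [q.IsPrime], q.comap (algebraMap A R) = p →
        (n : ℕ∞) ≤ depth (Localization.AtPrime q) (LocalizedModule q.primeCompl M') := by
      intro q _ hq
      have hxq : algebraMap A R x ∈ q := by
        show x ∈ q.comap (algebraMap A R)
        rw [hq]; exact hxp
      have hregq : IsSMulRegular (LocalizedModule q.primeCompl M)
          (algebraMap R (Localization.AtPrime q) (algebraMap A R x)) := by
        refine IsSMulRegular.of_right_eq_zero_of_smul fun z hz => ?_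
        induction z using LocalizedModule.induction_on with
        | h m t =>
          rw [← Localization.mk_one_eq_algebraMap, LocalizedModule.mk_smul_mk, one_mul,
            ← LocalizedModule.zero_mk t, LocalizedModule.mk_eq] at hz
          obtain ⟨u, hu⟩ := hz
          simp only [Submonoid.smul_def, smul_zero] at hu
          have hm' : x • ((u : R) • (t : R) • m) = 0 := by
            rw [← algebraMap_smul R x ((u : R) • (t : R) • m), ← hu]; simp only [smul_smul]; congr 1; ring
          obtain ⟨s, hs, hs0⟩ := hkill q hq.le _ hm'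
          rw [← LocalizedModule.zero_mk t, LocalizedModule.mk_eq]
          refine ⟨⟨s * (u : R), fun h => (‹q.IsPrime›.mem_or_mem h).elim hs u.2⟩, ?_⟩
          simp only [Submonoid.smul_def, smul_zero, mul_smul]
          exact hs0
      have h1 := hM q hq
      rw [← depth_localization_quotSMulTop_add_one q hxq hregq, Nat.cast_add, Nat.cast_one] at h1
      exact (ENat.add_le_add_iff_right ENat.one_ne_top).mp h1
    have : Module.Finite A M := Module.Finite.trans R M
    let e : QuotSMulTop x M ≃ₗ[A] M' :=
      (Submodule.quotEquivOfEq _ ((algebraMap A R x • (⊤ : Submodule R M)).restrictScalars A) (by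
        ext m
        simp [Submodule.mem_smul_pointwise_iff_exists])).trans
        (Submodule.Quotient.restrictScalarsEquiv A _)
    rw [← depth_localization_quotSMulTop_add_one p hxp hregp, depth_localization_congr e p, Nat.cast_add,
      Nat.cast_one]
    exact add_le_add_left (ih h') 1

end Groth.Agent.ComodBasic
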