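import Groth.Agent.ComodBasic.Integral
import Groth.Prelude.Def_GLin
import Mathlib

/-!
# Invariants of a finite group scheme: norms, integrality, orbits, going down
-/

namespace Groth.Agent.ComodBasic

open TensorProduct WithConv CoalgebraStruct HopfRep

universe u v v' w

section Galois

variable {k : Type u} [CommRing k] {H : Type w} [CommRing H] [HopfAlgebra k H]

/-- `a ⊗ b ↦ (a ⊗ 1) Δ b`. -/
noncomputable def galMap : H ⊗[k] H →ₐ[k] H ⊗[k] H :=
  Algebra.TensorProduct.lift Algebra.TensorProduct.includeLeft (Bialgebra.comulAlgHom k H)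
    fun _ _ => Commute.all _ _

/-- `b ↦ S b₁ ⊗ b₂`. -/
noncomputable def galInv : H →ₐ[k] H ⊗[k] H :=
  (toConv (AlgHom.comp (Algebra.TensorProduct.includeLeft : H →ₐ[k] H ⊗[k] H)
      (HopfAlgebra.antipodeAlgHom k H)) *
    toConv (Algebra.TensorProduct.includeRight : H →ₐ[k] H ⊗[k] H)).ofConv

theorem galMap_galInv (h : H) : galMap (galInv h) = (1 : H) ⊗ₜ[k] h := by
  have hl : galMap.comp Algebra.TensorProduct.includeLeft =
      (Algebra.TensorProduct.includeLeft : H →ₐ[k] H ⊗[k] H) :=
    AlgHom.ext fun a => by simp [galMap]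
  have hr : galMap.comp Algebra.TensorProduct.includeRight = Bialgebra.comulAlgHom k H :=
    AlgHom.ext fun a => by simp [galMap]
  have h1 : galMap.comp (galInv : H →ₐ[k] H ⊗[k] H) = Algebra.TensorProduct.includeRight := by
    apply WithConv.toConv_injective
    rw [galInv, AlgHom.comp_convMul_distrib]
    simp only [← AlgHom.comp_assoc, hl, hr, toConv_ofConv]
    rw [← inl_mul_inr]
    exact inv_mul_cancel_left (toConv (Algebra.TensorProduct.includeLeft : H →ₐ[k] H ⊗[k] H))
      (toConv Algebra.TensorProduct.includeRight)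
  exact DFunLike.congr_fun h1 h

end Galois

section CharPoly

variable {k : Type u} [Field k] {H : Type w} [CommRing H] [HopfAlgebra k H] [Module.Finite k H]
variable {R : Type v} [CommRing R] [Algebra k R]

variable (k H R) in
/-- The basis of `R ⊗ H` over `R`. -/
noncomputable def baseBasis : Module.Basis (Fin (Module.finrank k H)) R (R ⊗[k] H) :=
  Algebra.TensorProduct.basis R (Module.finBasis k H)

/-- The characteristic polynomial of multiplication by an element of `R ⊗ H`. -/
noncomputable def cpoly (x : R ⊗[k] H) : Polynomial R :=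
  (Algebra.leftMulMatrix (baseBasis k H R) x).charpoly

theorem leftMulMatrix_map {S : Type v'} [CommRing S] [Algebra k S] (φ : R →ₐ[k] S) (x : R ⊗[k] H) :
    Algebra.leftMulMatrix (baseBasis k H S) (Algebra.TensorProduct.map φ (AlgHom.id k H) x) =
      (Algebra.leftMulMatrix (baseBasis k H R) x).map φ := by
  have hrepr : ∀ (z : R ⊗[k] H) (i : Fin (Module.finrank k H)),
      (baseBasis k H S).repr (Algebra.TensorProduct.map φ (AlgHom.id k H) z) i =
        φ ((baseBasis k H R).repr z i) := by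
    intro z i
    induction z using TensorProduct.induction_on with
    | zero => simp
    | add a b ha hb => simp [ha, hb]
    | tmul a b => simp [baseBasis]
  ext i j
  rw [Matrix.map_apply, Algebra.leftMulMatrix_eq_repr_mul, Algebra.leftMulMatrix_eq_repr_mul, ← hrepr,
    map_mul (Algebra.TensorProduct.map φ (AlgHom.id k H))]
  congr 3
  simp [baseBasis]

theorem cpoly_map {S : Type v'} [CommRing S] [Algebra k S] (φ : R →ₐ[k] S) (x : R ⊗[k] H) :
    cpoly (Algebra.TensorProduct.map φ (AlgHom.id k H) x) = (cpoly x).map φ.toRingHom := by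
  rw [cpoly, leftMulMatrix_map]
  exact Matrix.charpoly_map _ φ.toRingHom

theorem cpoly_algEquiv (e : (R ⊗[k] H) ≃ₐ[R] (R ⊗[k] H)) (x : R ⊗[k] H) : cpoly (e x) = cpoly x := by
  have : Module.Free R (R ⊗[k] H) := Module.Free.of_basis (baseBasis k H R)
  have : Module.Finite R (R ⊗[k] H) := Module.Finite.of_basis (baseBasis k H R)
  rw [cpoly, cpoly, Algebra.leftMulMatrix_apply, Algebra.leftMulMatrix_apply, LinearMap.charpoly_toMatrix,
    LinearMap.charpoly_toMatrix, ← LinearEquiv.charpoly_conj e.toLinearEquiv (Algebra.lmul R _ x)]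
  congr 1
  refine LinearMap.ext fun z => ?_
  simp [LinearEquiv.conj_apply]

theorem aeval_cpoly (x : R ⊗[k] H) : Polynomial.aeval x (cpoly x) = 0 := by
  apply Algebra.leftMulMatrix_injective (baseBasis k H R)
  rw [map_zero, ← Polynomial.aeval_algHom_apply]
  exact Matrix.aeval_self_charpoly _

variable [Comod k H R] [GLin.IsCoactAlg k H R]

local notation "ρ" => GLin.coactAlgHom k H R

/-- The translation automorphism of `(R ⊗ H) ⊗ H`. -/
theorem exists_translate :
    ∃ e : ((R ⊗[k] H) ⊗[k] H) ≃ₐ[R ⊗[k] H] ((R ⊗[k] H) ⊗[k] H), ∀ f : R,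
      e (Algebra.TensorProduct.map (Algebra.TensorProduct.includeLeft : R →ₐ[k] R ⊗[k] H) (AlgHom.id k H)
          (ρ f)) =
        Algebra.TensorProduct.map ρ (AlgHom.id k H) (ρ f) := by
  let j : H ⊗[k] H →ₐ[k] (R ⊗[k] H) ⊗[k] H :=
    Algebra.TensorProduct.map Algebra.TensorProduct.includeRight (AlgHom.id k H)
  let θ : (R ⊗[k] H) ⊗[k] H →ₐ[R ⊗[k] H] (R ⊗[k] H) ⊗[k] H :=
    Algebra.TensorProduct.lift (Algebra.ofId (R ⊗[k] H) _) (j.comp (Bialgebra.comulAlgHom k H))
      fun _ _ => Commute.all _ _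
  let θ' : (R ⊗[k] H) ⊗[k] H →ₐ[R ⊗[k] H] (R ⊗[k] H) ⊗[k] H :=
    Algebra.TensorProduct.lift (Algebra.ofId (R ⊗[k] H) _) (j.comp galInv)
      fun _ _ => Commute.all _ _
  have hθ : ∀ z h, θ (z ⊗ₜ[k] h) = (z ⊗ₜ[k] (1 : H)) * j (comul (R := k) h) := fun z h =>
    Algebra.TensorProduct.lift_tmul _ _ _ z h
  have hθ' : ∀ z h, θ' (z ⊗ₜ[k] h) = (z ⊗ₜ[k] (1 : H)) * j (galInv h) := fun z h =>
    Algebra.TensorProduct.lift_tmul _ _ _ z h
  have hj : ∀ w, θ (j w) = j (galMap w) := by
    intro w
    induction w using TensorProduct.induction_on with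
    | zero => simp
    | add a b ha hb => simp only [map_add, ha, hb]
    | tmul a b => simp [j, hθ, galMap]
  have hθθ' : θ.comp θ' = AlgHom.id _ _ := by
    refine Algebra.TensorProduct.ext (Subsingleton.elim _ _) (AlgHom.ext fun h => ?_)
    show θ (θ' (((1 : R ⊗[k] H)) ⊗ₜ[k] h)) = (1 : R ⊗[k] H) ⊗ₜ[k] h
    rw [hθ', ← Algebra.TensorProduct.one_def, one_mul, hj, galMap_galInv]
    simp [j, Algebra.TensorProduct.one_def]
  have hsurj : Function.Surjective θ := fun z => ⟨θ' z, DFunLike.congr_fun hθθ' z⟩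
  have : Module.Finite (R ⊗[k] H) ((R ⊗[k] H) ⊗[k] H) := Module.Finite.of_basis (baseBasis k H (R ⊗[k] H))
  have hbij : Function.Bijective θ :=
    ⟨OrzechProperty.injective_of_surjective_endomorphism θ.toLinearMap hsurj, hsurj⟩
  refine ⟨AlgEquiv.ofBijective θ hbij, fun f => ?_⟩
  show θ _ = _
  have h := LinearMap.congr_fun (Comod.coassoc (k := k) (A := H) (V := R)) f
  simp only [LinearMap.comp_apply, LinearEquiv.coe_coe] at h
  have hR : ∀ z : R ⊗[k] H, Algebra.TensorProduct.map ρ (AlgHom.id k H) z =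
      (Comod.coact (k := k) (A := H) (V := R)).rTensor H z := by
    intro z
    induction z using TensorProduct.induction_on with
    | zero => simp
    | add a b ha hb => simp only [map_add, ha, hb]
    | tmul a b => simp
  rw [hR, GLin.coactAlgHom_apply,
    ← (TensorProduct.assoc k R H H).symm_apply_apply
      ((Comod.coact (k := k) (A := H) (V := R)).rTensor H (Comod.coact (k := k) (A := H) f)), h]
  generalize Comod.coact (k := k) (A := H) f = z
  induction z using TensorProduct.induction_on with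
  | zero => simp
  | add a b ha hb => simp only [map_add, ha, hb]
  | tmul a b =>
    rw [Algebra.TensorProduct.map_tmul, AlgHom.coe_id, id_eq, hθ, LinearMap.lTensor_tmul]
    generalize comul (R := k) b = w
    induction w using TensorProduct.induction_on with
    | zero => simp
    | add p q hp hq => simp only [map_add, mul_add, TensorProduct.tmul_add, hp, hq]
    | tmul p q => simp [j]

theorem cpoly_coeff_fixed (f : R) (n : ℕ) :
    Comod.coact (k := k) (A := H) ((cpoly (ρ f)).coeff n) = (cpoly (ρ f)).coeff n ⊗ₜ[k] (1 : H) := by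
  obtain ⟨e, he⟩ := exists_translate (k := k) (H := H) (R := R)
  have h := cpoly_algEquiv e
    (Algebra.TensorProduct.map (Algebra.TensorProduct.includeLeft : R →ₐ[k] R ⊗[k] H) (AlgHom.id k H) (ρ f))
  rw [he, cpoly_map, cpoly_map] at h
  have h' := congrArg (fun p => Polynomial.coeff p n) h
  simp only [Polynomial.coeff_map] at h'
  exact h'

/-- Evaluation at the identity section. -/
noncomputable def atOne : R ⊗[k] H →ₐ[R] R :=
  Algebra.TensorProduct.lift (Algebra.ofId R R) ((Algebra.ofId k R).comp (Bialgebra.counitAlgHom k H))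
    fun _ _ => Commute.all _ _

omit [Module.Finite k H] in
theorem atOne_coact (f : R) : atOne (ρ f) = f := by
  have h := congrArg (TensorProduct.rid k R) (LinearMap.congr_fun (Comod.counit_comp (k := k) (A := H) (V := R)) f)
  simp only [LinearMap.comp_apply, LinearMap.flip_apply, TensorProduct.mk_apply, TensorProduct.rid_tmul, one_smul] at h
  conv_rhs => rw [← h]
  rw [GLin.coactAlgHom_apply]
  generalize Comod.coact (k := k) (A := H) f = z
  induction z using TensorProduct.induction_on with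
  | zero => simp
  | add a b ha hb => simp only [map_add, ha, hb]
  | tmul a b => simp [atOne, Algebra.smul_def, mul_comm]

theorem aeval_cpoly_coact (f : R) : Polynomial.aeval f (cpoly (ρ f)) = 0 := by
  have h := congrArg atOne (aeval_cpoly (ρ f))
  rwa [← Polynomial.aeval_algHom_apply, atOne_coact, map_zero] at h

end CharPoly

section Orbit

variable {k : Type u} [Field k] {H : Type w} [CommRing H] [HopfAlgebra k H] [Module.Finite k H]
variable {R : Type v} [CommRing R] [Algebra k R] [Comod k H R] [GLin.IsCoactAlg k H R]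
variable {A : Subalgebra k R}

local notation "ρ" => GLin.coactAlgHom k H R

variable (hA : ∀ a : R, a ∈ A ↔ Comod.coact (k := k) (A := H) a = a ⊗ₜ[k] (1 : H))
include hA

theorem isIntegral_invariants : Algebra.IsIntegral A R := by
  refine ⟨fun f => ?_⟩
  rcases subsingleton_or_nontrivial R with hs | hs
  · rw [Subsingleton.elim f 0]
    exact isIntegral_zero
  have hl : cpoly (ρ f) ∈ Polynomial.lifts (algebraMap A R) :=
    (Polynomial.lifts_iff_coeff_lifts _).2 fun n =>
      ⟨⟨_, (hA _).2 (cpoly_coeff_fixed f n)⟩, rfl⟩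
  obtain ⟨q, hq, -, hmon⟩ := Polynomial.lifts_and_degree_eq_and_monic hl (Matrix.charpoly_monic _)
  refine ⟨q, hmon, ?_⟩
  rw [← Polynomial.eval_map, hq, Polynomial.eval_eq_sum]
  have h := aeval_cpoly_coact (k := k) (H := H) f
  rw [Polynomial.aeval_def, Algebra.algebraMap_self, Polynomial.eval₂_id, Polynomial.eval_eq_sum] at h
  exact h

/-- Two primes over the same prime of the invariants are related by the action. -/
theorem exists_prime_over_pair (q₁ q₂ : Ideal R) [q₁.IsPrime] [q₂.IsPrime]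
    (h : q₁.comap (algebraMap A R) = q₂.comap (algebraMap A R)) :
    ∃ Q : Ideal (R ⊗[k] H), Q.IsPrime ∧ Q.comap (algebraMap R (R ⊗[k] H)) = q₁ ∧ Q.comap ρ = q₂ := by
  classical
  have := isIntegral_invariants hA
  let K := q₁.ResidueField
  let i : R →ₐ[k] K := IsScalarTower.toAlgHom k R K
  let m : R ⊗[k] H →ₐ[k] K ⊗[k] H := Algebra.TensorProduct.map i (AlgHom.id k H)
  have hK : ∀ P : Ideal (K ⊗[k] H), P.IsPrime →
      (P.comap m).comap (algebraMap R (R ⊗[k] H)) = q₁ := by
    intro P hP
    ext r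
    have hb : P.comap (algebraMap K (K ⊗[k] H)) = ⊥ :=
      (Ideal.eq_bot_or_top _).resolve_right (Ideal.IsPrime.comap (algebraMap K (K ⊗[k] H))).ne_top
    rw [Ideal.mem_comap, Ideal.mem_comap]
    show m (r ⊗ₜ[k] (1 : H)) ∈ P ↔ _
    rw [show m (r ⊗ₜ[k] (1 : H)) = algebraMap K (K ⊗[k] H) (algebraMap R K r) by simp [m, i],
      ← Ideal.mem_comap, hb, Ideal.mem_bot, Ideal.algebraMap_residueField_eq_zero]
  have : IsArtinianRing (K ⊗[k] H) := IsArtinianRing.of_finite K (K ⊗[k] H)
  have : Fintype (PrimeSpectrum (K ⊗[k] H)) := Fintype.ofFinite _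
  by_contra hne
  simp only [not_exists, not_and] at hne
  let O : PrimeSpectrum (K ⊗[k] H) → Ideal R := fun P => (P.asIdeal.comap m).comap ρ
  have hnle : ∀ P, ¬ q₂ ≤ O P := by
    intro P hle
    have hOp : (O P).comap (algebraMap A R) = q₁.comap (algebraMap A R) := by
      conv_rhs => rw [← hK P.asIdeal P.2]
      ext a
      simp only [O, Ideal.mem_comap]
      rw [show ρ (algebraMap A R a) = algebraMap R (R ⊗[k] H) (algebraMap A R a) from (hA _).1 a.2]
    rcases lt_or_eq_of_le hle with hlt | heq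
    · have := Ideal.IsIntegral.comap_lt_comap (R := A) hlt
      rw [hOp, h] at this
      exact lt_irrefl _ this
    · exact hne (P.asIdeal.comap m) (Ideal.IsPrime.comap m) (hK _ P.2) heq.symm
  obtain ⟨f, hf, hfO⟩ : ∃ f ∈ q₂, ∀ P, f ∉ O P := by
    by_contra hc
    simp only [not_exists, not_and, not_forall, not_not] at hc
    rcases isEmpty_or_nonempty (PrimeSpectrum (K ⊗[k] H)) with hemp | hnonempty
    · exact (hc 0 q₂.zero_mem).elim fun P _ => hemp.false P
    · obtain ⟨P₀⟩ := hnonempty
      obtain ⟨P, -, hP⟩ := (Ideal.subset_union_prime (s := Finset.univ) (f := O) P₀ P₀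
        (fun P _ _ _ => by have := P.2; exact Ideal.IsPrime.comap _)).1 (fun x hx => by
          obtain ⟨P, hP⟩ := hc x hx
          exact Set.mem_iUnion₂.2 ⟨P, Finset.mem_coe.2 (Finset.mem_univ P), hP⟩)
      exact hnle P hP
  have hunit : IsUnit (m (ρ f)) := by
    by_contra hnu
    obtain ⟨P, hP, hmem⟩ := exists_max_ideal_of_mem_nonunits hnu
    exact hfO ⟨P, hP.isPrime⟩ hmem
  have hdet : IsUnit (Algebra.leftMulMatrix (baseBasis k H K) (m (ρ f))).det :=
    (Matrix.isUnit_iff_isUnit_det _).1 (hunit.map _)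
  rw [leftMulMatrix_map i (ρ f), ← AlgHom.mapMatrix_apply, ← AlgHom.map_det] at hdet
  -- the norm lies in `q₁`
  have hdvd : (cpoly (ρ f)).coeff 0 ∈ q₂ := by
    have h0 := aeval_cpoly_coact (k := k) (H := H) f
    have h1 : Ideal.Quotient.mk q₂ (Polynomial.aeval f (cpoly (ρ f))) = 0 := by rw [h0, map_zero]
    rw [Polynomial.aeval_def, Algebra.algebraMap_self, Polynomial.eval₂_id, ← Polynomial.eval₂_at_apply,
      Ideal.Quotient.eq_zero_iff_mem.2 hf, Polynomial.eval₂_at_zero] at h1
    exact Ideal.Quotient.eq_zero_iff_mem.1 h1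
  have hc0 : (cpoly (ρ f)).coeff 0 ∈ q₁ := by
    have h2 : (⟨_, (hA _).2 (cpoly_coeff_fixed f 0)⟩ : A) ∈ q₂.comap (algebraMap A R) := hdvd
    rw [← h] at h2
    exact h2
  refine hdet.ne_zero ?_
  rw [Matrix.det_eq_sign_charpoly_coeff]
  show i (_ * (cpoly (ρ f)).coeff 0) = 0
  rw [map_mul]
  show _ * algebraMap R K _ = 0
  rw [Ideal.algebraMap_residueField_eq_zero.2 hc0, mul_zero]

theorem hasGoingDown_invariants : Algebra.HasGoingDown A R := by
  have := isIntegral_invariants hA
  refine ⟨fun {p} _ q _ hpq => ?_⟩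
  obtain ⟨q₁', -, hq₁', hcomap⟩ := Ideal.exists_ideal_over_prime_of_isIntegral p (⊥ : Ideal R) (by
    rw [show (⊥ : Ideal R).comap (algebraMap A R) = ⊥ from
      (RingHom.injective_iff_ker_eq_bot _).1 Subtype.val_injective]
    exact bot_le)
  obtain ⟨q₁, hle, hq₁, hcomap₁⟩ := Ideal.exists_ideal_over_prime_of_isIntegral (q.under A) q₁' (by
    rw [hcomap]; exact hpq.le)
  obtain ⟨Q, hQ, hQ1, hQ2⟩ := exists_prime_over_pair (H := H) hA q₁ q hcomap₁
  have : Q.LiesOver q₁ := ⟨hQ1.symm⟩
  obtain ⟨Q', hQ'le, hQ', hQ'over⟩ :=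
    Ideal.exists_ideal_le_liesOver_of_le (R := R) (S := R ⊗[k] H) (p := q₁') (q := q₁) Q hle
  refine ⟨Q'.comap ρ, hQ2 ▸ Ideal.comap_mono hQ'le, Ideal.IsPrime.comap _, ⟨?_⟩⟩
  rw [← hcomap, hQ'over.over]
  ext a
  simp only [Ideal.mem_comap, Ideal.under_def]
  rw [show ρ (algebraMap A R a) = algebraMap R (R ⊗[k] H) (algebraMap A R a) from (hA _).1 a.2]

theorem height_le_height_of_liesOver [IsNoetherianRing R] [IsNoetherianRing A] (q : Ideal R) [q.IsPrime] :
    (q.comap (algebraMap A R)).height ≤ q.height := by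
  have := hasGoingDown_invariants (H := H) hA
  have : q.LiesOver (q.comap (algebraMap A R)) := ⟨rfl⟩
  rw [Ideal.height_eq_height_add_of_liesOver_of_hasGoingDown (q.comap (algebraMap A R)) q]
  exact le_self_add

end Orbit

end Groth.Agent.ComodBasic
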