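import Groth.Agent.ComodBasic.FiniteInv
import Groth.Agent.ComodBasic.DepthOver
import Groth.Agent.ComodBasic.Reductive

/-!
# Serre conditions for invariants of linearly reductive finite group schemes
-/

namespace Groth.Agent.ComodBasic

open TensorProduct WithConv CoalgebraStruct HopfRep LocCoh

universe u

variable {k : Type u} [Field k] {H : Type u} [CommRing H] [HopfAlgebra k H] [Module.Finite k H]
variable {R : Type u} [CommRing R] [Algebra k R] [Comod k H R] [GLin.IsCoactAlg k H R]
variable {A : Subalgebra k R}
variable (hA : ∀ a : R, a ∈ A ↔ Comod.coact (k := k) (A := H) a = a ⊗ₜ[k] (1 : H))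
include hA

theorem finite_invariants [Algebra.FiniteType k R] : Module.Finite A R := by
  have := isIntegral_invariants hA
  have : Algebra.FiniteType A R := Algebra.FiniteType.of_restrictScalars_finiteType k A R
  exact Algebra.IsIntegral.finite

theorem isNoetherianRing_invariants [Algebra.FiniteType k R] : IsNoetherianRing A := by
  have := finite_invariants hA
  have : Algebra.FiniteType k A :=
    ⟨fg_of_fg_of_fg k A R Algebra.FiniteType.out Module.Finite.fg_top Subtype.val_injective⟩
  exact Algebra.FiniteType.isNoetherianRing k A

omit [Module.Finite k H] in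
theorem exists_invariants_projection (hG : IsLinearlyReductive k H) :
    ∃ E : R →ₗ[A] A, E ∘ₗ Algebra.linearMap A R = LinearMap.id := by
  have : IsSemisimpleModule (Cv k H) R := isSemisimpleModule_of_finite hG R
  obtain ⟨E, hE, hE'⟩ := exists_reynolds (k := k) (A := H) R
  have hlin : ∀ (a : A) (x : R), E ((a : R) * x) = (a : R) * E x := by
    intro a x
    let m : R →ₗ[Cv k H] R := toLin (LinearMap.mulRight k (a : R))
      (isComodHom_mulRight_of_fixed GLin.IsCoactAlg.coact_mul ((hA _).1 a.2))
    have hm : ∀ y, m y = y * (a : R) := fun y => rfl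
    have h := eq_of_eq_on_fixed (E ∘ₗ m) (m ∘ₗ E) (fun v => hE _) (fun v => map_mem_fixedPts m (hE v))
      (fun v hv => by
        rw [LinearMap.comp_apply, LinearMap.comp_apply, hE' v hv, hE' _ (map_mem_fixedPts m hv)])
    have h' := LinearMap.congr_fun h x
    simp only [LinearMap.comp_apply, hm] at h'
    rw [mul_comm, h', mul_comm]
  refine ⟨{ toFun := fun x => ⟨E x, (hA _).2 (hE x)⟩
            map_add' := fun x y => Subtype.ext (map_add E x y)
            map_smul' := fun a x => Subtype.ext (hlin a x) }, ?_⟩
  exact LinearMap.ext fun a => Subtype.ext (hE' _ ((hA _).1 a.2))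

theorem depth_and_dim (hG : IsLinearlyReductive k H) [Algebra.FiniteType k R] (p : Ideal A) [p.IsPrime] :
    Module.supportDim (Localization.AtPrime p) (LocalizedModule p.primeCompl R) =
        ringKrullDim (Localization.AtPrime p) ∧
      Module.supportDim (Localization.AtPrime p) (LocalizedModule p.primeCompl A) =
        ringKrullDim (Localization.AtPrime p) ∧
      depth (Localization.AtPrime p) (LocalizedModule p.primeCompl R) ≤
        depth (Localization.AtPrime p) (LocalizedModule p.primeCompl A) ∧
      ∀ n : ℕ, (∀ (q : Ideal R) [q.IsPrime], (n : WithBot ℕ∞) ≤ ringKrullDim (Localization.AtPrime q) →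
          (n : ℕ∞) ≤ depth (Localization.AtPrime q) (LocalizedModule q.primeCompl R)) →
        (n : WithBot ℕ∞) ≤ ringKrullDim (Localization.AtPrime p) →
        (n : ℕ∞) ≤ depth (Localization.AtPrime p) (LocalizedModule p.primeCompl R) := by
  have := finite_invariants hA
  have := isNoetherianRing_invariants hA
  have : IsNoetherianRing R := Algebra.FiniteType.isNoetherianRing k R
  obtain ⟨E, hE⟩ := exists_invariants_projection hA hG
  let i := LocalizedModule.map p.primeCompl (Algebra.linearMap A R)
  let r := LocalizedModule.map p.primeCompl E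
  have hri : r ∘ₗ i = LinearMap.id := by
    refine LinearMap.ext fun z => ?_
    induction z using LocalizedModule.induction_on with
    | h m s =>
      simp only [r, i, LinearMap.comp_apply, LocalizedModule.map_mk, LinearMap.id_apply]
      congr 1
      exact LinearMap.congr_fun hE m
  have hinj : Function.Injective i :=
    Function.LeftInverse.injective (g := r) fun z => LinearMap.congr_fun hri z
  have hdimA : Module.supportDim (Localization.AtPrime p) (LocalizedModule p.primeCompl A) =
      ringKrullDim (Localization.AtPrime p) := Module.supportDim_self_eq_ringKrullDim _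
  refine ⟨le_antisymm (Module.supportDim_le_ringKrullDim _ _) ?_, hdimA,
    depth_le_depth_of_retract i r hri, fun n hn hp => ?_⟩
  · rw [← hdimA]
    exact Module.supportDim_le_of_injective i hinj
  · refine natCast_le_depth_localization_of_forall_over p n fun q _ hq => hn q (hp.trans ?_)
    rw [IsLocalization.AtPrime.ringKrullDim_eq_height p, IsLocalization.AtPrime.ringKrullDim_eq_height q,
      WithBot.coe_le_coe]
    conv_lhs => rw [show p = q.comap (algebraMap A R) from hq.symm]
    exact height_le_height_of_liesOver (H := H) hA q

theorem hasSk_invariants (hG : IsLinearlyReductive k H) [Algebra.FiniteType k R] (r : ℕ)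
    (hR : HasSk r R R) : HasSk r A R ∧ HasSk r A A := by
  have key : ∀ (p : Ideal A) [p.IsPrime],
      min (r : WithBot ℕ∞) (ringKrullDim (Localization.AtPrime p)) ≤
        ((depth (Localization.AtPrime p) (LocalizedModule p.primeCompl R) : ℕ∞) : WithBot ℕ∞) := by
    intro p _
    obtain ⟨-, -, -, h⟩ := depth_and_dim hA hG p
    have hlow : ∀ n : ℕ, n ≤ r → (n : WithBot ℕ∞) ≤ ringKrullDim (Localization.AtPrime p) →
        (n : ℕ∞) ≤ depth (Localization.AtPrime p) (LocalizedModule p.primeCompl R) := by
      intro n hnr hp
      refine h n (fun q _ hq => ?_) hp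
      have h1 := hR q
      have hd : Module.supportDim (Localization.AtPrime q) (LocalizedModule q.primeCompl R) =
          ringKrullDim (Localization.AtPrime q) := Module.supportDim_self_eq_ringKrullDim _
      rw [hd] at h1
      exact WithBot.coe_le_coe.1 ((le_min (by exact_mod_cast hnr) hq).trans h1)
    rw [IsLocalization.AtPrime.ringKrullDim_eq_height p] at hlow ⊢
    rw [show min (r : WithBot ℕ∞) (p.height : WithBot ℕ∞) = ((min (r : ℕ∞) p.height : ℕ∞) : WithBot ℕ∞) from
      (WithBot.coe_min _ _).symm, WithBot.coe_le_coe]
    refine ENat.forall_natCast_le_iff_le.mp fun n hn => hlow n ?_ ?_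
    · exact Nat.cast_le.1 (hn.trans (min_le_left _ _))
    · exact WithBot.coe_le_coe.2 (hn.trans (min_le_right _ _))
  refine ⟨fun p _ => ?_, fun p _ => ?_⟩
  · rw [(depth_and_dim hA hG p).1]
    exact key p
  · obtain ⟨-, h2, h3, -⟩ := depth_and_dim hA hG p
    rw [h2]
    exact (key p).trans (WithBot.coe_le_coe.2 h3)

end Groth.Agent.ComodBasic
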