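import Groth.Agent.ComodBasic.UnitChar
import Groth.Agent.CommGrpDecomp.SepSplit
import Mathlib.RingTheory.Norm.Defs

/-!
# A connected algebra with a rational point is geometrically connected
-/

namespace Groth.Agent.ComodBasic

open TensorProduct CoalgebraStruct

universe u

variable {k : Type u} [Field k] {C : Type u} [CommRing C] [Algebra k C]

theorem map_norm_eq {L : Type u} [Field L] [Algebra k L] [FiniteDimensional k L] (ε : C →ₐ[k] k)
    (x : C ⊗[k] L) :
    ε (Algebra.norm C x) =
      Algebra.norm k (Algebra.TensorProduct.lid k L (Algebra.TensorProduct.map ε (AlgHom.id k L) x)) := by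
  classical
  let b := Module.finBasis k L
  rw [Algebra.norm_eq_matrix_det (Algebra.TensorProduct.basis C b), Algebra.norm_eq_matrix_det b,
    ← AlgHom.coe_toRingHom, RingHom.map_det]
  congr 1
  ext i j
  simp only [RingHom.mapMatrix_apply, Matrix.map_apply, Algebra.leftMulMatrix_eq_repr_mul,
    Algebra.TensorProduct.basis_apply]
  induction x using TensorProduct.induction_on with
  | zero => simp
  | add x y hx hy => simp only [add_mul, map_add, Finsupp.add_apply, hx, hy]
  | tmul c l => simp [Algebra.TensorProduct.tmul_mul_tmul, smul_mul_assoc, mul_comm]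

/-- idempotents of a finite base change of a connected algebra with a rational point -/
theorem eq_zero_or_one_of_finite (hconn : ∀ e : C, IsIdempotentElem e → e = 0 ∨ e = 1) (ε : C →ₐ[k] k)
    {L : Type u} [Field L] [Algebra k L] [FiniteDimensional k L] {e : C ⊗[k] L} (he : IsIdempotentElem e) :
    e = 0 ∨ e = 1 := by
  let εL : C ⊗[k] L →ₐ[k] L :=
    (Algebra.TensorProduct.lid k L).toAlgHom.comp (Algebra.TensorProduct.map ε (AlgHom.id k L))
  have key : ∀ f : C ⊗[k] L, IsIdempotentElem f → εL f = 1 → f = 1 := by
    intro f hf h1
    have hN : IsIdempotentElem (Algebra.norm C f) := by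
      rw [IsIdempotentElem, ← map_mul, hf.eq]
    rcases hconn _ hN with h | h
    · exfalso
      have h2 := map_norm_eq ε f
      rw [h, map_zero, show Algebra.TensorProduct.lid k L (Algebra.TensorProduct.map ε (AlgHom.id k L) f) = εL f
        from rfl, h1, map_one] at h2
      exact zero_ne_one h2
    · have hu : IsUnit f := by
        let b := Algebra.TensorProduct.basis C (Module.finBasis k L)
        classical
        have hM : IsUnit (Algebra.leftMulMatrix b f) := by
          rw [Matrix.isUnit_iff_isUnit_det, ← Algebra.norm_eq_matrix_det b, h]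
          exact isUnit_one
        have hinj : Function.Injective (fun g : C ⊗[k] L => f * g) := by
          intro g g' hg
          apply Algebra.leftMulMatrix_injective b
          apply hM.mul_left_cancel
          rw [← map_mul, ← map_mul]
          exact congrArg _ hg
        have : f * 1 = f * f := by rw [mul_one, hf.eq]
        rw [← hinj this]
        exact isUnit_one
      exact (IsIdempotentElem.iff_eq_one_of_isUnit hu).1 hf
  have hi : IsIdempotentElem (εL e) := he.map εL
  rcases IsIdempotentElem.iff_eq_zero_or_one.1 hi with h | h
  · left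
    have := key (1 - e) he.one_sub (by rw [map_sub, map_one, h, sub_zero])
    rwa [sub_eq_self] at this
  · right
    exact key e he h

theorem eq_zero_or_one_baseChange (hconn : ∀ e : C, IsIdempotentElem e → e = 0 ∨ e = 1) (ε : C →ₐ[k] k)
    {K : Type u} [Field K] [Algebra k K] [Algebra.IsAlgebraic k K] {e : K ⊗[k] C} (he : IsIdempotentElem e) :
    e = 0 ∨ e = 1 := by
  classical
  let b := Module.Free.chooseBasis k C
  let Cs : Set K := (fun i => (b.baseChange K).repr e i) '' ↑((b.baseChange K).repr e).support
  let L := IntermediateField.adjoin k Cs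
  haveI : Finite Cs := ((Finset.finite_toSet _).image _).to_subtype
  haveI : FiniteDimensional k L :=
    IntermediateField.finiteDimensional_adjoin fun x _ => Algebra.IsIntegral.isIntegral x
  let s : C ⊗[k] L →ₐ[k] K ⊗[k] C :=
    (CommGrpDecomp.inclL k L C).comp (Algebra.TensorProduct.comm k C L).toAlgHom
  have hs : Function.Injective s :=
    (Module.Flat.rTensor_preserves_injective_linearMap (M := C) L.val.toLinearMap L.val.injective).comp
      (Algebra.TensorProduct.comm k C L).injective
  obtain ⟨u, hu⟩ : ∃ u, s u = e := by
    refine ⟨∑ i ∈ ((b.baseChange K).repr e).support.attach, b i ⊗ₜ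
      (⟨(b.baseChange K).repr e i, IntermediateField.subset_adjoin k Cs ⟨i, i.2, rfl⟩⟩ : L), ?_⟩
    conv_rhs => rw [← (b.baseChange K).linearCombination_repr e, Finsupp.linearCombination_apply, Finsupp.sum,
      ← Finset.sum_attach]
    rw [map_sum]
    refine Finset.sum_congr rfl fun i _ => ?_
    simp [s, CommGrpDecomp.inclL, smul_tmul']
  rw [← hu] at he ⊢
  have hu' : IsIdempotentElem u := hs (by rw [map_mul]; exact he.eq)
  rcases eq_zero_or_one_of_finite hconn ε hu' with h | h
  · exact Or.inl (by rw [h, map_zero])
  · exact Or.inr (h ▸ s.map_one')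

end Groth.Agent.ComodBasic
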