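import Groth.Agent.ComodBasic.Reductive
import Groth.Agent.ComodBasic.Coalg
import Groth.Agent.S13255
import Groth.Prelude.Def_GLin
import Groth.Prelude.Def_ComodSub
import Groth.Prelude.Def_W4c1tameactTame
import Mathlib.RingTheory.Jacobson.Ring
import Mathlib.RingTheory.Nakayama
import Mathlib.FieldTheory.IsAlgClosed.Basic
import Mathlib.RingTheory.Ideal.Colon

/-!
# Equivariant modules near a free orbit

For a linearly reductive group acting on `Spec R` and an equivariant finite `R`-module `M`, the
module is generated by its invariant elements near every free closed orbit.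
-/

namespace Groth.Agent.ComodBasic

open TensorProduct WithConv CoalgebraStruct HopfRep

universe u v w w'

section Hom

variable {k : Type u} [Field k] {C : Type v} [AddCommGroup C] [Module k C] [Coalgebra k C]
variable {V : Type w} [AddCommGroup V] [Module k V] [Comod k C V]
variable {W : Type w'} [AddCommGroup W] [Module k W] [Comod k C W]

/-- The kernel of a map of comodules is a subcomodule. -/
theorem isSubcomod_ker {f : V →ₗ[k] W} (hf : Hoch.IsComodHom C f) :
    IsSubcomod (k := k) (A := C) (LinearMap.ker f) :=
  (isSubcomod_iff _).2 fun φ v hv => by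
    rw [LinearMap.mem_ker] at hv ⊢
    rw [(isComodHom_iff f).1 hf, hv, smul_zero]

end Hom

section HopfModule

variable {k : Type u} [Field k] {A : Type v} [CommRing A] [Bialgebra k A]
variable {R : Type w} [CommRing R] [Algebra k R] [Comod k A R]
variable {M : Type w'} [AddCommGroup M] [Module k M] [Module R M] [IsScalarTower k R M]

omit [Comod k A R] in
theorem hmSMul_rTensor {M' : Type*} [AddCommGroup M'] [Module k M'] [Module R M'] [IsScalarTower k R M']
    (f : M →ₗ[k] M') (hf : ∀ (r : R) (m : M), f (r • m) = r • f m) (z : R ⊗[k] A) (w : M ⊗[k] A) :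
    f.rTensor A (TameAct.hmSMul k A R M z w) = TameAct.hmSMul k A R M' z (f.rTensor A w) := by
  induction z using TensorProduct.induction_on with
  | zero => simp
  | add p q hp hq => simp only [map_add, LinearMap.add_apply, hp, hq]
  | tmul r a =>
    induction w using TensorProduct.induction_on with
    | zero => simp
    | add p q hp hq => simp only [map_add, hp, hq]
    | tmul m b => simp [hf]

variable [Comod k A M] [TameAct.IsHopfMod k A R M]

/-- A fixed element of the ring carries fixed vectors to fixed vectors. -/
theorem smul_mem_fixedPts {r : R} (hr : r ∈ fixedPts k A R) {m : M} (hm : m ∈ fixedPts k A M) :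
    r • m ∈ fixedPts k A M := by
  show Comod.coact (k := k) (A := A) (r • m) = (r • m) ⊗ₜ[k] (1 : A)
  rw [TameAct.IsHopfMod.coact_smul, show Comod.coact (k := k) (A := A) r = r ⊗ₜ[k] (1 : A) from hr,
    show Comod.coact (k := k) (A := A) m = m ⊗ₜ[k] (1 : A) from hm]
  simp

/-- Scaling by a fixed element of the ring is a map of comodules. -/
theorem isComodHom_lsmul {r : R} (hr : r ∈ fixedPts k A R) :
    Hoch.IsComodHom A (Algebra.lsmul k k M r) := by
  refine LinearMap.ext fun m => ?_
  rw [LinearMap.comp_apply, LinearMap.comp_apply, Algebra.lsmul_coe, TameAct.IsHopfMod.coact_smul,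
    show Comod.coact (k := k) (A := A) r = r ⊗ₜ[k] (1 : A) from hr]
  generalize Comod.coact (k := k) (A := A) m = z
  induction z using TensorProduct.induction_on with
  | zero => simp
  | add p q hp hq => simp only [map_add, hp, hq]
  | tmul p q => simp

/-- Equivariant projections onto fixed vectors are linear over fixed scalars. -/
theorem proj_fixed_smul [IsSemisimpleModule (Cv k A) M] (E : M →ₗ[Cv k A] M)
    (hE : ∀ v, E v ∈ fixedPts k A M) (hE' : ∀ v ∈ fixedPts k A M, E v = v)
    {r : R} (hr : r ∈ fixedPts k A R) (m : M) : E (r • m) = r • E m := by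
  let L : M →ₗ[Cv k A] M := toLin _ (isComodHom_lsmul (M := M) hr)
  have h : E ∘ₗ L = L ∘ₗ E := eq_of_eq_on_fixed _ _ (fun v => hE _) (fun v => map_mem_fixedPts L (hE v))
    fun v hv => by
      rw [LinearMap.comp_apply, LinearMap.comp_apply, hE' v hv, hE' _ (map_mem_fixedPts L hv)]
  exact LinearMap.congr_fun h m

/-- A stable ideal times an equivariant module is a subcomodule. -/
theorem isSubcomod_smul_top (I : Ideal R) (hI : IsSubcomod (k := k) (A := A) (I.restrictScalars k)) :
    IsSubcomod (k := k) (A := A) ((I • ⊤ : Submodule R M).restrictScalars k) := by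
  have key : ∀ (φ : A →ₗ[k] k) (z : (I.restrictScalars k) ⊗[k] A) (y : M ⊗[k] A),
      slice φ (TameAct.hmSMul k A R M ((I.restrictScalars k).subtype.rTensor A z) y) ∈
        (I • ⊤ : Submodule R M) := by
    intro φ z y
    induction z using TensorProduct.induction_on with
    | zero => simp only [map_zero, LinearMap.zero_apply]; exact Submodule.zero_mem _
    | add p q hp hq =>
      simp only [map_add, LinearMap.add_apply]; exact Submodule.add_mem _ hp hq
    | tmul i a =>
      induction y using TensorProduct.induction_on with
      | zero => simp only [map_zero]; exact Submodule.zero_mem _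
      | add p q hp hq => simp only [map_add]; exact Submodule.add_mem _ hp hq
      | tmul x b =>
        rw [LinearMap.rTensor_tmul, TameAct.hmSMul_tmul, slice_tmul]
        exact Submodule.smul_of_tower_mem _ (φ (a * b))
          (Submodule.smul_mem_smul (I := I) i.2 Submodule.mem_top)
  refine (isSubcomod_iff _).2 fun φ w hw => ?_
  rw [Submodule.restrictScalars_mem] at hw ⊢
  have key2 : ∀ (r : R) (m : M), r ∈ I → φ • (r • m) ∈ (I • ⊤ : Submodule R M) := by
    intro r m hr
    rw [smul_def, act_apply, TameAct.IsHopfMod.coact_smul]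
    obtain ⟨z, hz⟩ := hI r hr
    rw [← hz]
    exact key φ.ofConv z _
  exact Submodule.smul_induction_on hw (fun r hr m _ => key2 r m hr)
    (fun x y hx hy => by rw [smul_add]; exact Submodule.add_mem _ hx hy)

/-- The span of fixed vectors is a subcomodule. -/
theorem isSubcomod_span_of_subset_fixed (s : Set M) (hs : s ⊆ (fixedPts k A M : Set M)) :
    IsSubcomod (k := k) (A := A) ((Submodule.span R s).restrictScalars k) := by
  refine (isSubcomod_iff _).2 fun φ w hw => ?_
  have key : ∀ r : R, ∀ m ∈ s, φ • (r • m) ∈ (Submodule.span R s).restrictScalars k := by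
    intro r m hm
    rw [smul_def, act_apply, TameAct.IsHopfMod.coact_smul,
      show Comod.coact (k := k) (A := A) m = m ⊗ₜ[k] (1 : A) from hs hm]
    generalize Comod.coact (k := k) (A := A) r = z
    induction z using TensorProduct.induction_on with
    | zero => simp
    | add p q hp hq => simp only [map_add, LinearMap.add_apply]; exact Submodule.add_mem _ hp hq
    | tmul i a =>
      rw [TameAct.hmSMul_tmul, slice_tmul]
      exact Submodule.smul_mem _ _ (Submodule.smul_mem (p := Submodule.span R s) i (Submodule.subset_span hm))
  obtain ⟨n, c, g, rfl⟩ := Submodule.mem_span_set'.1 (Submodule.restrictScalars_mem k _ _ |>.1 hw)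
  rw [Finset.smul_sum]
  exact Submodule.sum_mem _ fun i _ => key _ _ (g i).2

/-- The coaction on the quotient by a stable submodule. -/
@[reducible] noncomputable def quotComod (N : Submodule R M)
    (hN : IsSubcomod (k := k) (A := A) (N.restrictScalars k)) : Comod k A (M ⧸ N) :=
  ComodTens.Comod.ofEquiv (Submodule.Quotient.restrictScalarsEquiv k N)
    (ComodSub.Comod.quot (inferInstance : Comod k A M) (N.restrictScalars k) hN)

theorem quotComod_coact_mk (N : Submodule R M)
    (hN : IsSubcomod (k := k) (A := A) (N.restrictScalars k)) (m : M) :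
    (quotComod N hN).coact (N.mkQ m) =
      (N.mkQ.restrictScalars k).rTensor A (Comod.coact (k := k) (A := A) m) := by
  have h := ComodTens.ofEquiv_coact_apply (Submodule.Quotient.restrictScalarsEquiv k N)
    (ComodSub.Comod.quot (inferInstance : Comod k A M) (N.restrictScalars k) hN)
    (Submodule.Quotient.mk m)
  rw [ComodSub.quot_coact_mk, ← LinearMap.rTensor_comp_apply] at h
  exact h

theorem isComodHom_quotComod_mkQ (N : Submodule R M)
    (hN : IsSubcomod (k := k) (A := A) (N.restrictScalars k)) :
    letI := quotComod N hN
    Hoch.IsComodHom A (N.mkQ.restrictScalars k) :=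
  LinearMap.ext fun m => quotComod_coact_mk N hN m

theorem isHopfMod_quotComod (N : Submodule R M)
    (hN : IsSubcomod (k := k) (A := A) (N.restrictScalars k)) :
    letI := quotComod N hN
    TameAct.IsHopfMod k A R (M ⧸ N) := by
  letI := quotComod N hN
  refine ⟨fun r q => ?_⟩
  obtain ⟨m, rfl⟩ := N.mkQ_surjective q
  rw [← map_smul]
  change (quotComod N hN).coact (N.mkQ (r • m)) = TameAct.hmSMul k A R (M ⧸ N) (Comod.coact (k := k) (A := A) r) ((quotComod N hN).coact (N.mkQ m))
  rw [quotComod_coact_mk, quotComod_coact_mk, TameAct.IsHopfMod.coact_smul]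
  exact hmSMul_rTensor (N.mkQ.restrictScalars k) (fun (r : R) (m : M) => map_smul N.mkQ r m) _ _

/-- The coaction on a stable submodule. -/
@[reducible] noncomputable def restrComod (N : Submodule R M)
    (hN : IsSubcomod (k := k) (A := A) (N.restrictScalars k)) : Comod k A N :=
  ComodSub.Comod.restr (inferInstance : Comod k A M) (N.restrictScalars k) hN

theorem isComodHom_restrComod_subtype (N : Submodule R M)
    (hN : IsSubcomod (k := k) (A := A) (N.restrictScalars k)) :
    letI := restrComod N hN
    Hoch.IsComodHom A (N.subtype.restrictScalars k) :=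
  ComodSub.isComodHom_subtype (inferInstance : Comod k A M) (N.restrictScalars k) hN

theorem isHopfMod_restrComod (N : Submodule R M)
    (hN : IsSubcomod (k := k) (A := A) (N.restrictScalars k)) :
    letI := restrComod N hN
    TameAct.IsHopfMod k A R N := by
  letI := restrComod N hN
  refine ⟨fun r q => ?_⟩
  have h := LinearMap.congr_fun (isComodHom_restrComod_subtype N hN)
  simp only [LinearMap.comp_apply] at h
  apply Module.Flat.rTensor_preserves_injective_linearMap (M := A) (N.subtype.restrictScalars k)
    Subtype.coe_injective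
  rw [hmSMul_rTensor (N.subtype.restrictScalars k) (fun (r : R) (m : N) => map_smul N.subtype r m), ← h, ← h]
  exact TameAct.IsHopfMod.coact_smul r (q : M)

end HopfModule

section Point

variable {k : Type u} [Field k] [IsAlgClosed k] {R : Type v} [CommRing R] [Algebra k R]
  [Algebra.FiniteType k R]

/-- A maximal ideal of a finite type algebra over an algebraically closed field is the kernel of
a point. -/
theorem exists_point_ker_eq (m : Ideal R) [m.IsMaximal] :
    ∃ x : R →ₐ[k] k, RingHom.ker x = m := by
  letI : Field (R ⧸ m) := Ideal.Quotient.field m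
  haveI : Module.Finite k (R ⧸ m) := finite_of_finite_type_of_isJacobsonRing k (R ⧸ m)
  haveI : Algebra.IsAlgebraic k (R ⧸ m) := Algebra.IsAlgebraic.of_finite k _
  have hbij : Function.Bijective (algebraMap k (R ⧸ m)) :=
    IsAlgClosed.algebraMap_bijective_of_isIntegral (k := k) (K := R ⧸ m)
  refine ⟨(AlgEquiv.ofBijective (Algebra.ofId k (R ⧸ m)) hbij).symm.toAlgHom.comp
    (Ideal.Quotient.mkₐ k m), Ideal.ext fun r => ?_⟩
  rw [RingHom.mem_ker]
  simp [Ideal.Quotient.eq_zero_iff_mem]

end Point

section Orbit

variable {k : Type u} [Field k] {A : Type v} [CommRing A] [Bialgebra k A]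
variable {R : Type w} [CommRing R] [Algebra k R] [Comod k A R] [GLin.IsCoactAlg k A R]

theorem isHopfMod_self : TameAct.IsHopfMod k A R R := by
  refine ⟨fun r m => ?_⟩
  rw [smul_eq_mul, GLin.IsCoactAlg.coact_mul]
  generalize Comod.coact (k := k) (A := A) r = z
  generalize Comod.coact (k := k) (A := A) m = y
  induction z using TensorProduct.induction_on with
  | zero => simp
  | add p q hp hq => simp only [map_add, LinearMap.add_apply, add_mul, hp, hq]
  | tmul a b =>
    induction y using TensorProduct.induction_on with
    | zero => simp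
    | add p q hp hq => simp only [map_add, mul_add, hp, hq]
    | tmul c d => simp

theorem orbitHom_eq_coef (x : R →ₐ[k] k) (r : R) :
    GLin.orbitHom k A x r = (coef x.toLinearMap : R →ₗ[Cv k A] A) r := by
  rw [coef_apply]
  change Algebra.TensorProduct.lid k A
    (Algebra.TensorProduct.map x (AlgHom.id k A) (Comod.coact (k := k) (A := A) r)) = _
  generalize Comod.coact (k := k) (A := A) r = z
  induction z using TensorProduct.induction_on with
  | zero => simp
  | add p q hp hq => simp only [map_add, hp, hq]
  | tmul a b => simp

theorem isComodHom_orbitHom (x : R →ₐ[k] k) :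
    Hoch.IsComodHom A (GLin.orbitHom k A x).toLinearMap := by
  have h : (GLin.orbitHom k A x).toLinearMap =
      (coef x.toLinearMap : R →ₗ[Cv k A] A).restrictScalars k :=
    LinearMap.ext fun r => orbitHom_eq_coef x r
  rw [h]
  exact isComodHom_restrict _

theorem counit_orbitHom (x : R →ₐ[k] k) (r : R) :
    counit (R := k) (GLin.orbitHom k A x r) = x r := by
  rw [orbitHom_eq_coef, counit_coef]
  rfl

theorem ker_orbitHom_le (x : R →ₐ[k] k) :
    RingHom.ker (GLin.orbitHom k A x) ≤ RingHom.ker x := fun r hr => by
  rw [RingHom.mem_ker] at hr ⊢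
  rw [← counit_orbitHom (A := A), hr, map_zero]

theorem isSubcomod_ker_orbitHom (x : R →ₐ[k] k) :
    IsSubcomod (k := k) (A := A) ((RingHom.ker (GLin.orbitHom k A x)).restrictScalars k) :=
  isSubcomod_ker (isComodHom_orbitHom x)

end Orbit

section Descend

variable {k : Type u} [Field k] {A : Type u} [CommRing A] [HopfAlgebra k A]
variable {R : Type u} [CommRing R] [Algebra k R] [Comod k A R]
variable {Q : Type u} [AddCommGroup Q] [Module k Q] [Module R Q] [IsScalarTower k R Q]
variable [Comod k A Q] [TameAct.IsHopfMod k A R Q]

/-- A module killed by the kernel of a surjection onto the coordinate ring of the group is a module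
over the coordinate ring. -/
@[reducible] noncomputable def descModule (o : R →ₐ[k] A) (ho : Function.Surjective o)
    (hker : ∀ r ∈ RingHom.ker o, ∀ q : Q, r • q = 0) : Module A Q :=
  have hwd : ∀ r r' : R, o r = o r' → ∀ q : Q, r • q = r' • q := fun r r' h q => by
    rw [← sub_eq_zero, ← sub_smul]
    exact hker _ (by rw [RingHom.mem_ker, map_sub, h, sub_self]) q
  have hsec : ∀ a, o (Function.surjInv ho a) = a := Function.surjInv_eq ho
  { smul := fun a q => Function.surjInv ho a • q
    one_smul := fun q => (hwd _ 1 (by rw [hsec, map_one]) q).trans (one_smul R q)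
    mul_smul := fun a b q => (hwd _ (Function.surjInv ho a * Function.surjInv ho b)
      (by simp only [map_mul, hsec]) q).trans (mul_smul _ _ q)
    smul_zero := fun a => smul_zero _
    smul_add := fun a => smul_add _
    add_smul := fun a b q => (hwd _ (Function.surjInv ho a + Function.surjInv ho b)
      (by simp only [map_add, hsec]) q).trans (add_smul _ _ q)
    zero_smul := fun q => (hwd _ 0 (by rw [hsec, map_zero]) q).trans (zero_smul R q) }

omit [Comod k A R] [Comod k A Q] [TameAct.IsHopfMod k A R Q] in
theorem descModule_smul (o : R →ₐ[k] A) (ho : Function.Surjective o)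
    (hker : ∀ r ∈ RingHom.ker o, ∀ q : Q, r • q = 0) (r : R) (q : Q) :
    letI := descModule o ho hker
    o r • q = r • q := by
  change Function.surjInv ho (o r) • q = r • q
  rw [← sub_eq_zero, ← sub_smul]
  exact hker _ (by rw [RingHom.mem_ker, map_sub, Function.surjInv_eq ho, sub_self]) q

omit [Comod k A R] [Comod k A Q] [TameAct.IsHopfMod k A R Q] in
theorem isScalarTower_descModule (o : R →ₐ[k] A) (ho : Function.Surjective o)
    (hker : ∀ r ∈ RingHom.ker o, ∀ q : Q, r • q = 0) :
    letI := descModule o ho hker
    IsScalarTower k A Q := by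
  letI := descModule o ho hker
  refine ⟨fun c a q => ?_⟩
  obtain ⟨r, rfl⟩ := ho a
  rw [← map_smul, descModule_smul o ho hker, descModule_smul o ho hker, smul_assoc]

theorem isHopfMod_descModule (o : R →ₐ[k] A) (ho : Function.Surjective o)
    (hoc : Hoch.IsComodHom A o.toLinearMap) (hker : ∀ r ∈ RingHom.ker o, ∀ q : Q, r • q = 0) :
    letI := descModule o ho hker
    letI := isScalarTower_descModule o ho hker
    TameAct.IsHopfMod k A A Q := by
  letI := descModule o ho hker
  letI := isScalarTower_descModule o ho hker
  refine ⟨fun a q => ?_⟩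
  obtain ⟨r, rfl⟩ := ho a
  rw [descModule_smul o ho hker, TameAct.IsHopfMod.coact_smul, show Comod.coact (k := k) (A := A) (o r) =
    o.toLinearMap.rTensor A (Comod.coact (k := k) (A := A) r) from (LinearMap.congr_fun hoc r).symm ▸ rfl]
  generalize Comod.coact (k := k) (A := A) q = y
  generalize Comod.coact (k := k) (A := A) r = z
  induction z using TensorProduct.induction_on with
  | zero => simp
  | add p q hp hq => simp only [map_add, LinearMap.add_apply, hp, hq]
  | tmul p q =>
    induction y using TensorProduct.induction_on with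
    | zero => simp
    | add p q hp hq => simp only [map_add, hp, hq]
    | tmul s t => simp [descModule_smul o ho hker]

/-- An equivariant module over a ring mapping equivariantly onto the coordinate ring of the group is
generated by fixed vectors if the kernel acts by zero. -/
theorem span_fixedPts_eq_top_of_ker_smul (o : R →ₐ[k] A) (ho : Function.Surjective o)
    (hoc : Hoch.IsComodHom A o.toLinearMap) (hker : ∀ r ∈ RingHom.ker o, ∀ q : Q, r • q = 0) :
    Submodule.span R (fixedPts k A Q : Set Q) = ⊤ := by
  letI := descModule o ho hker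
  haveI := isScalarTower_descModule o ho hker
  haveI := isHopfMod_descModule o ho hoc hker
  have hsmul : ∀ (r : R) (q : Q), o r • q = r • q := descModule_smul o ho hker
  refine top_unique fun q _ => ?_
  rw [← S13255.sum_smul_E₀ (k := k) (A := A) q]
  generalize Comod.coact (k := k) (A := A) q = z
  induction z using TensorProduct.induction_on with
  | zero => simp
  | add a b ha hb => simp only [map_add]; exact Submodule.add_mem _ ha hb
  | tmul x a =>
    simp only [LinearMap.rTensor_tmul, TensorProduct.lift.tmul, LinearMap.flip_apply,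
      AlgHom.toLinearMap_apply, Algebra.lsmul_coe]
    obtain ⟨r, rfl⟩ := ho a
    rw [hsmul]
    exact Submodule.smul_mem _ r (Submodule.subset_span (S13255.E₀_mem x))

end Descend

section Main

variable {k : Type u} [Field k] {A : Type u} [CommRing A] [HopfAlgebra k A]
variable {R : Type u} [CommRing R] [Algebra k R] [Comod k A R] [GLin.IsCoactAlg k A R]
variable {Q : Type u} [AddCommGroup Q] [Module k Q] [Module R Q] [IsScalarTower k R Q]
variable [Comod k A Q] [TameAct.IsHopfMod k A R Q]

/-- Along a free orbit an equivariant module is generated by fixed vectors. -/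
theorem span_fixedPts_sup_smul_eq_top (hG : IsLinearlyReductive k A) (x : R →ₐ[k] k)
    (hx : Function.Surjective (GLin.orbitHom k A x)) :
    Submodule.span R (fixedPts k A Q : Set Q) ⊔ RingHom.ker (GLin.orbitHom k A x) • ⊤ = ⊤ := by
  set I := RingHom.ker (GLin.orbitHom k A x) with hI
  let W : Submodule R Q := I • ⊤
  have hW : IsSubcomod (k := k) (A := A) (W.restrictScalars k) :=
    isSubcomod_smul_top I (isSubcomod_ker_orbitHom x)
  letI := quotComod W hW
  haveI := isHopfMod_quotComod W hW
  haveI : IsSemisimpleModule (Cv k A) Q := isSemisimpleModule_of_finite hG Q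
  have hgen := span_fixedPts_eq_top_of_ker_smul (Q := Q ⧸ W) (GLin.orbitHom k A x) hx
    (isComodHom_orbitHom x) fun r hr q => by
      obtain ⟨m, rfl⟩ := W.mkQ_surjective q
      rw [← map_smul, Submodule.mkQ_apply, Submodule.Quotient.mk_eq_zero]
      exact Submodule.smul_mem_smul hr Submodule.mem_top
  refine top_unique fun q _ => ?_
  have hle : Submodule.span R (fixedPts k A (Q ⧸ W) : Set (Q ⧸ W)) ≤
      (Submodule.span R (fixedPts k A Q : Set Q)).map W.mkQ := by
    refine Submodule.span_le.2 fun w hw => ?_
    obtain ⟨v, hv, hvw⟩ := exists_fixed_lift (toLin _ (isComodHom_quotComod_mkQ W hW))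
      W.mkQ_surjective hw
    exact ⟨v, Submodule.subset_span hv, hvw⟩
  obtain ⟨v, hv, hvq⟩ := hle (show W.mkQ q ∈ _ from hgen ▸ Submodule.mem_top)
  rw [Submodule.mkQ_apply, Submodule.mkQ_apply, Submodule.Quotient.eq] at hvq
  have : q = v + -(v - q) := by abel
  rw [this]
  exact Submodule.add_mem_sup hv (W.neg_mem hvq)

/-- Near a free orbit an equivariant finite module is generated by fixed vectors. -/
theorem exists_smul_mem_span_fixedPts (hG : IsLinearlyReductive k A) [Module.Finite R Q]
    (x : R →ₐ[k] k) (hx : Function.Surjective (GLin.orbitHom k A x)) :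
    ∃ r : R, r - 1 ∈ RingHom.ker (GLin.orbitHom k A x) ∧
      ∀ q : Q, r • q ∈ Submodule.span R (fixedPts k A Q : Set Q) := by
  obtain ⟨r, hr, hrq⟩ := Submodule.exists_sub_one_mem_and_smul_le_of_fg_of_le_sup
    (I := RingHom.ker (GLin.orbitHom k A x)) (N := Submodule.span R (fixedPts k A Q : Set Q))
    (N' := ⊤) (P := ⊤) (Module.Finite.fg_top (R := R) (M := Q)) le_rfl
    (span_fixedPts_sup_smul_eq_top hG x hx).ge
  exact ⟨r, hr, fun q => hrq (Submodule.smul_mem_pointwise_smul q r ⊤ Submodule.mem_top)⟩

/-- If all orbits are free, an equivariant finite module is generated by fixed vectors. -/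
theorem span_fixedPts_eq_top [IsAlgClosed k] [Algebra.FiniteType k R] [Module.Finite R Q]
    (hG : IsLinearlyReductive k A)
    (hfree : ∀ x : R →ₐ[k] k, Function.Surjective (GLin.orbitHom k A x)) :
    Submodule.span R (fixedPts k A Q : Set Q) = ⊤ := by
  set N := Submodule.span R (fixedPts k A Q : Set Q)
  let J : Ideal R :=
    { carrier := {r | ∀ q : Q, r • q ∈ N}
      add_mem' := fun ha hb q => by rw [add_smul]; exact N.add_mem (ha q) (hb q)
      zero_mem' := fun q => by rw [zero_smul]; exact N.zero_mem
      smul_mem' := fun c r hr q => by rw [smul_eq_mul, mul_smul]; exact N.smul_mem c (hr q) }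
  by_contra hN
  have hJ : J ≠ ⊤ := fun h => hN (top_unique fun q _ => by
    have h1 : (1 : R) ∈ J := h ▸ Submodule.mem_top
    simpa using h1 q)
  obtain ⟨m, hm, hJm⟩ := Ideal.exists_le_maximal J hJ
  obtain ⟨x, rfl⟩ := exists_point_ker_eq (k := k) m
  obtain ⟨r, hr, hrq⟩ := exists_smul_mem_span_fixedPts (Q := Q) hG x (hfree x)
  have h1 := ker_orbitHom_le x hr
  have h2 := hJm (show r ∈ J from hrq)
  rw [RingHom.mem_ker] at h1 h2
  rw [map_sub, map_one, h2] at h1
  simp at h1

end Main

section Relations

variable {k : Type u} [Field k] {A : Type u} [CommRing A] [HopfAlgebra k A]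
variable {R : Type u} [CommRing R] [Algebra k R] [Comod k A R] [GLin.IsCoactAlg k A R]
variable {M : Type u} [AddCommGroup M] [Module k M] [Module R M] [IsScalarTower k R M]
variable [Comod k A M] [TameAct.IsHopfMod k A R M]

/-- If all orbits are free, every relation between fixed vectors comes from relations with fixed
coefficients. -/
theorem exists_fixed_relations [IsAlgClosed k] [Algebra.FiniteType k R] (hG : IsLinearlyReductive k A)
    (hfree : ∀ x : R →ₐ[k] k, Function.Surjective (GLin.orbitHom k A x))
    {n : ℕ} (u : Fin n → M) (hu : ∀ i, u i ∈ fixedPts k A M) (c : Fin n → R)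
    (hc : ∑ i, c i • u i = 0) :
    ∃ (p : ℕ) (a : Fin p → R) (ρ : Fin p → Fin n → GLin.invariants k A R),
      (∀ j, ∑ i, (ρ j i : R) • u i = 0) ∧ ∀ i, c i = ∑ j, a j * (ρ j i : R) := by
  classical
  haveI : IsNoetherianRing R := Algebra.FiniteType.isNoetherianRing k R
  letI : Comod k A (Fin n → R) := ComodTens.Comod.pi fun _ => inferInstance
  have hsingle : ∀ (i : Fin n) (s : R), Comod.coact (k := k) (A := A) (Pi.single i s : Fin n → R) =
      (LinearMap.single k (fun _ => R) i).rTensor A (Comod.coact (k := k) (A := A) s) :=
    fun i s => ComodTens.pi_coact_single (fun _ => (inferInstance : Comod k A R)) i s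
  haveI : TameAct.IsHopfMod k A R (Fin n → R) := by
    refine ⟨fun r f => ?_⟩
    rw [← Finset.univ_sum_single f]
    simp only [Finset.smul_sum, map_sum]
    refine Finset.sum_congr rfl fun i _ => ?_
    rw [← Pi.single_smul, hsingle, hsingle, (isHopfMod_self (k := k) (A := A) (R := R)).coact_smul,
      hmSMul_rTensor]
    exact fun r (m : R) => Pi.single_smul (f := fun _ : Fin n => R) i r m
  let π : (Fin n → R) →ₗ[R] M := Fintype.linearCombination R u
  have hπ : Hoch.IsComodHom A (π.restrictScalars k) := by
    refine LinearMap.pi_ext fun i s => ?_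
    rw [LinearMap.comp_apply, LinearMap.comp_apply, hsingle, ← LinearMap.rTensor_comp_apply,
      LinearMap.restrictScalars_apply]
    symm
    rw [show π (Pi.single i s) = s • u i from Fintype.linearCombination_apply_single R u i s,
      TameAct.IsHopfMod.coact_smul,
      show Comod.coact (k := k) (A := A) (u i) = u i ⊗ₜ[k] (1 : A) from hu i]
    generalize Comod.coact (k := k) (A := A) s = z
    induction z using TensorProduct.induction_on with
    | zero => simp
    | add p q hp hq => simp only [map_add, LinearMap.add_apply, hp, hq]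
    | tmul a b => simp [π, Fintype.linearCombination_apply_single]
  let K : Submodule R (Fin n → R) := LinearMap.ker π
  have hK : IsSubcomod (k := k) (A := A) (K.restrictScalars k) := isSubcomod_ker hπ
  letI := restrComod K hK
  haveI := isHopfMod_restrComod K hK
  have hgen := span_fixedPts_eq_top (Q := K) hG hfree
  have hcK : c ∈ K := by
    rw [LinearMap.mem_ker, Fintype.linearCombination_apply]
    exact hc
  obtain ⟨p, a, g, hg⟩ := Submodule.mem_span_set'.1
    (show (⟨c, hcK⟩ : K) ∈ Submodule.span R (fixedPts k A K : Set K) from hgen ▸ Submodule.mem_top)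
  have hproj : ∀ i, Hoch.IsComodHom A (LinearMap.proj i : (Fin n → R) →ₗ[k] R) := by
    intro i
    refine LinearMap.pi_ext fun l s => ?_
    rw [LinearMap.comp_apply, LinearMap.comp_apply, hsingle, ← LinearMap.rTensor_comp_apply,
      LinearMap.proj_apply]
    rcases eq_or_ne l i with rfl | hne
    · rw [Pi.single_eq_same, LinearMap.proj_comp_single_same, LinearMap.rTensor_id, LinearMap.id_apply]
    · rw [Pi.single_eq_of_ne hne.symm, LinearMap.proj_comp_single_ne k (fun _ => R) i l hne.symm,
        LinearMap.rTensor_zero, LinearMap.zero_apply, map_zero]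
  have hfix : ∀ j i, ((g j : K) : Fin n → R) i ∈ GLin.invariants k A R := fun j i =>
    map_mem_fixedPts (toLin _ (hproj i))
      (map_mem_fixedPts (toLin _ (isComodHom_restrComod_subtype K hK)) (g j).2)
  refine ⟨p, a, fun j i => ⟨_, hfix j i⟩, fun j => ?_, fun i => ?_⟩
  · have h := (g j : K).2
    rw [LinearMap.mem_ker, Fintype.linearCombination_apply] at h
    exact h
  · have h := congrArg (fun q : K => (q : Fin n → R) i) hg
    simp only [Submodule.coe_sum, Submodule.coe_smul, Finset.sum_apply, Pi.smul_apply, smul_eq_mul] at h
    exact h.symm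

end Relations

end Groth.Agent.ComodBasic
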