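import Groth.Agent.ComodBasic.TotalInt
import Groth.Prelude.Def_GLin
import Mathlib.AlgebraicGeometry.AffineScheme
import Mathlib.AlgebraicGeometry.Pullbacks
import Mathlib.AlgebraicGeometry.Cover.Open
import Mathlib.RingTheory.Spectrum.Prime.RingHom
import Mathlib.RingTheory.Flat.Stability
import Mathlib.RingTheory.Localization.Away.Basic

/-!
# Gluing morphisms to schemes along injective surjective maps of spectra
-/

set_option autoImplicit false

noncomputable section

namespace Groth.Agent.ComodBasic.SchemeQuot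

open CategoryTheory CategoryTheory.Limits AlgebraicGeometry TensorProduct

universe u

theorem exists_factor {S : Type u} [CommRing S] {Z : Scheme.{u}} (h : Spec (CommRingCat.of S) ⟶ Z)
    {V : Z.Opens} (hV : IsAffineOpen V) (hr : Set.range h ⊆ (V : Set Z)) :
    ∃ φ : Γ(Z, V) ⟶ CommRingCat.of S, Spec.map φ ≫ hV.fromSpec = h := by
  have hle : Set.range h ⊆ Set.range hV.fromSpec := by rw [hV.range_fromSpec]; exact hr
  obtain ⟨φ, hφ⟩ := Spec.map_surjective (IsOpenImmersion.lift hV.fromSpec h hle)
  exact ⟨φ, by rw [hφ, IsOpenImmersion.lift_fac]⟩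

/-- Morphisms out of a spectrum are detected along an injective ring map with surjective spectrum map. -/
theorem hom_ext {T S : Type u} [CommRing T] [CommRing S] (j : T →+* S) (hj : Function.Injective j)
    (hs : Function.Surjective (PrimeSpectrum.comap j)) {Z : Scheme.{u}}
    (χ χ' : Spec (CommRingCat.of T) ⟶ Z)
    (h : Spec.map (CommRingCat.ofHom j) ≫ χ = Spec.map (CommRingCat.ofHom j) ≫ χ') : χ = χ' := by
  have hpt : ∀ p : PrimeSpectrum T, χ p = χ' p := by
    intro p
    obtain ⟨q, rfl⟩ := hs p
    have h1 : (Spec.map (CommRingCat.ofHom j) ≫ χ) q = (Spec.map (CommRingCat.ofHom j) ≫ χ') q := by rw [h]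
    rw [Scheme.Hom.comp_apply, Scheme.Hom.comp_apply] at h1
    exact h1
  have hcov : ∀ p : PrimeSpectrum T, ∃ (d : T) (V : Z.Opens), IsAffineOpen V ∧ d ∉ p.asIdeal ∧
      ∀ q : PrimeSpectrum T, d ∉ q.asIdeal → χ q ∈ V := by
    intro p
    obtain ⟨V, hV, hx, -⟩ := exists_isAffineOpen_mem_and_subset (X := Z) (x := χ p) (U := ⊤) trivial
    obtain ⟨-, ⟨d, rfl⟩, hd1, hd2⟩ := PrimeSpectrum.isTopologicalBasis_basic_opens.exists_subset_of_mem_open
      (show p ∈ (χ ⁻¹' (V : Set Z) : Set (PrimeSpectrum T)) from hx) (V.2.preimage χ.continuous)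
    exact ⟨d, V, hV, hd1, fun q hq => hd2 hq⟩
  choose d V hV hdp hdV using hcov
  have htop : Ideal.span (Set.range d) = ⊤ := by
    by_contra hne
    obtain ⟨M, hM, hle⟩ := Ideal.exists_le_maximal _ hne
    exact hdp ⟨M, hM.isPrime⟩ (hle (Ideal.subset_span ⟨⟨M, hM.isPrime⟩, rfl⟩))
  let 𝒰 := (Scheme.affineOpenCoverOfSpanRangeEqTop (R := CommRingCat.of T) d htop).openCover
  refine Scheme.Cover.hom_ext 𝒰 _ _ fun p => ?_
  let T' := Localization.Away (d p)
  let S' := Localization.Away (j (d p))
  let g : Spec (CommRingCat.of T') ⟶ Spec (CommRingCat.of T) :=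
    Spec.map (CommRingCat.ofHom (algebraMap T T'))
  show g ≫ χ = g ≫ χ'
  have hg : ∀ q : PrimeSpectrum T', d p ∉ (PrimeSpectrum.comap (algebraMap T T') q).asIdeal := by
    intro q hq
    have h1 : IsUnit (algebraMap T T' (d p)) := IsLocalization.Away.algebraMap_isUnit _
    exact q.2.ne_top (Ideal.eq_top_of_isUnit_mem _ hq h1)
  obtain ⟨φ, hφ⟩ := exists_factor (g ≫ χ) (hV p) (by
    rintro - ⟨q, rfl⟩
    exact hdV p _ (hg q))
  obtain ⟨φ', hφ'⟩ := exists_factor (g ≫ χ') (hV p) (by
    rintro - ⟨q, rfl⟩
    show χ' (g q) ∈ V p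
    rw [← hpt]
    exact hdV p _ (hg q))
  let j' : T' →+* S' := IsLocalization.Away.map T' S' j (d p)
  have hj' : Function.Injective j' := IsLocalization.map_injective_of_injective _ T' S' hj
  have hcomm : Spec.map (CommRingCat.ofHom j') ≫ g =
      Spec.map (CommRingCat.ofHom (algebraMap S S')) ≫ Spec.map (CommRingCat.ofHom j) := by
    rw [← Spec.map_comp, ← Spec.map_comp]
    congr 1
    refine CommRingCat.hom_ext (RingHom.ext fun x => ?_)
    show j' (algebraMap T T' x) = algebraMap S S' (j x)
    exact IsLocalization.map_eq _ x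
  have h2 : Spec.map (φ ≫ CommRingCat.ofHom j') ≫ (hV p).fromSpec =
      Spec.map (φ' ≫ CommRingCat.ofHom j') ≫ (hV p).fromSpec := by
    rw [Spec.map_comp, Spec.map_comp, Category.assoc, Category.assoc, hφ, hφ', ← Category.assoc,
      ← Category.assoc, hcomm, Category.assoc, Category.assoc, h]
  rw [cancel_mono] at h2
  have h3 := Spec.map_injective h2
  have h4 : φ = φ' := by
    ext x
    exact hj' (DFunLike.congr_fun (congrArg CommRingCat.Hom.hom h3) x)
  rw [← hφ, ← hφ', h4]

theorem comap_surjective_baseChange {A₁ A₀ B₁ : Type u} [CommRing A₁] [CommRing A₀] [CommRing B₁]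
    [Algebra A₁ A₀] [Algebra A₁ B₁]
    (h : Function.Surjective (PrimeSpectrum.comap (algebraMap A₁ B₁))) :
    Function.Surjective (PrimeSpectrum.comap (algebraMap A₀ (A₀ ⊗[A₁] B₁))) := by
  intro p
  set p₁ := PrimeSpectrum.comap (algebraMap A₁ A₀) p with hp₁
  have hn := (PrimeSpectrum.nontrivial_iff_mem_rangeComap p₁).mpr (h p₁)
  rw [← Set.mem_range, ← PrimeSpectrum.nontrivial_iff_mem_rangeComap]
  let k := p₁.asIdeal.ResidueField
  let K := p.asIdeal.ResidueField
  let φ : k →+* K := Ideal.ResidueField.map p₁.asIdeal p.asIdeal (algebraMap A₁ A₀) rfl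
  letI : Algebra k K := φ.toAlgebra
  haveI : IsScalarTower A₁ k K := IsScalarTower.of_algebraMap_eq fun x => by
    show algebraMap A₁ K x = φ (algebraMap A₁ k x)
    rw [Ideal.ResidueField.map_algebraMap]
    exact IsScalarTower.algebraMap_apply A₁ A₀ K x
  have hinj : Function.Injective
      (Algebra.TensorProduct.includeRight : k ⊗[A₁] B₁ →ₐ[k] K ⊗[k] (k ⊗[A₁] B₁)) :=
    Algebra.TensorProduct.includeRight_injective φ.injective
  haveI : Nontrivial (K ⊗[k] (k ⊗[A₁] B₁)) := hinj.nontrivial
  haveI : Nontrivial (K ⊗[A₁] B₁) :=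
    (Algebra.TensorProduct.cancelBaseChange A₁ k K K B₁).symm.toEquiv.nontrivial
  exact (Algebra.TensorProduct.cancelBaseChange A₁ A₀ K K B₁).toEquiv.nontrivial

variable {C B : Type u} [CommRing C] [CommRing B] [Algebra C B]

/-- Two morphisms out of a flat `C`-algebra agree if they do after `⊗ B`. -/
theorem hom_ext_tensor (hinj : Function.Injective (algebraMap C B))
    (hsurj : Function.Surjective (PrimeSpectrum.comap (algebraMap C B)))
    (T : Type u) [CommRing T] [Algebra C T] [Module.Flat C T] {Z : Scheme.{u}}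
    (χ χ' : Spec (CommRingCat.of T) ⟶ Z)
    (h : Spec.map (CommRingCat.ofHom (algebraMap T (T ⊗[C] B))) ≫ χ =
      Spec.map (CommRingCat.ofHom (algebraMap T (T ⊗[C] B))) ≫ χ') : χ = χ' :=
  hom_ext (algebraMap T (T ⊗[C] B)) (Algebra.TensorProduct.includeLeft_injective (S := T) hinj)
    (comap_surjective_baseChange hsurj) χ χ' h

/-- Descent of a morphism along `C → B` given descents on a cover. -/
theorem existsUnique_desc (hinj : Function.Injective (algebraMap C B))
    (hsurj : Function.Surjective (PrimeSpectrum.comap (algebraMap C B))) {Z : Scheme.{u}}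
    (ψ : Spec (CommRingCat.of B) ⟶ Z) {ι : Type u} (c : ι → C) (hc : Ideal.span (Set.range c) = ⊤)
    (χ : ∀ i, Spec (CommRingCat.of (Localization.Away (c i))) ⟶ Z)
    (hχ : ∀ i, Spec.map (CommRingCat.ofHom (IsLocalization.Away.map (Localization.Away (c i))
        (Localization.Away (algebraMap C B (c i))) (algebraMap C B) (c i))) ≫ χ i =
      Spec.map (CommRingCat.ofHom (algebraMap B (Localization.Away (algebraMap C B (c i))))) ≫ ψ) :
    ∃! χ₀ : Spec (CommRingCat.of C) ⟶ Z, Spec.map (CommRingCat.ofHom (algebraMap C B)) ≫ χ₀ = ψ := by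
  let 𝒰 := (Scheme.affineOpenCoverOfSpanRangeEqTop (R := CommRingCat.of C) c hc).openCover
  have key : ∀ (i : ι) (T : Type u) [CommRing T] [Algebra C T] (s : Localization.Away (c i) →ₐ[C] T),
      Spec.map (CommRingCat.ofHom (algebraMap T (T ⊗[C] B))) ≫ Spec.map (CommRingCat.ofHom s.toRingHom) ≫ χ i =
        Spec.map (CommRingCat.ofHom
          (Algebra.TensorProduct.includeRight : B →ₐ[C] T ⊗[C] B).toRingHom) ≫ ψ := by
    intro i T _ _ s
    let r : B →+* T ⊗[C] B := (Algebra.TensorProduct.includeRight : B →ₐ[C] T ⊗[C] B).toRingHom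
    have hu : IsUnit (r (algebraMap C B (c i))) := by
      have h1 : r (algebraMap C B (c i)) =
          algebraMap T (T ⊗[C] B) (s (algebraMap C (Localization.Away (c i)) (c i))) := by
        rw [AlgHom.commutes, ← IsScalarTower.algebraMap_apply]
        exact (Algebra.TensorProduct.includeRight : B →ₐ[C] T ⊗[C] B).commutes (c i)
      rw [h1]
      exact ((IsLocalization.Away.algebraMap_isUnit (c i)).map s).map _
    let f : Localization.Away (algebraMap C B (c i)) →+* T ⊗[C] B :=
      IsLocalization.Away.lift (algebraMap C B (c i)) hu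
    have h1 : f.comp (algebraMap B _) = r := IsLocalization.Away.lift_comp _ hu
    have h2 : f.comp (IsLocalization.Away.map (Localization.Away (c i))
        (Localization.Away (algebraMap C B (c i))) (algebraMap C B) (c i)) =
          (algebraMap T (T ⊗[C] B)).comp s.toRingHom := by
      refine IsLocalization.ringHom_ext (Submonoid.powers (c i)) (RingHom.ext fun x => ?_)
      simp only [RingHom.comp_apply, IsLocalization.Away.map, IsLocalization.map_eq]
      rw [← RingHom.comp_apply f, h1]
      show _ = algebraMap T (T ⊗[C] B) (s (algebraMap C _ x))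
      rw [AlgHom.commutes, ← IsScalarTower.algebraMap_apply]
      exact (Algebra.TensorProduct.includeRight : B →ₐ[C] T ⊗[C] B).commutes x
    rw [← Category.assoc, ← Spec.map_comp, ← CommRingCat.ofHom_comp, ← h2, CommRingCat.ofHom_comp,
      Spec.map_comp, Category.assoc, hχ, ← Category.assoc, ← Spec.map_comp, ← CommRingCat.ofHom_comp, h1]
  let χ₀ : Spec (CommRingCat.of C) ⟶ Z := Scheme.Cover.glueMorphisms 𝒰 χ fun i j => by
    show pullback.fst (Spec.map (CommRingCat.ofHom (algebraMap C (Localization.Away (c i)))))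
        (Spec.map (CommRingCat.ofHom (algebraMap C (Localization.Away (c j))))) ≫ χ i =
      pullback.snd _ _ ≫ χ j
    rw [← cancel_epi (pullbackSpecIso C (Localization.Away (c i)) (Localization.Away (c j))).inv,
      pullbackSpecIso_inv_fst_assoc, pullbackSpecIso_inv_snd_assoc]
    refine hom_ext_tensor (B := B) hinj hsurj _ _ _ ?_
    have e1 := key i (Localization.Away (c i) ⊗[C] Localization.Away (c j))
      (Algebra.TensorProduct.includeLeft : Localization.Away (c i) →ₐ[C] _)
    have e2 := key j (Localization.Away (c i) ⊗[C] Localization.Away (c j))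
      (Algebra.TensorProduct.includeRight : Localization.Away (c j) →ₐ[C] _)
    exact e1.trans e2.symm
  have hι : ∀ i, Spec.map (CommRingCat.ofHom (algebraMap C (Localization.Away (c i)))) ≫ χ₀ = χ i :=
    fun i => Scheme.Cover.ι_glueMorphisms 𝒰 χ _ i
  refine ⟨χ₀, ?_, fun χ₁ (h₁ : _ = ψ) => ?_⟩
  · have hc' : Ideal.span (Set.range fun i => algebraMap C B (c i)) = ⊤ := by
      have := congrArg (Ideal.map (algebraMap C B)) hc
      rwa [Ideal.map_span, ← Set.range_comp, Ideal.map_top] at this
    refine Scheme.Cover.hom_ext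
      (Scheme.affineOpenCoverOfSpanRangeEqTop (R := CommRingCat.of B) _ hc').openCover _ _ fun i => ?_
    show Spec.map (CommRingCat.ofHom (algebraMap B (Localization.Away (algebraMap C B (c i))))) ≫ _ =
      Spec.map (CommRingCat.ofHom (algebraMap B (Localization.Away (algebraMap C B (c i))))) ≫ ψ
    rw [← hχ i, ← hι i, ← Category.assoc, ← Category.assoc, ← Spec.map_comp, ← Spec.map_comp]
    congr 2
    refine CommRingCat.hom_ext (RingHom.ext fun x => ?_)
    show algebraMap B (Localization.Away (algebraMap C B (c i))) (algebraMap C B x) =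
      IsLocalization.Away.map (Localization.Away (c i)) (Localization.Away (algebraMap C B (c i)))
        (algebraMap C B) (c i) (algebraMap C (Localization.Away (c i)) x)
    exact (IsLocalization.map_eq _ x).symm
  · refine Scheme.Cover.hom_ext 𝒰 _ _ fun i => ?_
    show Spec.map (CommRingCat.ofHom (algebraMap C (Localization.Away (c i)))) ≫ χ₁ =
      Spec.map (CommRingCat.ofHom (algebraMap C (Localization.Away (c i)))) ≫ χ₀
    rw [hι]
    haveI : Module.Flat C (Localization.Away (c i)) := IsLocalization.flat _ (Submonoid.powers (c i))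
    refine hom_ext_tensor (B := B) hinj hsurj (Localization.Away (c i)) _ _ ?_
    have e1 := key i (Localization.Away (c i)) (AlgHom.id C (Localization.Away (c i)))
    rw [show CommRingCat.ofHom (AlgHom.id C (Localization.Away (c i))).toRingHom =
      𝟙 (CommRingCat.of (Localization.Away (c i))) from rfl, Spec.map_id, Category.id_comp] at e1
    rw [e1, ← h₁, ← Category.assoc, ← Category.assoc, ← Spec.map_comp, ← Spec.map_comp]
    congr 2
    ext x
    show algebraMap (Localization.Away (c i)) (Localization.Away (c i) ⊗[C] B)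
      (algebraMap C _ x) = _
    rw [← IsScalarTower.algebraMap_apply]
    exact ((Algebra.TensorProduct.includeRight : B →ₐ[C] Localization.Away (c i) ⊗[C] B).commutes x).symm

end Groth.Agent.ComodBasic.SchemeQuot

end
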