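import Groth.Agent.ComodBasic.Schur
import Groth.Agent.ComodBasic.Coef
import Mathlib.Algebra.Polynomial.Laurent

/-!
# Homogeneous representations of the general linear group
-/

namespace Groth.Agent.ComodBasic.Schur

open Groth.Agent.ComodBasic TensorProduct WithConv CoalgebraStruct HopfRep ComodTens LaurentPolynomial

universe u

variable {k : Type u} [Field k] {n : ℕ}

local notation "𝔸" => CoordGrp.GLn n k

theorem isGroupLike_Dinv : IsGroupLikeElem k (CoordGrp.GLn.Dinv : 𝔸) :=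
  ⟨CoordGrp.GLn.counit_Dinv, CoordGrp.GLn.comul_Dinv⟩

theorem isUnit_Dinv : IsUnit (CoordGrp.GLn.Dinv : 𝔸) :=
  IsUnit.of_mul_eq_one _ CoordGrp.GLn.Dinv_mul_det

theorem coefSpace_le_succ (g : 𝔸) (d : ℕ) :
    coefSpace (CoordGrp.Mat.toGLn n k) g d ≤
      coefSpace (CoordGrp.Mat.toGLn n k) (g * CoordGrp.GLn.Dinv) (d + n) := by
  intro x hx
  have h1 : (1 : 𝔸) ∈ coefSpace (CoordGrp.Mat.toGLn n k) CoordGrp.GLn.Dinv n := by
    have := coefSpace_mul (CoordGrp.Mat.toGLn n k) 1 CoordGrp.GLn.Dinv n 0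
      (Submodule.mul_mem_mul (det_mem_coefSpace _) (coefSpace_zero (CoordGrp.Mat.toGLn n k) _))
    rwa [toGLn_det, CoordGrp.GLn.det_mul_Dinv, one_mul, add_zero] at this
  simpa using coefSpace_mul _ _ _ _ _ (Submodule.mul_mem_mul hx h1)

theorem coefSpace_le_add (c d e : ℕ) :
    coefSpace (CoordGrp.Mat.toGLn n k) ((CoordGrp.GLn.Dinv : 𝔸) ^ c) d ≤
      coefSpace (CoordGrp.Mat.toGLn n k) ((CoordGrp.GLn.Dinv : 𝔸) ^ (c + e)) (d + e * n) := by
  induction e with
  | zero => simp
  | succ e ih =>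
    refine ih.trans ((coefSpace_le_succ _ _).trans_eq ?_)
    rw [← pow_succ, add_assoc c, add_assoc d, add_mul, one_mul]

/-- Translation by the scalars. -/
noncomputable def theta : 𝔸 →ₐ[k] 𝔸 ⊗[k] k[T;T⁻¹] :=
  (Algebra.TensorProduct.map (AlgHom.id k 𝔸)
    (CoordGrp.GLn.diag n k (fun _ => 1) : 𝔸 →ₐ[k] k[T;T⁻¹])).comp (Bialgebra.comulAlgHom k 𝔸)

theorem theta_X (i j : Fin n) :
    theta (CoordGrp.GLn.X i j : 𝔸) = CoordGrp.GLn.X i j ⊗ₜ[k] (T 1 : k[T;T⁻¹]) := by
  rw [theta, AlgHom.comp_apply, Bialgebra.comulAlgHom_apply, CoordGrp.GLn.comul_X, map_sum,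
    Finset.sum_eq_single j]
  · simp
  · intro b _ hb
    simp [hb]
  · simp

theorem theta_Dinv : theta (CoordGrp.GLn.Dinv : 𝔸) = CoordGrp.GLn.Dinv ⊗ₜ[k] (T (-n) : k[T;T⁻¹]) := by
  rw [theta, AlgHom.comp_apply, Bialgebra.comulAlgHom_apply, CoordGrp.GLn.comul_Dinv]
  simp

theorem theta_mul {x y : 𝔸} {a b : ℤ} (hx : theta x = x ⊗ₜ[k] (T a : k[T;T⁻¹]))
    (hy : theta y = y ⊗ₜ[k] (T b : k[T;T⁻¹])) :
    theta (x * y) = (x * y) ⊗ₜ[k] (T (a + b) : k[T;T⁻¹]) := by
  rw [map_mul, hx, hy, Algebra.TensorProduct.tmul_mul_tmul, T_add]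

theorem theta_pow {x : 𝔸} {a : ℤ} (hx : theta x = x ⊗ₜ[k] (T a : k[T;T⁻¹])) (c : ℕ) :
    theta (x ^ c) = (x ^ c) ⊗ₜ[k] (T (c * a) : k[T;T⁻¹]) := by
  rw [map_pow, hx, Algebra.TensorProduct.tmul_pow, T_pow]

theorem theta_prod {ι : Type*} (s : Finset ι) (f : ι → 𝔸) (a : ℤ)
    (hf : ∀ i ∈ s, theta (f i) = f i ⊗ₜ[k] (T a : k[T;T⁻¹])) :
    theta (∏ i ∈ s, f i) = (∏ i ∈ s, f i) ⊗ₜ[k] (T (s.card * a) : k[T;T⁻¹]) := by
  classical
  induction s using Finset.induction_on with
  | empty => simp [Algebra.TensorProduct.one_def]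
  | insert i s hi ih =>
    rw [Finset.prod_insert hi, theta_mul (hf i (Finset.mem_insert_self i s))
      (ih fun j hj => hf j (Finset.mem_insert_of_mem hj)), Finset.card_insert_of_notMem hi,
      Nat.cast_succ, add_mul, one_mul, add_comm (a : ℤ)]

theorem theta_mem_coefSpace {c d : ℕ} {x : 𝔸}
    (hx : x ∈ coefSpace (CoordGrp.Mat.toGLn n k) (CoordGrp.GLn.Dinv ^ c) d) :
    theta x = x ⊗ₜ[k] (T ((d : ℤ) - n * c) : k[T;T⁻¹]) := by
  induction hx using Submodule.span_induction with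
  | mem y hy =>
    obtain ⟨⟨j, i⟩, rfl⟩ := hy
    have h := theta_mul (theta_prod Finset.univ (fun t => CoordGrp.Mat.toGLn n k (CoordGrp.Mat.X (j t) (i t))) 1
      (fun t _ => by simp [theta_X])) (theta_pow (theta_Dinv (n := n) (k := k)) c)
    rw [Finset.card_univ, Fintype.card_fin, mul_one] at h
    simp only [mono]
    rw [h]
    congr 2
    ring
  | zero => simp
  | add a b _ _ ha hb => rw [map_add, ha, hb, add_tmul]
  | smul r a _ ha => rw [map_smul, ha, smul_tmul']

/-- An element homogeneous for the scalars lies in a single space of monomials. -/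
theorem eventually_mem_coefSpace (hn : 0 < n) (h : ℤ) {x : 𝔸}
    (hx : theta x = x ⊗ₜ[k] (T h : k[T;T⁻¹])) :
    ∃ m : ℕ, x ∈ coefSpace (CoordGrp.Mat.toGLn n k) (CoordGrp.GLn.Dinv ^ (h.natAbs + 1 + m))
      (h + n * ((h.natAbs + 1 + m : ℕ) : ℤ)).toNat := by
  let S : ℕ → Submodule k 𝔸 := fun m => coefSpace (CoordGrp.Mat.toGLn n k)
    (CoordGrp.GLn.Dinv ^ (h.natAbs + 1 + m)) (h + n * ((h.natAbs + 1 + m : ℕ) : ℤ)).toNat
  have hmono : Monotone S := by
    refine monotone_nat_of_le_succ fun m => ?_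
    refine (coefSpace_le_add _ _ 1).trans_eq ?_
    change coefSpace _ _ _ = coefSpace _ _ _
    congr 1
    have h1 : (0 : ℤ) ≤ h + n * ((h.natAbs + 1 + m : ℕ) : ℤ) := by
      have : (1 : ℤ) ≤ n := by exact_mod_cast hn
      push_cast
      nlinarith [abs_nonneg h, neg_abs_le h]
    have h2 : h + n * ((h.natAbs + 1 + (m + 1) : ℕ) : ℤ) =
        h + n * ((h.natAbs + 1 + m : ℕ) : ℤ) + n := by push_cast; ring
    rw [one_mul, h2, Int.toNat_add h1 (Int.natCast_nonneg n), Int.toNat_natCast]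
  let δ : k[T;T⁻¹] →ₗ[k] k :=
    Finsupp.lapply h ∘ₗ (AddMonoidAlgebra.coeffLinearEquiv k).toLinearMap
  let π : 𝔸 →ₗ[k] 𝔸 := slice δ ∘ₗ theta.toLinearMap
  have hδ : ∀ m : ℤ, δ (T m) = if m = h then 1 else 0 := by
    intro m
    simp [δ, T, Finsupp.single_apply, -single_eq_C_mul_T]
  have hπx : π x = x := by
    simp [π, hx, hδ]
  have hπ : ∀ y ∈ ⨆ p : ℕ × ℕ, coefSpace (CoordGrp.Mat.toGLn n k) ((CoordGrp.GLn.Dinv : 𝔸) ^ p.2) p.1,
      π y ∈ ⨆ m, S m := by
    intro y hy
    induction hy using Submodule.iSup_induction' with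
    | mem p z hz =>
      by_cases hp : (p.1 : ℤ) - n * p.2 = h
      · have hz' : π z = z := by simp [π, theta_mem_coefSpace hz, hδ, hp]
        rw [hz']
        refine Submodule.mem_iSup_of_mem p.2 ?_
        have hle := coefSpace_le_add (n := n) (k := k) p.2 p.1 (h.natAbs + 1) hz
        have e0 : h + n * ((h.natAbs + 1 + p.2 : ℕ) : ℤ) = ((p.1 + (h.natAbs + 1) * n : ℕ) : ℤ) := by
          push_cast
          linear_combination -hp
        have e1 : (h + n * ((h.natAbs + 1 + p.2 : ℕ) : ℤ)).toNat = p.1 + (h.natAbs + 1) * n := by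
          rw [e0, Int.toNat_natCast]
        change z ∈ coefSpace _ _ _
        rw [e1, add_comm (h.natAbs + 1) p.2]
        exact hle
      · have hz' : π z = 0 := by simp [π, theta_mem_coefSpace hz, hδ, hp]
        rw [hz']
        exact zero_mem _
    | zero => simp
    | add a b _ _ ha hb => rw [map_add]; exact add_mem ha hb
  have := hπ x (by rw [iSup_coefSpace _ _ adjoin_GLn]; trivial)
  rw [hπx, Submodule.mem_iSup_of_directed _ hmono.directed_le] at this
  exact this

theorem exists_coefMap_sum {B : Type*} [CommRing B] [Bialgebra k B] (η : CoordGrp.Mat n k →ₐc[k] B)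
    (g : B) (hg : IsGroupLikeElem k g) {d : ℕ} {x : B} (hx : x ∈ coefSpace η g d) :
    ∃ t : (Fin d → Fin n) → TensorPower k d (Fin n → k),
      ∑ j, coefMap η g hg d j (t j) = x := by
  classical
  letI := tp η g hg d
  induction hx using Submodule.span_induction with
  | mem y hy =>
    obtain ⟨⟨j, i⟩, rfl⟩ := hy
    refine ⟨Pi.single j (eb k n d i), ?_⟩
    rw [Finset.sum_eq_single j]
    · simp [coefMap_eb]
    · intro b _ hb
      simp [Pi.single_eq_of_ne hb]
    · simp
  | zero => exact ⟨0, by simp⟩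
  | add a b _ _ ha hb =>
    obtain ⟨s, rfl⟩ := ha
    obtain ⟨t, rfl⟩ := hb
    exact ⟨s + t, by simp [Finset.sum_add_distrib]⟩
  | smul r a _ ha =>
    obtain ⟨s, rfl⟩ := ha
    refine ⟨r • s, ?_⟩
    rw [Finset.smul_sum]
    exact Finset.sum_congr rfl fun j _ => (coefMap η g hg d j).map_smul_of_tower r (s j)

theorem act_twist_pi {B : Type*} [CommRing B] [Bialgebra k B] {X : Type*} [AddCommGroup X] [Module k X]
    (c : HopfRep.Comod k B X) (g : B) (hg : IsGroupLikeElem k g) {b : ℕ} (φ : B →ₗ[k] k) (f : Fin b → X) :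
    @act k _ B _ _ _ (Fin b → X) _ _ (Comod.twist (Comod.pi fun _ : Fin b => c) g hg) φ f =
      fun l => @act k _ B _ _ _ X _ _ (Comod.twist c g hg) φ (f l) := by
  simp only [act, LinearMap.comp_apply, twist_coact, pi_coact, map_sum, lTensor_rTensor_comm,
    slice_rTensor]
  funext l
  simp [Finset.sum_apply, Pi.single_apply]

set_option maxHeartbeats 400000 in
theorem exists_directSummand {r : ℕ} [CharZero k] (hr : 0 < r)
    {V : Type*} [AddCommGroup V] [Module k V] [Module.Finite k V] (ρ : HopfRep.Comod k (CoordGrp.GLn r k) V)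
    (h : ℤ)
    (hh : @HopfRep.eigenspace k k[T;T⁻¹] _ _ _ V _ _
      (GLin.comodAlong (CoordGrp.GLn.diag r k (fun _ => 1)) ρ) (T h) = ⊤) :
    ∃ (a b c : ℕ), 0 < c ∧
      ∃ (i : V →ₗ[k] (Fin b → TensorPower k a (Fin r → k)))
        (p : (Fin b → TensorPower k a (Fin r → k)) →ₗ[k] V),
        p ∘ₗ i = LinearMap.id ∧
        @Hoch.IsComodHom k _ (CoordGrp.GLn r k) _ _ _ V _ _ ρ (Fin b → TensorPower k a (Fin r → k)) _ _
          (ComodTens.Comod.twist
            (ComodTens.Comod.pi fun _ : Fin b =>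
              ComodTens.Comod.tpow (GLin.comodAlong (CoordGrp.Mat.toGLn r k) (ComodTens.stdVec r k)) a)
            (CoordGrp.GLn.Dinv ^ c) (IsGroupLikeElem.pow isGroupLike_Dinv)) i ∧
        @Hoch.IsComodHom k _ (CoordGrp.GLn r k) _ _ _ (Fin b → TensorPower k a (Fin r → k)) _ _
          (ComodTens.Comod.twist
            (ComodTens.Comod.pi fun _ : Fin b =>
              ComodTens.Comod.tpow (GLin.comodAlong (CoordGrp.Mat.toGLn r k) (ComodTens.stdVec r k)) a)
            (CoordGrp.GLn.Dinv ^ c) (IsGroupLikeElem.pow isGroupLike_Dinv)) V _ _ ρ p := by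
  classical
  let B := Module.Free.chooseBasis k V
  let η := CoordGrp.Mat.toGLn r k
  let cρ := ρ
  -- the coefficients are homogeneous for the scalars
  have hd : ∀ l q, (CoordGrp.GLn.diag r k (fun _ => 1))
      (coefMatrix (k := k) (A := CoordGrp.GLn r k) B l q) = if l = q then T h else 0 := by
    intro l q
    have h1 : B q ∈ @HopfRep.eigenspace k k[T;T⁻¹] _ _ _ V _ _
        (GLin.comodAlong (CoordGrp.GLn.diag r k (fun _ => 1)) ρ) (T h) := by rw [hh]; trivial
    have h2 : (GLin.comodAlong (CoordGrp.GLn.diag r k (fun _ => 1)) ρ).coact (B q) =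
        B q ⊗ₜ[k] (T h : k[T;T⁻¹]) := h1
    rw [GLin.comodAlong_coact, coact_eq_sum B q, map_sum] at h2
    have h3 := congrArg (lslice (B.coord l)) h2
    simp only [map_sum, TensorProduct.map_tmul, LinearMap.id_apply, lslice_tmul,
      Module.Basis.coord_apply, Module.Basis.repr_self, Finsupp.single_apply, ite_smul, one_smul,
      zero_smul, Finset.sum_ite_eq', Finset.mem_univ, if_true] at h3
    rw [show ((CoordGrp.GLn.diag r k (fun _ => 1)) (coefMatrix (k := k) (A := CoordGrp.GLn r k) B l q)) =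
      ((CoordGrp.GLn.diag r k (fun _ => 1) : CoordGrp.GLn r k →ₗ[k] k[T;T⁻¹]))
        (coefMatrix (k := k) (A := CoordGrp.GLn r k) B l q) from rfl, h3]
    exact if_congr eq_comm rfl rfl
  have hθ : ∀ l q, theta (coefMatrix (k := k) (A := CoordGrp.GLn r k) B l q) =
      coefMatrix (k := k) (A := CoordGrp.GLn r k) B l q ⊗ₜ[k] (T h : k[T;T⁻¹]) := by
    intro l q
    rw [theta, AlgHom.comp_apply, Bialgebra.comulAlgHom_apply, comul_coefMatrix, map_sum,
      Finset.sum_eq_single q]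
    · simp [hd]
    · intro b _ hb
      simp [hd, hb]
    · simp
  choose m hm using fun lq : _ × _ => eventually_mem_coefSpace hr h (hθ lq.1 lq.2)
  let M := Finset.univ.sup m
  let c := h.natAbs + 1 + M
  let a := (h + r * (c : ℤ)).toNat
  let g : CoordGrp.GLn r k := CoordGrp.GLn.Dinv ^ c
  have hg : IsGroupLikeElem k g := IsGroupLikeElem.pow isGroupLike_Dinv
  have hC : ∀ l q, coefMatrix (k := k) (A := CoordGrp.GLn r k) B l q ∈ coefSpace η g a := by
    intro l q
    have hle : m (l, q) ≤ M := Finset.le_sup (Finset.mem_univ _)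
    have h0 := hm (l, q)
    have h1 := coefSpace_le_add _ _ (M - m (l, q)) h0
    have e1 : h.natAbs + 1 + m (l, q) + (M - m (l, q)) = c := by omega
    have e2 : (h + r * ((h.natAbs + 1 + m (l, q) : ℕ) : ℤ)).toNat + (M - m (l, q)) * r = a := by
      have h1r : (1 : ℤ) ≤ r := by exact_mod_cast hr
      have hpos : (0 : ℤ) ≤ h + r * ((h.natAbs + 1 + m (l, q) : ℕ) : ℤ) := by
        push_cast
        nlinarith [abs_nonneg h, neg_abs_le h]
      have : h + r * (c : ℤ) = h + r * ((h.natAbs + 1 + m (l, q) : ℕ) : ℤ) +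
          (((M - m (l, q)) * r : ℕ) : ℤ) := by
        rw [← e1]; push_cast; ring
      simp only [a, this, Int.toNat_add hpos (Int.natCast_nonneg _), Int.toNat_natCast]
    rw [e1, e2] at h1
    exact h1
  let cT := tp η g hg a
  have := isSemisimpleModule_tp η injOnHomog_toGLn g hg (isUnit_Dinv.pow c) a
  let ι := Module.Free.ChooseBasisIndex k V × (Fin a → Fin r)
  let e := Fintype.equivFin ι
  let b := Fintype.card ι
  let F := Fin b → TensorPower k a (Fin r → k)
  let j : V →ₗ[Cv k (CoordGrp.GLn r k)] (Module.Free.ChooseBasisIndex k V → CoordGrp.GLn r k) :=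
    LinearMap.pi fun l => coef (B.coord l)
  let π : F →ₗ[Cv k (CoordGrp.GLn r k)] (Module.Free.ChooseBasisIndex k V → CoordGrp.GLn r k) :=
    LinearMap.pi fun l => ∑ i, (coefMap η g hg a i).comp (LinearMap.proj (e (l, i)))
  have hj : Function.Injective j := by
    intro v w hvw
    refine B.ext_elem fun l => ?_
    have := congrArg (CoalgebraStruct.counit (R := k)) (congrFun hvw l)
    simpa [j, counit_coef] using this
  have hrange : LinearMap.range j ≤ LinearMap.range π := by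
    rintro _ ⟨v, rfl⟩
    have hv : ∀ l, (coef (C := CoordGrp.GLn r k) (B.coord l)) v ∈ coefSpace η g a := by
      intro l
      rw [← B.sum_repr v, map_sum]
      refine Submodule.sum_mem _ fun q _ => ?_
      rw [LinearMap.map_smul_of_tower]
      exact Submodule.smul_mem _ _ (hC l q)
    choose t ht using fun l => exists_coefMap_sum η g hg (hv l)
    refine ⟨fun z => t (e.symm z).1 (e.symm z).2, funext fun l => ?_⟩
    simp only [π, LinearMap.pi_apply, LinearMap.sum_apply, LinearMap.comp_apply]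
    refine (Finset.sum_congr rfl fun i _ => congrArg (coefMap η g hg a i) ?_).trans (ht l)
    change t (e.symm (e (l, i))).1 (e.symm (e (l, i))).2 = t l i
    rw [Equiv.symm_apply_apply]
  obtain ⟨i, p, hpi⟩ := exists_retract_of_quotient π j hj hrange
  refine ⟨a, b, c, by omega, i.restrictScalars k, p.restrictScalars k, LinearMap.ext fun v => ?_, ?_, ?_⟩
  · exact LinearMap.congr_fun hpi v
  · refine (@isComodHom_iff k _ (CoordGrp.GLn r k) _ _ _ V _ _ ρ (Fin b → TensorPower k a (Fin r → k)) _ _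
      (_) _).2 fun φ v => ?_
    exact (i.map_smul φ v).trans (act_twist_pi _ g hg φ.ofConv (i v)).symm
  · refine (@isComodHom_iff k _ (CoordGrp.GLn r k) _ _ _ (Fin b → TensorPower k a (Fin r → k)) _ _
      (_) V _ _ ρ _).2 fun φ f => ?_
    exact (congrArg p (act_twist_pi _ g hg φ.ofConv f)).trans (p.map_smul φ f)

end Groth.Agent.ComodBasic.Schur
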