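import Groth.Agent.ComodBasic.Orbit
import Mathlib.RingTheory.HopfAlgebra.Basic
import Mathlib.RingTheory.HopfAlgebra.Convolution

/-!
# Stable ideals: projections, colon ideals and orbit closures
-/

namespace Groth.Agent.ComodBasic

open TensorProduct WithConv CoalgebraStruct HopfRep

universe u v w w'

section Proj

variable {k : Type u} [Field k] {A : Type v} [CommRing A] [Bialgebra k A]
variable {V : Type w} [AddCommGroup V] [Module k V] [Comod k A V]

/-- A projection onto the fixed vectors preserves every subcomodule. -/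
theorem proj_fixed_mem [IsSemisimpleModule (Cv k A) V]
    (E : V →ₗ[Cv k A] V) (hE : ∀ v, E v ∈ fixedPts k A V)
    (hE' : ∀ v ∈ fixedPts k A V, E v = v) (N : Submodule (Cv k A) V) {v : V} (hv : v ∈ N) :
    E v ∈ N := by
  have hzero : ∀ L : Submodule (Cv k A) V, (∀ l ∈ L, l ∈ fixedPts k A V → l = 0) →
      ∀ l ∈ L, E l = 0 := by
    intro L hL l hl
    obtain ⟨D, hD⟩ := exists_isCompl (L ⊓ LinearMap.ker E)
    obtain ⟨a, ha, d, hd, rfl⟩ := Submodule.mem_sup.1 (hD.sup_eq_top ▸ Submodule.mem_top (x := l))
    have hdL : d ∈ L := by simpa using L.sub_mem hl (Submodule.mem_inf.1 ha).1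
    have hdf : d ∈ fixedPts k A V := by
      refine mem_fixedPts_iff.2 fun φ => sub_eq_zero.1 ?_
      refine Submodule.disjoint_def.1 hD.disjoint _ (Submodule.mem_inf.2 ⟨?_, ?_⟩) ?_
      · exact L.sub_mem (L.smul_mem φ hdL) ((L.restrictScalars k).smul_mem _ hdL)
      · rw [LinearMap.mem_ker, map_sub, map_smul, LinearMap.map_smul_of_tower,
          mem_fixedPts_iff.1 (hE d) φ, sub_self]
      · exact D.sub_mem (D.smul_mem φ hd) ((D.restrictScalars k).smul_mem _ hd)
    rw [map_add, LinearMap.mem_ker.1 (Submodule.mem_inf.1 ha).2, hL d hdL hdf, map_zero, add_zero]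
  obtain ⟨C, hC⟩ := exists_isCompl (N ⊓ fixedSub k A V)
  obtain ⟨a, ha, c, hc, rfl⟩ := Submodule.mem_sup.1 (hC.sup_eq_top ▸ Submodule.mem_top (x := v))
  have hcN : c ∈ N := by simpa using N.sub_mem hv (Submodule.mem_inf.1 ha).1
  rw [map_add, hE' a (Submodule.mem_inf.1 ha).2, hzero (N ⊓ C) (fun l hl hlf => ?_) c ⟨hcN, hc⟩, add_zero]
  · exact (Submodule.mem_inf.1 ha).1
  · exact Submodule.disjoint_def.1 hC.disjoint l ⟨(Submodule.mem_inf.1 hl).1, hlf⟩ (Submodule.mem_inf.1 hl).2

end Proj

section Colon

variable {k : Type u} [Field k] {A : Type v} [CommRing A] [HopfAlgebra k A]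
variable {R : Type w} [CommRing R] [Algebra k R] [Comod k A R] [GLin.IsCoactAlg k A R]

theorem coact_mul_tmul_antipode (y : R) :
    TensorProduct.lift (LinearMap.mk₂ k (fun (r : R) (a : A) =>
      Comod.coact (k := k) (A := A) r * (1 : R) ⊗ₜ[k] HopfAlgebra.antipode k a)
      (fun r r' a => by rw [map_add, add_mul]) (fun c r a => by rw [map_smul, smul_mul_assoc])
      (fun r a a' => by rw [map_add, tmul_add, mul_add])
      (fun c r a => by rw [map_smul, tmul_smul, mul_smul_comm]))
      (Comod.coact (k := k) (A := A) y) = y ⊗ₜ[k] (1 : A) := by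
  have h0 := LinearMap.congr_fun (Comod.coassoc (k := k) (A := A) (V := R)) y
  have hc := LinearMap.congr_fun (Comod.counit_comp (k := k) (A := A) (V := R)) y
  simp only [LinearMap.comp_apply, LinearEquiv.coe_coe, LinearMap.flip_apply, TensorProduct.mk_apply] at h0 hc
  let T : R ⊗[k] (A ⊗[k] A) →ₗ[k] R ⊗[k] A :=
    (LinearMap.mul' k A ∘ₗ (HopfAlgebra.antipode k).lTensor A).lTensor R
  have h1 : ∀ z : R ⊗[k] A, TensorProduct.lift (LinearMap.mk₂ k (fun (r : R) (a : A) =>
      Comod.coact (k := k) (A := A) r * (1 : R) ⊗ₜ[k] HopfAlgebra.antipode k a)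
      (fun r r' a => by rw [map_add, add_mul]) (fun c r a => by rw [map_smul, smul_mul_assoc])
      (fun r a a' => by rw [map_add, tmul_add, mul_add])
      (fun c r a => by rw [map_smul, tmul_smul, mul_smul_comm])) z =
      T (TensorProduct.assoc k R A A ((Comod.coact (k := k) (A := A) (V := R)).rTensor A z)) := by
    intro z
    induction z using TensorProduct.induction_on with
    | zero => simp
    | add p q hp hq => simp only [map_add, hp, hq]
    | tmul r a =>
      rw [TensorProduct.lift.tmul, LinearMap.mk₂_apply, LinearMap.rTensor_tmul]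
      generalize Comod.coact (k := k) (A := A) r = w
      induction w using TensorProduct.induction_on with
      | zero => simp
      | add p q hp hq => simp only [add_mul, add_tmul, map_add, hp, hq]
      | tmul p q => simp [T]
  rw [h1, h0]
  generalize Comod.coact (k := k) (A := A) y = z at hc ⊢
  have h2 : T ((comul (R := k) (A := A)).lTensor R z) =
      ((TensorProduct.rid k R) ((counit (R := k) (A := A)).lTensor R z)) ⊗ₜ[k] (1 : A) := by
    clear hc h0
    induction z using TensorProduct.induction_on with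
    | zero => simp
    | add p q hp hq => simp only [map_add, add_tmul, hp, hq]
    | tmul r a =>
      simp [T, HopfAlgebra.mul_antipode_lTensor_comul_apply, Algebra.algebraMap_eq_smul_one, smul_tmul']
  rw [h2, hc]
  simp

/-- The colon ideal of two stable ideals is stable. -/
theorem isSubcomod_colon (F I : Ideal R) (hF : IsSubcomod (k := k) (A := A) (F.restrictScalars k))
    (hI : IsSubcomod (k := k) (A := A) (I.restrictScalars k)) {b : R} (hb : ∀ y ∈ I, b * y ∈ F)
    (φ : Cv k A) {y : R} (hy : y ∈ I) : (φ • b) * y ∈ F := by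
  have hFz : ∀ (ψ : A →ₗ[k] k) (w : (F.restrictScalars k) ⊗[k] A) (v : R ⊗[k] A),
      slice ψ ((F.restrictScalars k).subtype.rTensor A w * v) ∈ F := by
    intro ψ w v
    induction w using TensorProduct.induction_on with
    | zero => simp
    | add p q hp hq => simp only [map_add, add_mul]; exact Ideal.add_mem _ hp hq
    | tmul i a =>
      induction v using TensorProduct.induction_on with
      | zero => simp
      | add p q hp hq => simp only [mul_add, map_add]; exact Ideal.add_mem _ hp hq
      | tmul r c =>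
        rw [LinearMap.rTensor_tmul, Algebra.TensorProduct.tmul_mul_tmul, slice_tmul]
        exact Submodule.smul_of_tower_mem F (ψ (a * c)) (F.mul_mem_right r i.2)
  have key : slice φ.ofConv (Comod.coact (k := k) (A := A) b * y ⊗ₜ[k] (1 : A)) ∈ F := by
    rw [← coact_mul_tmul_antipode (k := k) (A := A) y]
    obtain ⟨z, hz⟩ := hI y hy
    rw [← hz]
    clear hz
    induction z using TensorProduct.induction_on with
    | zero => simp
    | add p q hp hq => simp only [map_add, mul_add]; exact Ideal.add_mem _ hp hq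
    | tmul i a =>
      rw [LinearMap.rTensor_tmul, TensorProduct.lift.tmul, LinearMap.mk₂_apply, ← mul_assoc,
        ← GLin.IsCoactAlg.coact_mul]
      obtain ⟨w, hw⟩ := hF (b * (i : R)) (hb _ i.2)
      rw [show ((I.restrictScalars k).subtype i : R) = (i : R) from rfl, ← hw]
      exact hFz _ _ _
  refine (congrArg (· ∈ F) ?_).mp key
  rw [smul_def, act_apply]
  generalize Comod.coact (k := k) (A := A) b = z
  induction z using TensorProduct.induction_on with
  | zero => simp
  | add p q hp hq => simp only [map_add, add_mul, hp, hq]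
  | tmul r a => simp [smul_mul_assoc]

end Colon

section Points

variable {k : Type u} [Field k] {A : Type v} [CommRing A] [HopfAlgebra k A]
variable {R : Type w} [CommRing R] [Algebra k R] [Comod k A R] [GLin.IsCoactAlg k A R]

/-- Moving a point twice is moving it by the convolution product. -/
theorem actPt_actPt (g h : A →ₐ[k] k) (x : R →ₐ[k] k) :
    GLin.actPt k h (GLin.actPt k g x) = GLin.actPt k (toConv g * toConv h).ofConv x := by
  refine AlgHom.ext fun f => ?_
  have hco := LinearMap.congr_fun (isComodHom_orbitHom (A := A) x) f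
  simp only [LinearMap.comp_apply] at hco
  change h (GLin.orbitHom k A (g.comp (GLin.orbitHom k A x)) f) =
    Algebra.TensorProduct.lmul' k (Algebra.TensorProduct.map g h (comul (R := k) (GLin.orbitHom k A x f)))
  rw [show comul (R := k) (GLin.orbitHom k A x f) =
      (GLin.orbitHom k A x).toLinearMap.rTensor A (Comod.coact (k := k) (A := A) f) from hco]
  rw [orbitHom_eq_coef, coef_apply]
  generalize Comod.coact (k := k) (A := A) f = z
  induction z using TensorProduct.induction_on with
  | zero => simp
  | add p q hp hq => simp only [map_add, hp, hq]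
  | tmul r a => simp [mul_comm]

theorem actPt_one (x : R →ₐ[k] k) : GLin.actPt k (Bialgebra.counitAlgHom k A) x = x :=
  AlgHom.ext fun f => counit_orbitHom x f

/-- A point in a closed orbit closure lies on the orbit. -/
theorem exists_actPt_eq_of_inOrbitClosure [IsAlgClosed k] [Algebra.FiniteType k A]
    {x z : R →ₐ[k] k} (hcl : GLin.IsClosedOrbit k A x) (hz : GLin.InOrbitClosure k A x z) :
    ∃ g : A →ₐ[k] k, z = GLin.actPt k g x := by
  set o := GLin.orbitHom k A x with ho
  let pz : PrimeSpectrum R := ⟨RingHom.ker z, RingHom.ker_isPrime z⟩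
  have hmem : pz ∈ closure (Set.range (PrimeSpectrum.comap o.toRingHom)) := by
    rw [PrimeSpectrum.closure_range_comap]
    exact (PrimeSpectrum.mem_zeroLocus _ _).2 hz
  rw [hcl.closure_eq] at hmem
  obtain ⟨P, hP⟩ := hmem
  obtain ⟨M, hM, hPM⟩ := Ideal.exists_le_maximal P.asIdeal P.isPrime.ne_top
  obtain ⟨g, rfl⟩ := exists_point_ker_eq (k := k) M
  refine ⟨g, AlgHom.ext fun f => ?_⟩
  have hPz : P.asIdeal.comap o.toRingHom = RingHom.ker z :=
    congrArg PrimeSpectrum.asIdeal hP
  have hf : f - algebraMap k R (z f) ∈ RingHom.ker z := by simp [RingHom.mem_ker]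
  rw [← hPz, Ideal.mem_comap] at hf
  have hg := hPM hf
  rw [RingHom.mem_ker] at hg
  simp only [AlgHom.toRingHom_eq_coe, RingHom.coe_coe, map_sub, AlgHom.commutes] at hg
  rw [sub_eq_zero] at hg
  exact hg.symm

end Points

end Groth.Agent.ComodBasic

namespace Groth.Agent.ComodBasic

open TensorProduct WithConv CoalgebraStruct HopfRep

universe u

section Separate

variable {k : Type u} [Field k] {A : Type u} [CommRing A] [HopfAlgebra k A]
variable {R : Type u} [CommRing R] [Algebra k R] [Comod k A R] [GLin.IsCoactAlg k A R]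

/-- Two stable ideals generating the unit ideal are separated by an invariant. -/
theorem exists_fixed_separating (hG : IsLinearlyReductive k A) (I J : Ideal R)
    (hI : IsSubcomod (k := k) (A := A) (I.restrictScalars k))
    (hJ : IsSubcomod (k := k) (A := A) (J.restrictScalars k)) (h : I ⊔ J = ⊤) :
    ∃ f ∈ fixedPts k A R, f ∈ I ∧ 1 - f ∈ J := by
  haveI : IsSemisimpleModule (Cv k A) R := isSemisimpleModule_of_finite hG R
  obtain ⟨E, hE, hE'⟩ := exists_reynolds (k := k) (A := A) R
  have h1 : (1 : R) ∈ I ⊔ J := h ▸ Submodule.mem_top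
  obtain ⟨a, ha, b, hb, hab⟩ := Submodule.mem_sup.1 h1
  have hone : (1 : R) ∈ fixedPts k A R := (GLin.invariants k A R).one_mem
  refine ⟨E a, hE a, proj_fixed_mem E hE hE' (toSub _ hI) (v := a) ha, ?_⟩
  have : 1 - E a = E b := by
    rw [sub_eq_iff_eq_add, ← map_add, add_comm, hab, hE' 1 hone]
  rw [this]
  exact proj_fixed_mem E hE hE' (toSub _ hJ) (v := b) hb

/-- Every point of the quotient lifts. -/
theorem exists_point_over [IsAlgClosed k] [Algebra.FiniteType k R] (hG : IsLinearlyReductive k A)
    (y : GLin.invariants k A R →ₐ[k] k) :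
    ∃ x : R →ₐ[k] k, x.comp (GLin.invariants k A R).val = y := by
  classical
  haveI : TameAct.IsHopfMod k A R R := isHopfMod_self
  haveI : IsSemisimpleModule (Cv k A) R := isSemisimpleModule_of_finite hG R
  obtain ⟨E, hE, hE'⟩ := exists_reynolds (k := k) (A := A) R
  let J : Ideal R := (RingHom.ker y).map (GLin.invariants k A R).val
  have hJ : J ≠ ⊤ := by
    intro htop
    have h1 : (1 : R) ∈ J := htop ▸ Submodule.mem_top
    change (1 : R) ∈ Ideal.span _ at h1
    rw [Ideal.span, Submodule.mem_span_set'] at h1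
    obtain ⟨n, c, g, hg⟩ := h1
    choose g' hg' hg'' using fun i => (g i).2
    let e : Fin n → GLin.invariants k A R := fun i => ⟨E (c i), hE _⟩
    have h2 : (1 : GLin.invariants k A R) = ∑ i, g' i * e i := by
      refine Subtype.ext ?_
      rw [AddSubmonoidClass.coe_finsetSum, OneMemClass.coe_one,
        ← hE' 1 (GLin.invariants k A R).one_mem, ← hg, map_sum]
      refine Finset.sum_congr rfl fun i _ => ?_
      rw [← hg'' i, smul_eq_mul, mul_comm, ← smul_eq_mul, Subalgebra.coe_val,
        proj_fixed_smul E hE hE' (show (g' i : R) ∈ fixedPts k A R from (g' i).2)]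
      rfl
    have h3 := congrArg y h2
    simp only [map_one, map_sum, map_mul, RingHom.mem_ker.1 (hg' _), zero_mul,
      Finset.sum_const_zero] at h3
    exact one_ne_zero h3
  obtain ⟨m, hm, hJm⟩ := Ideal.exists_le_maximal J hJ
  obtain ⟨x, rfl⟩ := exists_point_ker_eq (k := k) m
  refine ⟨x, AlgHom.ext fun f => ?_⟩
  have h := hJm (Ideal.mem_map_of_mem (GLin.invariants k A R).val
    (show f - algebraMap k _ (y f) ∈ RingHom.ker y by simp [RingHom.mem_ker]))
  rw [RingHom.mem_ker] at h
  rw [AlgHom.comp_apply, ← sub_eq_zero]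
  simpa using h

/-- Points with the same invariant values have meeting orbit closures. -/
theorem exists_common_inOrbitClosure [IsAlgClosed k] [Algebra.FiniteType k R] (hG : IsLinearlyReductive k A)
    (x x' : R →ₐ[k] k) (h : ∀ f ∈ fixedPts k A R, x f = x' f) :
    ∃ z : R →ₐ[k] k, GLin.InOrbitClosure k A x z ∧ GLin.InOrbitClosure k A x' z := by
  have hne : RingHom.ker (GLin.orbitHom k A x) ⊔ RingHom.ker (GLin.orbitHom k A x') ≠ ⊤ := by
    intro htop
    obtain ⟨f, hf, hfI, hfJ⟩ := exists_fixed_separating hG _ _ (isSubcomod_ker_orbitHom x)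
      (isSubcomod_ker_orbitHom x') htop
    have h1 := ker_orbitHom_le x hfI
    have h2 := ker_orbitHom_le x' hfJ
    rw [RingHom.mem_ker] at h1 h2
    rw [map_sub, map_one, ← h f hf, h1, sub_zero] at h2
    exact one_ne_zero h2
  obtain ⟨m, hm, hle⟩ := Ideal.exists_le_maximal _ hne
  obtain ⟨z, rfl⟩ := exists_point_ker_eq (k := k) m
  exact ⟨z, le_sup_left.trans hle, le_sup_right.trans hle⟩

end Separate

end Groth.Agent.ComodBasic
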