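import Groth.Agent.ComodBasic.UnipotentPoints
import Mathlib.LinearAlgebra.FiniteDimensional.Lemmas

namespace Groth.Agent.ComodBasic

open TensorProduct WithConv CoalgebraStruct HopfRep

universe u v

variable {k : Type u} [Field k] {A : Type v} [CommRing A] [Bialgebra k A]
  {V : Type v} [AddCommGroup V] [Module k V] [Comod k A V] [Module.Finite k V]

theorem exists_flag_step (hU : IsUnipotent k A) {F : Submodule (Cv k A) V} (hF : F ≠ ⊤) :
    ∃ F', F ≤ F' ∧ F' ≤ fixStep F ∧
      Module.finrank k (F'.restrictScalars k) = Module.finrank k (F.restrictScalars k) + 1 := by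
  obtain ⟨v, hv, hv'⟩ := SetLike.exists_of_lt (lt_fixStep hU hF)
  refine ⟨F ⊔ Submodule.span (Cv k A) {v}, le_sup_left,
    sup_le (le_fixStep F) ((Submodule.span_singleton_le_iff_mem _ _).2 hv), ?_⟩
  have heq : (F ⊔ Submodule.span (Cv k A) {v}).restrictScalars k =
      F.restrictScalars k ⊔ Submodule.span k {v} := by
    rw [Submodule.restrictScalars_sup]
    refine le_antisymm (sup_le le_sup_left fun w hw => ?_) (sup_le le_sup_left ?_)
    · obtain ⟨φ, rfl⟩ := Submodule.mem_span_singleton.1 hw
      rw [← sub_add_cancel (φ • v) (φ.ofConv 1 • v)]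
      exact Submodule.add_mem_sup (hv φ) (Submodule.smul_mem _ _ (Submodule.mem_span_singleton_self v))
    · exact le_sup_of_le_right
        ((Submodule.span_singleton_le_iff_mem _ _).2 (Submodule.mem_span_singleton_self v))
  have hv0 : v ≠ 0 := fun h => hv' (h ▸ zero_mem F)
  have hinf : F.restrictScalars k ⊓ Submodule.span k {v} = ⊥ :=
    disjoint_iff.1 (Submodule.disjoint_span_singleton' hv0 |>.2 hv')
  have h := Submodule.finrank_sup_add_finrank_inf_eq (F.restrictScalars k) (Submodule.span k {v})
  rw [hinf, finrank_bot, add_zero, finrank_span_singleton hv0] at h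
  rw [heq, h]

theorem exists_flag (hU : IsUnipotent k A) :
    ∃ F : Fin (Module.finrank k V + 1) → Submodule k V,
      F 0 = ⊥ ∧ F (Fin.last _) = ⊤ ∧
      (∀ i, IsSubcomod (k := k) (A := A) (F i)) ∧
      ∀ i : Fin (Module.finrank k V), F i.castSucc ≤ F i.succ ∧
        Module.finrank k ↥(F i.succ) = Module.finrank k ↥(F i.castSucc) + 1 ∧
        ∀ v ∈ F i.succ, Comod.coact (k := k) (A := A) v - v ⊗ₜ[k] (1 : A) ∈
          LinearMap.range ((F i.castSucc).subtype.rTensor A) := by
  classical
  let next : Submodule (Cv k A) V → Submodule (Cv k A) V := fun F =>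
    if h : F = ⊤ then F else (exists_flag_step hU h).choose
  let S : ℕ → Submodule (Cv k A) V := fun i => next^[i] ⊥
  have hS : ∀ i, S (i + 1) = next (S i) := fun i => Function.iterate_succ_apply' next i ⊥
  have hd : ∀ i, i ≤ Module.finrank k V → Module.finrank k ((S i).restrictScalars k) = i := by
    intro i
    induction i with
    | zero =>
      intro _
      refine Submodule.finrank_eq_zero.2 ?_
      simp [S]
    | succ i ih =>
      intro hi
      have hne : S i ≠ ⊤ := fun h => by
        have := ih (by omega)
        rw [h, Submodule.restrictScalars_top, finrank_top] at this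
        omega
      rw [hS]
      rw [show next (S i) = (exists_flag_step hU hne).choose from dif_neg hne,
        (exists_flag_step hU hne).choose_spec.2.2, ih (by omega)]
  refine ⟨fun i => (S i.val).restrictScalars k, ?_, ?_, fun i => isSubcomod_restrict _, fun i => ?_⟩
  · simp [S]
  · exact Submodule.eq_top_of_finrank_eq (hd _ le_rfl)
  · have hne : S i.val ≠ ⊤ := fun h => by
      have := hd i.val i.2.le
      rw [h, Submodule.restrictScalars_top, finrank_top] at this
      have := i.2
      omega
    have hs : S (i.val + 1) = (exists_flag_step hU hne).choose := by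
      rw [hS]; exact dif_neg hne
    obtain ⟨h1, h2, h3⟩ := (exists_flag_step hU hne).choose_spec
    rw [← hs] at h1 h2 h3
    simp only [Fin.val_succ, Fin.val_castSucc]
    exact ⟨fun x hx => h1 hx, h3, fun v hv => (mem_fixStep_iff_coact _ v).2 (h2 hv)⟩

end Groth.Agent.ComodBasic
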