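import Groth.Agent.ComodBasic.Unipotent
import Mathlib.RingTheory.HopfAlgebra.Convolution
import Mathlib.RingTheory.FiniteType
import Mathlib.GroupTheory.Nilpotent
import Mathlib.GroupTheory.OrderOfElement

/-!
# Points of unipotent groups
-/

namespace Groth.Agent.ComodBasic

open TensorProduct WithConv CoalgebraStruct HopfRep
open scoped commutatorElement

universe u v

variable (k : Type u) [Field k] (A : Type v) [CommRing A] [HopfAlgebra k A]

/-- a point as a convolution functional -/
noncomputable def ptHom : WithConv (A →ₐ[k] k) →* Cv k A where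
  toFun g := toConv g.ofConv.toLinearMap
  map_one' := by
    apply WithConv.ofConv_injective
    rw [convOne_eq]
    ext a
    simp [AlgHom.convOne_apply]
  map_mul' f g := AlgHom.toLinearMap_convMul f g

variable {k A}

theorem ptHom_one_apply (g : WithConv (A →ₐ[k] k)) : (ptHom k A g - 1).ofConv 1 = 0 := by
  rw [ofConv_sub, LinearMap.sub_apply, convOne_eq, Bialgebra.counit_one]
  change g.ofConv 1 - 1 = 0
  rw [map_one, sub_self]

/-- lowering the socle degree by `j` -/
def Low (j : ℕ) (ψ : Cv k A) : Prop :=
  ∀ (n : ℕ) (a : A), a ∈ socSeries k A A (n + j) → ψ • a ∈ socSeries k A A n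

theorem low_zero (ψ : Cv k A) : Low 0 ψ := fun _ _ ha => Submodule.smul_mem _ ψ ha

theorem low_one (g : WithConv (A →ₐ[k] k)) : Low 1 (ptHom k A g - 1) := fun _ _ ha =>
  smul_mem_of_fixStep ha (ptHom_one_apply g)

theorem low_add {j : ℕ} {a b : Cv k A} (ha : Low j a) (hb : Low j b) : Low j (a + b) :=
  fun n x hx => by rw [add_smul]; exact add_mem (ha n x hx) (hb n x hx)

theorem low_neg {j : ℕ} {a : Cv k A} (ha : Low j a) : Low j (-a) :=
  fun n x hx => by rw [neg_smul]; exact neg_mem (ha n x hx)

theorem low_mul_left {j : ℕ} {a : Cv k A} (c : Cv k A) (ha : Low j a) : Low j (c * a) :=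
  fun n x hx => by rw [mul_smul]; exact Submodule.smul_mem _ c (ha n x hx)

theorem low_mul_right {j : ℕ} {a : Cv k A} (c : Cv k A) (ha : Low j a) : Low j (a * c) :=
  fun n x hx => by rw [mul_smul]; exact ha n _ (Submodule.smul_mem _ c hx)

theorem low_mul {i j : ℕ} {a b : Cv k A} (ha : Low i a) (hb : Low j b) : Low (i + j) (a * b) :=
  fun n x hx => by
    rw [mul_smul]
    exact ha n _ (hb (n + i) x (by rwa [Nat.add_assoc]))

/-- points congruent to the identity to order `j` -/
noncomputable def lowGroup (j : ℕ) : Subgroup (WithConv (A →ₐ[k] k)) where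
  carrier := {g | Low j (ptHom k A g - 1)}
  one_mem' := by
    rw [Set.mem_setOf_eq, map_one, sub_self]
    intro n x _
    rw [zero_smul]
    exact zero_mem _
  mul_mem' {g h} hg hh := by
    rw [Set.mem_setOf_eq, map_mul, show ptHom k A g * ptHom k A h - 1 =
      (ptHom k A g - 1) * ptHom k A h + (ptHom k A h - 1) by noncomm_ring]
    exact low_add (low_mul_right _ hg) hh
  inv_mem' {g} hg := by
    rw [Set.mem_setOf_eq, show ptHom k A g⁻¹ - 1 = -(ptHom k A g⁻¹ * (ptHom k A g - 1)) by
      rw [mul_sub, mul_one, ← map_mul, inv_mul_cancel, map_one]; noncomm_ring]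
    exact low_neg (low_mul_left _ hg)

theorem commutator_mem {i j : ℕ} {x g : WithConv (A →ₐ[k] k)} (hx : x ∈ lowGroup i)
    (hg : g ∈ lowGroup j) : ⁅x, g⁆ ∈ lowGroup (i + j) := by
  change Low (i + j) (ptHom k A ⁅x, g⁆ - 1)
  have h : ptHom k A ⁅x, g⁆ - 1 = ((ptHom k A x - 1) * (ptHom k A g - 1) +
      -((ptHom k A g - 1) * (ptHom k A x - 1))) * (ptHom k A x⁻¹ * ptHom k A g⁻¹) := by
    have e : (ptHom k A g * ptHom k A x) * (ptHom k A x⁻¹ * ptHom k A g⁻¹) = 1 := by
      rw [← map_mul, ← map_mul, ← map_mul]
      simp [mul_assoc]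
    rw [commutatorElement_def, map_mul, map_mul, map_mul]
    nth_rw 1 [← e]
    noncomm_ring
  rw [h]
  refine low_mul_right _ (low_add (low_mul hx hg) (low_neg ?_))
  rw [Nat.add_comm]
  exact low_mul hg hx

theorem point_eq_of_smul_eq {g : WithConv (A →ₐ[k] k)} {a : A} (h : ptHom k A g • a = a) :
    g.ofConv a = counit (R := k) a := by
  have := counit_smul_regular (ptHom k A g) a
  rw [h] at this
  exact this.symm

theorem eq_one_of_finite_order (hU : IsUnipotent k A) {g : WithConv (A →ₐ[k] k)}
    (hg : IsOfFinOrder g) (hcop : ((orderOf g : ℕ) : k) ≠ 0) : g = 1 := by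
  have hm := congrArg (ptHom k A) (pow_orderOf_eq_one g)
  rw [map_pow, map_one] at hm
  have hψ := low_one g
  have key : ∀ (n : ℕ) (a : A), a ∈ socSeries k A A n → (ptHom k A g - 1) • a = 0 := by
    intro n
    induction n with
    | zero => intro a ha; rw [(Submodule.mem_bot _).1 ha, smul_zero]
    | succ n ih =>
      intro a ha
      have h2 := ih _ (hψ n a ha)
      have hstep : ptHom k A g • a = a + (ptHom k A g - 1) • a := by
        rw [sub_smul, one_smul]; abel
      have hfix : ptHom k A g • (ptHom k A g - 1) • a = (ptHom k A g - 1) • a := by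
        rw [← sub_eq_zero, ← h2]
        simp only [sub_smul, one_smul, smul_sub]
      have hp : ∀ m : ℕ, (ptHom k A g) ^ m • a = a + (m : k) • ((ptHom k A g - 1) • a) := by
        intro m
        induction m with
        | zero => simp
        | succ m im =>
          rw [pow_succ', mul_smul, im, smul_add, smul_comm (ptHom k A g), hfix, Nat.cast_succ,
            add_smul (m : k) 1, one_smul, hstep]
          abel
      have h3 := hp (orderOf g)
      rw [hm, one_smul, eq_comm, add_eq_left, smul_eq_zero] at h3
      exact h3.resolve_left hcop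
  apply WithConv.ofConv_injective
  refine AlgHom.ext fun a => ?_
  obtain ⟨n, hn⟩ := exists_mem_socSeries hU a
  have h := key n a hn
  rw [sub_smul, one_smul, sub_eq_zero] at h
  rw [point_eq_of_smul_eq h, AlgHom.convOne_apply]
  rfl

theorem isNilpotent_points [Algebra.FiniteType k A] (hU : IsUnipotent k A) :
    Group.IsNilpotent (WithConv (A →ₐ[k] k)) := by
  classical
  obtain ⟨s, hs⟩ := Algebra.FiniteType.out (R := k) (A := A)
  choose N hN using exists_mem_socSeries (k := k) hU (V := A)
  refine (nilpotent_iff_finite_descending_central_series _).2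
    ⟨s.sup N, fun n => lowGroup (k := k) (A := A) (n + 1), ⟨?_, ?_⟩, ?_⟩
  · exact eq_top_iff.2 fun g _ => low_one g
  · intro x n hx g
    exact commutator_mem (j := 1) hx (low_one g)
  · refine eq_bot_iff.2 fun g hg => Subgroup.mem_bot.2 (WithConv.ofConv_injective ?_)
    refine AlgHom.ext_of_adjoin_eq_top hs fun a ha => ?_
    have hmem : a ∈ socSeries k A A (0 + (s.sup N + 1)) :=
      socSeries_mono (by have := Finset.le_sup (f := N) ha; omega) (hN a)
    have h := (Submodule.mem_bot _).1 (hg 0 a hmem)
    rw [sub_smul, one_smul, sub_eq_zero] at h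
    rw [point_eq_of_smul_eq h, AlgHom.convOne_apply]
    rfl

end Groth.Agent.ComodBasic
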